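import Cfsg.Agent.Lib.SelfThree.Order
import Cfsg.Agent.S0494
import Cfsg.Agent.S0495

/-!
The theorem of Feit and Thompson on a self-centralizing subgroup of order 3.
-/

set_option autoImplicit false
set_option linter.style.haveILetI false

namespace Cfsg.Agent.SelfThree

universe u

section

variable {G : Type u} [Group G] [Finite G] {x : G}
  (hx : orderOf x = 3) (hC : Subgroup.centralizer ({x} : Set G) = Subgroup.zpowers x)

include hx hC in
/-- Every element of order 3 is conjugate to `x` or to its inverse. -/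
theorem conj_or {y : G} (hy : orderOf y = 3) : ∃ g, y = g * x * g⁻¹ ∨ y = g * x⁻¹ * g⁻¹ := by
  haveI : Fact (Nat.Prime 3) := ⟨Nat.prime_three⟩
  obtain ⟨S, hS⟩ := SelfCent.exists_sylow hx hC
  obtain ⟨U, hU⟩ := (IsPGroup.of_card (p := 3) (n := 1) (by rw [Nat.card_zpowers, hy, pow_one]) :
    IsPGroup 3 (Subgroup.zpowers y)).exists_le_sylow
  obtain ⟨g, hg⟩ := MulAction.exists_smul_eq G S U
  have hyU : y ∈ ((g • S : Sylow 3 G) : Subgroup G) := hg ▸ hU (Subgroup.mem_zpowers _)
  rw [Sylow.coe_subgroup_smul, hS] at hyU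
  obtain ⟨z, hz, hzy⟩ := hyU
  have hzy' : g * z * g⁻¹ = y := hzy
  obtain ⟨k, rfl⟩ := Subgroup.mem_zpowers_iff.1 hz
  refine ⟨g, ?_⟩
  rw [← zpow_mod_orderOf, hx] at hzy'
  have h1 : k % ((3 : ℕ) : ℤ) = 0 ∨ k % ((3 : ℕ) : ℤ) = 1 ∨ k % ((3 : ℕ) : ℤ) = 2 := by omega
  rcases h1 with e | e | e <;> rw [e] at hzy'
  · rw [zpow_zero, mul_one, mul_inv_cancel] at hzy'
    rw [← hzy', orderOf_one] at hy
    omega
  · rw [zpow_one] at hzy'; exact Or.inl hzy'.symm
  · refine Or.inr ?_
    have e2 : x ^ (2 : ℤ) = x⁻¹ := by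
      rw [eq_inv_iff_mul_eq_one, show x ^ (2 : ℤ) * x = x ^ 3 by group, ← hx, pow_orderOf_eq_one]
    rw [← hzy', e2]

include hx hC in
theorem centralizer_sub {H : Subgroup G} {y : G} (hyH : y ∈ H) (hy : orderOf y = 3) :
    Subgroup.centralizer ({⟨y, hyH⟩} : Set H) = Subgroup.zpowers (⟨y, hyH⟩ : H) := by
  refine le_antisymm (fun h hh => ?_) (Subgroup.zpowers_le.2 (Subgroup.mem_centralizer_singleton_iff.2 rfl))
  have h1 : (h : G) ∈ Subgroup.zpowers y := SelfCent.mem_of_commute (centralizer_eq hx hC hy)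
    (congrArg Subtype.val (Subgroup.mem_centralizer_singleton_iff.1 hh))
  obtain ⟨k, hk⟩ := Subgroup.mem_zpowers_iff.1 h1
  exact Subgroup.mem_zpowers_iff.2 ⟨k, Subtype.ext (by rw [Subgroup.coe_zpow]; exact hk)⟩

end

theorem nonprime_of_noncomm {G : Type u} [Group G] [Finite G] {a b : G} (h : a * b ≠ b * a) :
    ¬ (Nat.card G).Prime := by
  intro hp
  haveI : Fact (Nat.card G).Prime := ⟨hp⟩
  haveI : IsCyclic G := isCyclic_of_prime_card rfl
  obtain ⟨g, hg⟩ := IsCyclic.exists_generator (α := G)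
  obtain ⟨i, rfl⟩ := Subgroup.mem_zpowers_iff.1 (hg a)
  obtain ⟨j, rfl⟩ := Subgroup.mem_zpowers_iff.1 (hg b)
  exact h ((Commute.refl g).zpow_zpow i j).eq

/-- A group that normalizes its self-centralizing subgroup of order 3. -/
theorem tri_of_normal_three {G : Type u} [Group G] [Finite G] {x : G} (hx : orderOf x = 3)
    (hC : Subgroup.centralizer ({x} : Set G) = Subgroup.zpowers x)
    (hn : ∀ g : G, g * x * g⁻¹ = x ∨ g * x * g⁻¹ = x⁻¹) : Tri G := by
  classical
  refine Or.inl ⟨⊥, inferInstance, inferInstance, by rw [Subgroup.card_bot]; exact Nat.coprime_one_left 3, ?_⟩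
  by_cases hall : ∀ g : G, g * x * g⁻¹ = x
  · refine Or.inl ?_
    rw [Nat.card_congr QuotientGroup.quotientBot.toEquiv, ← Subgroup.card_top (G := G),
      show (⊤ : Subgroup G) = Subgroup.zpowers x from ?_, Nat.card_zpowers, hx]
    refine (eq_top_iff.2 fun g _ => ?_).symm
    exact SelfCent.mem_of_commute hC (mul_inv_eq_iff_eq_mul.1 (hall g))
  push Not at hall
  obtain ⟨τ, hτ⟩ := hall
  have hτx : τ * x * τ⁻¹ = x⁻¹ := (hn τ).resolve_left hτ
  have hτo := inverter_invol hx hC hx hτx
  set T := Subgroup.zpowers τ with hT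
  have hTmem : ∀ g ∈ T, g = 1 ∨ g = τ := by
    intro g hg
    obtain ⟨k, rfl⟩ := Subgroup.mem_zpowers_iff.1 hg
    rw [← zpow_mod_orderOf, hτo]
    rcases (show k % ((2 : ℕ) : ℤ) = 0 ∨ k % ((2 : ℕ) : ℤ) = 1 by omega) with e | e <;> rw [e]
    · exact Or.inl (zpow_zero _)
    · exact Or.inr (zpow_one _)
  have hcardT : Nat.card T = 2 := by rw [hT, Nat.card_zpowers, hτo]
  -- the order is 6
  let f : Subgroup.zpowers x × T → G := fun p => (p.1 : G) * (p.2 : G)
  have hτX : τ ∉ Subgroup.zpowers x := fun h => hτ (by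
    obtain ⟨k, hk⟩ := Subgroup.mem_zpowers_iff.1 h
    rw [← hk, ((Commute.refl x).zpow_left k).eq, mul_inv_cancel_right])
  have hf : Function.Bijective f := by
    refine ⟨fun p q e => ?_, fun g => ?_⟩
    · have e' : (q.1 : G)⁻¹ * (p.1 : G) = (q.2 : G) * (p.2 : G)⁻¹ := by
        have e0 : (p.1 : G) * (p.2 : G) = (q.1 : G) * (q.2 : G) := e
        calc (q.1 : G)⁻¹ * (p.1 : G) = (q.1 : G)⁻¹ * ((p.1 : G) * (p.2 : G)) * (p.2 : G)⁻¹ := by group
          _ = _ := by rw [e0]; group
      have h1 : (q.2 : G) * (p.2 : G)⁻¹ = 1 := by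
        have hmem : (q.2 : G) * (p.2 : G)⁻¹ ∈ T := mul_mem q.2.2 (inv_mem p.2.2)
        refine (hTmem _ hmem).resolve_right fun h => hτX ?_
        rw [← h, ← e']; exact mul_mem (inv_mem q.1.2) p.1.2
      rw [h1] at e'
      exact Prod.ext (Subtype.ext (inv_mul_eq_one.1 e').symm) (Subtype.ext (mul_inv_eq_one.1 h1).symm)
    · rcases hn g with h | h
      · exact ⟨(⟨g, SelfCent.mem_of_commute hC (mul_inv_eq_iff_eq_mul.1 h)⟩, 1), mul_one g⟩
      · refine ⟨(⟨g * τ⁻¹, SelfCent.mem_of_commute hC ?_⟩, ⟨τ, Subgroup.mem_zpowers τ⟩),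
          inv_mul_cancel_right g τ⟩
        have e1 : τ⁻¹ * x = x⁻¹ * τ⁻¹ := by
          rw [← hτx, Invol.inv_self hτo, mul_assoc (τ * x), Invol.mul_self hτo, mul_one]
        have e2 : g * x⁻¹ = x * g := by
          rw [← inv_inj, mul_inv_rev, mul_inv_rev, inv_inv]
          calc x * g⁻¹ = g⁻¹ * (g * x * g⁻¹) := by group
            _ = g⁻¹ * x⁻¹ := by rw [h]
        rw [mul_assoc, e1, ← mul_assoc, e2, mul_assoc]
  have hcard : Nat.card G = 6 := by
    rw [← Nat.card_congr (Equiv.ofBijective f hf), Nat.card_prod, Nat.card_zpowers, hx, hcardT]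
  have hidx : Nat.card (G ⧸ T) = 3 := by
    have := Subgroup.card_eq_card_quotient_mul_card_subgroup T
    rw [hcard, hcardT] at this
    omega
  let φ := MulAction.toPermHom G (G ⧸ T)
  have hinj : Function.Injective φ := by
    rw [← MonoidHom.ker_eq_bot_iff, Subgroup.eq_bot_iff_forall]
    intro g hg
    have h1 : ∀ q : G ⧸ T, g • q = q := fun q => by
      have := congrArg (fun σ : Equiv.Perm (G ⧸ T) => σ q) hg
      exact this
    have hg1 : g ∈ T := by
      have h0 : ((g * 1 : G) : G ⧸ T) = ((1 : G) : G ⧸ T) := h1 ((1 : G) : G ⧸ T)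
      rw [mul_one, QuotientGroup.eq, mul_one] at h0
      exact inv_mem_iff.1 h0
    rcases hTmem g hg1 with h | rfl
    · exact h
    · exfalso
      have h2 : ((g * x : G) : G ⧸ T) = ((x : G) : G ⧸ T) := h1 (x : G ⧸ T)
      rw [QuotientGroup.eq] at h2
      rcases hTmem _ h2 with h | h
      · rw [mul_inv_rev] at h
        have : g⁻¹ = 1 := by
          calc g⁻¹ = x * (x⁻¹ * g⁻¹ * x) * x⁻¹ := by group
            _ = 1 := by rw [h]; group
        exact Invol.ne_one hτo (inv_eq_one.1 this)
      · rw [mul_inv_rev, Invol.inv_self hτo] at h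
        refine hτ ?_
        rw [mul_inv_eq_iff_eq_mul]
        calc g * x = x * (x⁻¹ * g * x) := by group
          _ = x * g := by rw [h]
  have hbij : Function.Bijective φ := (Nat.bijective_iff_injective_and_card φ).2
    ⟨hinj, by rw [hcard, Nat.card_perm, hidx]; rfl⟩
  refine Or.inr ⟨(QuotientGroup.quotientBot.trans (MulEquiv.ofBijective φ hbij)).trans ?_⟩
  exact Equiv.permCongrHom (Finite.equivFinOfCardEq hidx)

theorem main : ∀ (n : ℕ) (G : Type u) [Group G] [Finite G], Nat.card G = n → ∀ x : G, orderOf x = 3 →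
    Subgroup.centralizer ({x} : Set G) = Subgroup.zpowers x → Tri G := by
  intro n
  induction n using Nat.strong_induction_on with
  | _ n IH =>
  intro G _ _ hn x hx hC
  classical
  haveI : Fact (Nat.Prime 3) := ⟨Nat.prime_three⟩
  haveI : Nontrivial G := ⟨⟨x, 1, fun e => by rw [e, orderOf_one] at hx; omega⟩⟩
  have hsub : ∀ H : Subgroup G, H ≠ ⊤ → ∀ y ∈ H, orderOf y = 3 → Tri H := by
    intro H hH y hyH hy
    refine IH (Nat.card H) ?_ H rfl ⟨y, hyH⟩ (by rw [← Subgroup.orderOf_coe]; exact hy)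
      (centralizer_sub hx hC hyH hy)
    rw [← hn]
    exact lt_of_le_of_ne (Subgroup.card_le_card_group H) fun e => hH (Subgroup.eq_top_of_card_eq H e)
  by_cases hsimp : ∀ N : Subgroup G, N.Normal → N = ⊥ ∨ N = ⊤
  · haveI : IsSimpleGroup G := ⟨hsimp⟩
    by_cases hp : (Nat.card G).Prime
    · refine tri_of_normal_three hx hC fun g => Or.inl (mul_inv_eq_iff_eq_mul.2 ?_)
      by_contra h
      exact nonprime_of_noncomm h hp
    rcases simple_order hp hx hC hsub with h | h
    · obtain ⟨e⟩ := S0494.result (G := G) h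
      exact Or.inr (Or.inl ⟨⊥, inferInstance, ⟨⟨fun a b => Subsingleton.elim _ _⟩⟩,
        fun n hn => by rw [Subgroup.mem_bot.1 hn, one_pow], ⟨QuotientGroup.quotientBot.trans e⟩⟩)
    · haveI : Fact (Nat.Prime 7) := ⟨by norm_num⟩
      exact Or.inr (Or.inr (S0495.result (G := G) h (F := ZMod 7) (ZMod.card 7)))
  · -- a proper normal subgroup
    push Not at hsimp
    obtain ⟨N₀, hN₀, hN₀b, hN₀t⟩ := hsimp
    -- it suffices to find one of order prime to 3, or to be small
    suffices h : (∃ M : Subgroup G, M.Normal ∧ M ≠ ⊥ ∧ ¬ 3 ∣ Nat.card M) ∨ Tri G by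
      rcases h with ⟨M, hM, hMb, hM3⟩ | h
      swap
      · exact h
      have hxM : x ∉ M := fun h => hM3 (hx ▸ Subgroup.orderOf_dvd_natCard M h)
      have hxq : orderOf (QuotientGroup.mk' M x) = 3 := by
        refine orderOf_eq_prime ?_ fun e => hxM ((QuotientGroup.eq_one_iff x).1 e)
        rw [← map_pow, ← hx, pow_orderOf_eq_one, map_one]
      have hCq : Subgroup.centralizer ({QuotientGroup.mk' M x} : Set (G ⧸ M)) =
          Subgroup.zpowers (QuotientGroup.mk' M x) := by
        refine le_antisymm (fun q hq => ?_) (Subgroup.zpowers_le.2 (Subgroup.mem_centralizer_singleton_iff.2 rfl))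
        obtain ⟨g, rfl⟩ := QuotientGroup.mk'_surjective M q
        have h1 : g * x * g⁻¹ * x⁻¹ ∈ M := by
          refine (QuotientGroup.eq_one_iff _).1 ?_
          rw [← QuotientGroup.mk'_apply, map_mul, map_mul, map_mul, map_inv, map_inv,
            Subgroup.mem_centralizer_singleton_iff.1 hq, mul_inv_cancel_right, mul_inv_cancel]
        have h2 := SelfCent.mem_sup hx hC M hM3 h1
        rw [Subgroup.mem_sup_of_normal_left] at h2
        obtain ⟨m, hm, z, hz, rfl⟩ := h2
        obtain ⟨k, rfl⟩ := Subgroup.mem_zpowers_iff.1 hz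
        refine Subgroup.mem_zpowers_iff.2 ⟨k, ?_⟩
        rw [map_mul, show QuotientGroup.mk' M m = 1 from (QuotientGroup.eq_one_iff m).2 hm, one_mul, map_zpow]
      have hlt : Nat.card (G ⧸ M) < n := by
        have h1 := Subgroup.card_eq_card_quotient_mul_card_subgroup M
        have h2 : 1 < Nat.card M := (Subgroup.one_lt_card_iff_ne_bot M).2 hMb
        have h3 : 0 < Nat.card (G ⧸ M) := Nat.card_pos
        rw [← hn, h1]
        exact lt_mul_of_one_lt_right h3 h2
      rcases IH _ hlt (G ⧸ M) rfl _ hxq hCq with ⟨K, hK, -, hKcop, hquot⟩ | ⟨K, hK, -, hKexp, ⟨e⟩⟩ | he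
      · set ψ := (QuotientGroup.mk' K).comp (QuotientGroup.mk' M) with hψ
        have hψs : Function.Surjective ψ := (QuotientGroup.mk'_surjective K).comp (QuotientGroup.mk'_surjective M)
        have hL3 : ¬ 3 ∣ Nat.card ψ.ker := fun h => by
          obtain ⟨y, hy⟩ := exists_prime_orderOf_dvd_card' (G := ψ.ker) 3 h
          rw [← Subgroup.orderOf_coe] at hy
          have hyK : QuotientGroup.mk' M (y : G) ∈ K := (QuotientGroup.eq_one_iff _).1 y.2
          have h1 := Nat.eq_one_of_dvd_coprimes hKcop (Subgroup.orderOf_dvd_natCard K hyK)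
            (hy ▸ orderOf_map_dvd (QuotientGroup.mk' M) (y : G))
          have h2 : (y : G) ∈ M := (QuotientGroup.eq_one_iff _).1 (orderOf_eq_one_iff.1 h1)
          exact hM3 (hy ▸ Subgroup.orderOf_dvd_natCard M h2)
        have hxL : Cube ψ.ker x := by
          refine ⟨fun h => hL3 (hx ▸ Subgroup.orderOf_dvd_natCard _ h), ?_⟩
          rw [← hx, pow_orderOf_eq_one]; exact one_mem _
        refine Or.inl ⟨ψ.ker, inferInstance, (fpf_of_cube hx hC ψ.ker hL3 hxL).nilpotent,
          ((Nat.prime_three.coprime_iff_not_dvd).2 hL3).symm, ?_⟩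
        let eq := QuotientGroup.quotientKerEquivOfSurjective ψ hψs
        rcases hquot with h3 | ⟨⟨f⟩⟩
        · exact Or.inl (by rw [Nat.card_congr eq.toEquiv, h3])
        · exact Or.inr ⟨eq.trans f⟩
      · set ψ := (QuotientGroup.mk' K).comp (QuotientGroup.mk' M) with hψ
        have hψs : Function.Surjective ψ := (QuotientGroup.mk'_surjective K).comp (QuotientGroup.mk'_surjective M)
        have hL3 : ¬ 3 ∣ Nat.card ψ.ker := fun h => by
          obtain ⟨y, hy⟩ := exists_prime_orderOf_dvd_card' (G := ψ.ker) 3 h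
          rw [← Subgroup.orderOf_coe] at hy
          have hyK : QuotientGroup.mk' M (y : G) ∈ K := (QuotientGroup.eq_one_iff _).1 y.2
          have h1 := orderOf_dvd_of_pow_eq_one (hKexp _ hyK)
          have h3 := hy ▸ orderOf_map_dvd (QuotientGroup.mk' M) (y : G)
          have h4 := Nat.eq_one_of_dvd_coprimes (by norm_num : Nat.Coprime 2 3) h1 h3
          have h2 : (y : G) ∈ M := (QuotientGroup.eq_one_iff _).1 (orderOf_eq_one_iff.1 h4)
          exact hM3 (hy ▸ Subgroup.orderOf_dvd_natCard M h2)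
        let eq := (QuotientGroup.quotientKerEquivOfSurjective ψ hψs).trans e
        obtain ⟨h1, h2⟩ := elementary_of_alt5 hx hC ψ.ker hL3 eq
        exact Or.inr (Or.inl ⟨ψ.ker, inferInstance, h1, h2, ⟨eq⟩⟩)
      · obtain ⟨e⟩ := he
        haveI := psl7_simple
        haveI : Nontrivial (G ⧸ M) := e.toEquiv.nontrivial
        exact absurd (bot_of_psl7 hx hC M hM3 e
          (IsSimpleGroup.isSimpleGroup_of_surjective e.symm.toMonoidHom e.symm.surjective)) hMb
    by_cases h3 : 3 ∣ Nat.card N₀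
    swap
    · exact Or.inl ⟨N₀, hN₀, hN₀b, h3⟩
    have hxN : x ∈ N₀ := SelfCent.mem_of_dvd hx hC N₀ h3
    set xN : N₀ := ⟨x, hxN⟩
    have hxNo : orderOf xN = 3 := by rw [← Subgroup.orderOf_coe]; exact hx
    have hCN := centralizer_sub hx hC hxN hx
    -- a normal subgroup of `N₀` of order prime to 3 with small quotient is normal in `G`
    have push : ∀ K : Subgroup N₀, K.Normal → ¬ 3 ∣ Nat.card K →
        (∀ L : Subgroup N₀, L.Normal → ¬ 3 ∣ Nat.card L → L ≤ K) → K ≠ ⊥ →
        ∃ M : Subgroup G, M.Normal ∧ M ≠ ⊥ ∧ ¬ 3 ∣ Nat.card M := by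
      intro K hK hK3 hmax hKb
      refine ⟨K.map N₀.subtype, ⟨fun m hm g => ?_⟩, ?_, ?_⟩
      · obtain ⟨k, hk, rfl⟩ := hm
        let φ : N₀ ≃* N₀ := MulAut.conjNormal g
        haveI : (K.map φ.toMonoidHom).Normal := Subgroup.Normal.map hK _ φ.surjective
        have h1 := hmax (K.map φ.toMonoidHom) inferInstance
          (by rw [← Nat.card_congr (K.equivMapOfInjective φ.toMonoidHom φ.injective).toEquiv]; exact hK3) ⟨k, hk, rfl⟩
        exact ⟨φ k, h1, MulAut.conjNormal_apply g k⟩
      · rw [Ne, Subgroup.map_eq_bot_iff_of_injective _ N₀.subtype_injective]; exact hKb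
      · rw [Subgroup.card_map_of_injective N₀.subtype_injective]; exact hK3
    have simple_case : IsSimpleGroup N₀ → ¬ (Nat.card N₀).Prime → False := by
      intro hs hp
      haveI := hs
      refine hN₀t (eq_top_iff.2 fun g _ => ?_)
      obtain ⟨t, -, ht⟩ := exists_inverter hp hxNo hCN
      have hy : g * x * g⁻¹ ∈ N₀ := hN₀.conj_mem x hxN g
      obtain ⟨m, hm⟩ := conj_or hxNo hCN (y := ⟨_, hy⟩)
        (by rw [← Subgroup.orderOf_coe]; show orderOf (g * x * g⁻¹) = 3; rw [Invol.order_conj, hx])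
      obtain ⟨m', hm'⟩ : ∃ m' : N₀, g * x * g⁻¹ = (m' : G) * x * (m' : G)⁻¹ := by
        rcases hm with e | e
        · exact ⟨m, congrArg Subtype.val e⟩
        · refine ⟨m * t, ?_⟩
          rw [← ht] at e
          have e' : g * x * g⁻¹ = (m : G) * ((t : G) * x * (t : G)⁻¹) * (m : G)⁻¹ := congrArg Subtype.val e
          rw [e', Subgroup.coe_mul]
          group
      have h1 := SelfCent.conj_eq_iff hC hm'
      have h2 : (m' : G)⁻¹ * g ∈ N₀ := (Subgroup.zpowers_le.2 hxN) h1
      have := mul_mem m'.2 h2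
      rwa [mul_inv_cancel_left] at this
    rcases hsub N₀ hN₀t x hxN hx with ⟨K, hK, -, hKcop, hquot⟩ | ⟨K, hK, -, hKexp, ⟨e⟩⟩ | he
    · have hK3 : ¬ 3 ∣ Nat.card K := fun h => by
        have := Nat.eq_one_of_dvd_coprimes hKcop h dvd_rfl
        omega
      have hxK : xN ∉ K := fun h => hK3 (hxNo ▸ Subgroup.orderOf_dvd_natCard K h)
      by_cases hKb : K = ⊥
      · -- the group normalizes `X`
        subst hKb
        have hsmall : Nat.card N₀ ≤ 6 := by
          rw [← Nat.card_congr (QuotientGroup.quotientBot (G := N₀)).toEquiv]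
          rcases hquot with h | ⟨⟨f⟩⟩
          · omega
          · rw [Nat.card_congr f.toEquiv, Nat.card_perm, Nat.card_fin]; decide
        refine Or.inr (tri_of_normal_three hx hC fun g => ?_)
        have hy : g * x * g⁻¹ ∈ N₀ := hN₀.conj_mem x hxN g
        have hyo : orderOf (g * x * g⁻¹) = 3 := by rw [Invol.order_conj, hx]
        have hmem : g * x * g⁻¹ ∈ Subgroup.zpowers x := by
          by_contra hne
          let f : Subgroup.zpowers x × Subgroup.zpowers (g * x * g⁻¹) → N₀ := fun p =>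
            ⟨(p.1 : G) * (p.2 : G), mul_mem (Subgroup.zpowers_le.2 hxN p.1.2) (Subgroup.zpowers_le.2 hy p.2.2)⟩
          have hf : Function.Injective f := fun p q e => by
            have e0 : (p.1 : G) * (p.2 : G) = (q.1 : G) * (q.2 : G) := congrArg Subtype.val e
            have e' : (q.1 : G)⁻¹ * (p.1 : G) = (q.2 : G) * (p.2 : G)⁻¹ := by
              calc (q.1 : G)⁻¹ * (p.1 : G) = (q.1 : G)⁻¹ * ((p.1 : G) * (p.2 : G)) * (p.2 : G)⁻¹ := by group
                _ = _ := by rw [e0]; group
            have h1 : (q.2 : G) * (p.2 : G)⁻¹ = 1 := by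
              by_contra h1
              have hmx : (q.2 : G) * (p.2 : G)⁻¹ ∈ Subgroup.zpowers x := e' ▸ mul_mem (inv_mem q.1.2) p.1.2
              have hmy : (q.2 : G) * (p.2 : G)⁻¹ ∈ Subgroup.zpowers (g * x * g⁻¹) :=
                mul_mem q.2.2 (inv_mem p.2.2)
              refine hne ?_
              rw [← SelfCent.zpowers_eq hx hmx h1, SelfCent.zpowers_eq hyo hmy h1]
              exact Subgroup.mem_zpowers _
            rw [h1] at e'
            exact Prod.ext (Subtype.ext (inv_mul_eq_one.1 e').symm) (Subtype.ext (mul_inv_eq_one.1 h1).symm)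
          have := Nat.card_le_card_of_injective f hf
          rw [Nat.card_prod, Nat.card_zpowers, Nat.card_zpowers, hx, hyo] at this
          omega
        obtain ⟨k, hk⟩ := Subgroup.mem_zpowers_iff.1 hmem
        rw [← zpow_mod_orderOf, hx] at hk
        have h1 : k % ((3 : ℕ) : ℤ) = 0 ∨ k % ((3 : ℕ) : ℤ) = 1 ∨ k % ((3 : ℕ) : ℤ) = 2 := by omega
        rcases h1 with e | e | e <;> rw [e] at hk
        · rw [← hk, zpow_zero, orderOf_one] at hyo
          omega
        · exact Or.inl (by rw [← hk, zpow_one])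
        · refine Or.inr ?_
          rw [← hk, eq_inv_iff_mul_eq_one, show x ^ (2 : ℤ) * x = x ^ 3 by group, ← hx, pow_orderOf_eq_one]
      · refine Or.inl (push K hK hK3 (fun L hL hL3 q hq => ?_) hKb)
        have hFL : Fpf xN L := fpf_of_cube hxNo hCN L hL3
          ⟨fun h => hL3 (hxNo ▸ Subgroup.orderOf_dvd_natCard L h), by rw [← hxNo, pow_orderOf_eq_one]; exact one_mem _⟩
        obtain ⟨u, -, e⟩ := hFL.exists_eq hq
        have hy3 : (QuotientGroup.mk' K xN) ^ 3 = 1 := by rw [← map_pow, ← hxNo, pow_orderOf_eq_one, map_one]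
        have h3q : (QuotientGroup.mk' K q) ^ 3 = 1 := by
          rcases hquot with hq3 | ⟨⟨f⟩⟩
          · have := pow_card_eq_one' (x := QuotientGroup.mk' K q)
            rwa [hq3] at this
          · apply f.injective
            rw [e, map_pow, map_mul, map_mul, map_mul, map_inv, map_inv, map_mul, map_mul, map_mul, map_inv,
              map_inv, map_one]
            have hb1 : f (QuotientGroup.mk' K xN) ≠ 1 := fun h =>
              hxK ((QuotientGroup.eq_one_iff _).1 (f.map_eq_one_iff.1 h))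
            have hb3 : (f (QuotientGroup.mk' K xN)) ^ 3 = 1 := by rw [← map_pow, hy3, map_one]
            have := (perm3_facts (f (QuotientGroup.mk' K u))⁻¹ _ hb1 hb3).2
            rw [inv_inv] at this
            rw [← mul_assoc, ← mul_assoc]
            rcases this with h | h
            · rw [h, one_pow]
            · exact h
        refine (QuotientGroup.eq_one_iff q).1 (orderOf_eq_one_iff.1 ?_)
        exact Nat.eq_one_of_dvd_coprimes (((Nat.prime_three.coprime_iff_not_dvd).2 hL3))
          (orderOf_dvd_of_pow_eq_one h3q)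
          ((orderOf_map_dvd (QuotientGroup.mk' K) q).trans (Subgroup.orderOf_dvd_natCard L hq))
    · have hK3 : ¬ 3 ∣ Nat.card K := fun h => by
        obtain ⟨y, hy⟩ := exists_prime_orderOf_dvd_card' (G := K) 3 h
        have h1 := orderOf_dvd_of_pow_eq_one (hKexp _ y.2)
        rw [Subgroup.orderOf_coe, hy] at h1
        omega
      haveI : IsSimpleGroup (alternatingGroup (Fin 5)) := alternatingGroup.isSimpleGroup_five
      haveI : Nontrivial (N₀ ⧸ K) := e.toEquiv.nontrivial
      haveI hsq : IsSimpleGroup (N₀ ⧸ K) :=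
        IsSimpleGroup.isSimpleGroup_of_surjective e.symm.toMonoidHom e.symm.surjective
      by_cases hKb : K = ⊥
      · exfalso
        subst hKb
        let e0 : N₀ ≃* alternatingGroup (Fin 5) := (QuotientGroup.quotientBot (G := N₀)).symm.trans e
        haveI : Nontrivial N₀ := e0.toEquiv.nontrivial
        refine simple_case (IsSimpleGroup.isSimpleGroup_of_surjective e0.symm.toMonoidHom e0.symm.surjective) ?_
        rw [Nat.card_congr e0.toEquiv, nat_card_alternatingGroup, Nat.card_fin]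
        decide
      · refine Or.inl (push K hK hK3 (fun L hL hL3 => ?_) hKb)
        haveI : (L.map (QuotientGroup.mk' K)).Normal := Subgroup.Normal.map hL _ (QuotientGroup.mk'_surjective K)
        rcases IsSimpleGroup.eq_bot_or_eq_top_of_normal (L.map (QuotientGroup.mk' K)) inferInstance with h | h
        · exact fun q hq => (QuotientGroup.eq_one_iff q).1 (Subgroup.mem_bot.1 (h ▸ Subgroup.mem_map_of_mem _ hq))
        · exfalso
          have hd := Subgroup.card_map_dvd (H := L) (f := QuotientGroup.mk' K)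
          rw [h, Subgroup.card_top, Nat.card_congr e.toEquiv, nat_card_alternatingGroup, Nat.card_fin] at hd
          exact hL3 (Dvd.dvd.trans (by decide) hd)
    · exfalso
      obtain ⟨e⟩ := he
      haveI := psl7_simple
      haveI : Nontrivial N₀ := e.toEquiv.nontrivial
      have hs : IsSimpleGroup N₀ :=
        IsSimpleGroup.isSimpleGroup_of_surjective e.symm.toMonoidHom e.symm.surjective
      refine simple_case hs fun hp => ?_
      haveI : Fact (Nat.card N₀).Prime := ⟨hp⟩
      haveI : IsCyclic N₀ := isCyclic_of_prime_card rfl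
      obtain ⟨g₀, s₀, z₀, hT, -⟩ := psl7_data
      obtain ⟨q, hq⟩ := e.surjective g₀
      obtain ⟨r, hr⟩ := e.surjective s₀
      refine hT.2.2.2.2 ?_
      rw [← hq, ← hr, ← map_mul, ← map_commutatorElement,
        commutatorElement_eq_one_iff_mul_comm.2 (IsCyclic.commutative.is_comm.comm (r * q) q), map_one]

end Cfsg.Agent.SelfThree
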