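import Cfsg.Agent.Lib.SelfThree.FPF
import Cfsg.Agent.Lib.Char.SelfCentralizing

/-!
Extensions of `A₅` and of `L₂(7)` in which every element of order 3 is self-centralizing.
-/

set_option autoImplicit false

namespace Cfsg.Agent.SelfThree

open scoped commutatorElement

variable {G : Type*} [Group G] [Finite G] {x : G}
  (hx : orderOf x = 3) (hC : Subgroup.centralizer ({x} : Set G) = Subgroup.zpowers x)

include hx hC in
/-- Every element of order 3 is self-centralizing. -/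
theorem centralizer_eq {y : G} (hy : orderOf y = 3) :
    Subgroup.centralizer ({y} : Set G) = Subgroup.zpowers y := by
  haveI : Fact (Nat.Prime 3) := ⟨Nat.prime_three⟩
  obtain ⟨S, hS⟩ := SelfCent.exists_sylow hx hC
  obtain ⟨U, hU⟩ := (IsPGroup.of_card (p := 3) (n := 1) (by rw [Nat.card_zpowers, hy, pow_one]) :
    IsPGroup 3 (Subgroup.zpowers y)).exists_le_sylow
  obtain ⟨g, hg⟩ := MulAction.exists_smul_eq G S U
  have hyU : y ∈ ((g • S : Sylow 3 G) : Subgroup G) := hg ▸ hU (Subgroup.mem_zpowers _)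
  rw [Sylow.coe_subgroup_smul, hS] at hyU
  obtain ⟨z, hz, hzy⟩ := hyU
  have hzy' : g * z * g⁻¹ = y := hzy
  have hz1 : z ≠ 1 := by
    rintro rfl
    rw [mul_one, mul_inv_cancel] at hzy'
    rw [← hzy', orderOf_one] at hy
    omega
  refine le_antisymm (fun h hh => ?_) (Subgroup.zpowers_le.2 (Subgroup.mem_centralizer_singleton_iff.2 rfl))
  have hh' : (g⁻¹ * h * g) * z = z * (g⁻¹ * h * g) := by
    have := Subgroup.mem_centralizer_singleton_iff.1 hh
    rw [← hzy'] at this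
    calc g⁻¹ * h * g * z = g⁻¹ * (h * (g * z * g⁻¹)) * g := by group
      _ = g⁻¹ * (g * z * g⁻¹ * h) * g := by rw [this]
      _ = z * (g⁻¹ * h * g) := by group
  have h1 := SelfCent.mem_of_commute' hx hC hz hz1 hh'
  rw [← SelfCent.zpowers_eq hx hz hz1] at h1
  obtain ⟨k, hk⟩ := Subgroup.mem_zpowers_iff.1 h1
  refine Subgroup.mem_zpowers_iff.2 ⟨k, ?_⟩
  rw [← hzy', conj_zpow, hk]
  group

/-- An element of order 3 modulo a normal subgroup of order prime to 3. -/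
def Cube (M : Subgroup G) (g : G) : Prop := g ∉ M ∧ g ^ 3 ∈ M

section

variable (M : Subgroup G) [M.Normal] (hM : ¬ 3 ∣ Nat.card M)

include hx hC hM in
theorem fpf_of_cube {g : G} (hg : Cube M g) : Fpf g M := by
  haveI : Fact (Nat.Prime 3) := ⟨Nat.prime_three⟩
  have hq : orderOf (QuotientGroup.mk' M g) = 3 := by
    refine orderOf_eq_prime ?_ ?_
    · rw [← map_pow]; exact (QuotientGroup.eq_one_iff _).2 hg.2
    · exact fun h => hg.1 ((QuotientGroup.eq_one_iff _).1 h)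
  have h3 : 3 ∣ orderOf g := hq ▸ orderOf_map_dvd _ g
  set y := g ^ (orderOf g / 3) with hy
  have hyo : orderOf y = 3 := orderOf_pow_orderOf_div (orderOf_pos g).ne' h3
  have hgy : g ∈ Subgroup.zpowers y := by
    rw [← centralizer_eq hx hC hyo, Subgroup.mem_centralizer_singleton_iff]
    exact ((Commute.refl g).pow_right _).eq
  have hgo : orderOf g = 3 := by
    refine Nat.dvd_antisymm ?_ h3
    have := Subgroup.orderOf_dvd_natCard _ hgy
    rwa [Nat.card_zpowers, hyo] at this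
  refine ⟨by rw [← hgo, pow_orderOf_eq_one], fun q hq' => Subgroup.Normal.conj_mem inferInstance q hq' g,
    fun q hq' hc => ?_⟩
  have hqz : q ∈ Subgroup.zpowers g := by
    rw [← centralizer_eq hx hC hgo, Subgroup.mem_centralizer_singleton_iff]
    exact hc.symm.eq
  by_contra hq1
  apply hM
  have := Subgroup.card_dvd_of_le (Subgroup.zpowers_le.2 hq')
  rwa [SelfCent.zpowers_eq hgo hqz hq1, Nat.card_zpowers, hgo] at this

/-- A tetrahedral pair modulo `M`. -/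
structure Tetra (g s : G) : Prop where
  hg : Cube M g
  hsg : Cube M (s * g)
  hgsg : Cube M (g * (s * g))
  rel : s * g * (s * g) * s⁻¹ * g ∈ M
  ncomm : ⁅s * g, g⁆ ∉ M

variable {A : Subgroup G} [hA : A.Normal] (hAM : A ≤ M)
  (hAc : ∀ a ∈ A, ∀ b ∈ M, Commute a b)

include hAc in
omit [Finite G] hA in
theorem conj_congr {u v a : G} (ha : a ∈ A) (h : v⁻¹ * u ∈ M) : u * a * u⁻¹ = v * a * v⁻¹ := by
  have := (hAc a ha _ h).eq
  calc u * a * u⁻¹ = v * ((v⁻¹ * u) * a) * u⁻¹ := by group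
    _ = v * (a * (v⁻¹ * u)) * u⁻¹ := by rw [this]
    _ = _ := by group

include hx hC hM hAM hAc in
/-- In the presence of a tetrahedral pair, the involution fixes all squares. -/
theorem sq_fixed {g s : G} (ht : Tetra M g s) {a : G} (ha : a ∈ A) :
    s * a ^ 2 * s⁻¹ = a ^ 2 := by
  have hg := fpf_of_cube hx hC M hM ht.hg
  have hy := fpf_of_cube hx hC M hM ht.hsg
  let F : G → G := fun a => s * a * s⁻¹ * a⁻¹
  have cA : ∀ a ∈ A, ∀ b ∈ A, a * b = b * a := fun a ha b hb => (hAc a ha b (hAM hb)).eq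
  have step : ∀ a ∈ A, F (g * a * g⁻¹) = (g⁻¹ * F a * g)⁻¹ := by
    intro a ha
    have h1 := hg.prod_eq (hAM ha)
    have h2 := hy.prod_eq (hAM ha)
    have h2a : (s * g)⁻¹ * a * (s * g) = g⁻¹ * (s * a * s⁻¹) * g := by
      rw [show (s * g)⁻¹ * a * (s * g) = (s * g)⁻¹ * a * ((s * g)⁻¹)⁻¹ by rw [inv_inv],
        conj_congr M hAc (v := g⁻¹ * s) ha]
      · group
      · have h3 : (s * g) ^ 3 = 1 := hy.cube
        have e : (s * g)⁻¹ = s * g * (s * g) :=
          inv_eq_of_mul_eq_one_right (by simpa [pow_three, mul_assoc] using h3)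
        rw [e]
        have := Subgroup.Normal.conj_mem inferInstance _ ht.rel (s⁻¹ * g)
        convert this using 1
        group
    rw [h2a] at h2
    show s * (g * a * g⁻¹) * s⁻¹ * (g * a * g⁻¹)⁻¹ = (g⁻¹ * (s * a * s⁻¹ * a⁻¹) * g)⁻¹
    have e2 : s * g * a * (s * g)⁻¹ = s * (g * a * g⁻¹) * s⁻¹ := by group
    rw [e2] at h2
    set P := s * (g * a * g⁻¹) * s⁻¹
    set R := g⁻¹ * (s * a * s⁻¹) * g
    set P' := g * a * g⁻¹
    set R' := g⁻¹ * a * g
    have hP' : P' ∈ A := hA.conj_mem _ ha g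
    have hR' : R' ∈ A := by simpa using hA.conj_mem _ ha g⁻¹
    have hR : R ∈ A := by simpa using hA.conj_mem _ (hA.conj_mem _ ha s) g⁻¹
    rw [mul_assoc] at h1 h2
    have e3 : P * R = P' * R' := (inv_eq_of_mul_eq_one_right h2).symm.trans (inv_eq_of_mul_eq_one_right h1)
    have e4 : (g⁻¹ * (s * a * s⁻¹ * a⁻¹) * g)⁻¹ = R' * R⁻¹ := by
      show _ = g⁻¹ * a * g * (g⁻¹ * (s * a * s⁻¹) * g)⁻¹
      group
    rw [e4, mul_inv_eq_iff_eq_mul, mul_assoc, cA _ (inv_mem hR) _ hP', ← mul_assoc,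
      cA _ hR' _ hP', ← e3, mul_inv_cancel_right]
  have h2 := step a ha
  have h3 := step _ (hA.conj_mem _ ha g)
  have h4 := step _ (hA.conj_mem _ (hA.conj_mem _ ha g) g)
  rw [h2] at h3
  rw [h3] at h4
  have e : g * (g * (g * a * g⁻¹) * g⁻¹) * g⁻¹ = a := by
    rw [show g * (g * (g * a * g⁻¹) * g⁻¹) * g⁻¹ = g ^ 3 * a * (g ^ 3)⁻¹ by
      simp [pow_three, mul_assoc], hg.cube]
    group
  rw [e] at h4
  have e' : (g⁻¹ * (g⁻¹ * (g⁻¹ * F a * g)⁻¹ * g)⁻¹ * g)⁻¹ = (F a)⁻¹ := by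
    rw [show (g⁻¹ * (g⁻¹ * (g⁻¹ * F a * g)⁻¹ * g)⁻¹ * g)⁻¹ = (g ^ 3)⁻¹ * (F a)⁻¹ * g ^ 3 by
      simp [pow_three, mul_assoc], hg.cube]
    group
  rw [e'] at h4
  have h5 : s * a * s⁻¹ * a⁻¹ * (s * a * s⁻¹ * a⁻¹) = 1 := mul_eq_one_iff_eq_inv.2 h4
  have hsa : s * a * s⁻¹ ∈ A := hA.conj_mem _ ha s
  rw [show s * a ^ 2 * s⁻¹ = s * a * s⁻¹ * (s * a * s⁻¹) by rw [sq]; group, ← mul_inv_eq_one, sq,
    mul_inv_rev, ← h5]
  rw [mul_assoc (s * a * s⁻¹) a⁻¹, ← mul_assoc a⁻¹, cA _ (inv_mem ha) _ hsa]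
  group

include hx hC hM in
/-- A tetrahedral pair and a simple quotient force exponent 2 on central subgroups. -/
theorem sq_eq_one (hs : IsSimpleGroup (G ⧸ M)) {g s : G} (ht : Tetra M g s)
    (hAM : A ≤ M) (hAc : ∀ a ∈ A, ∀ b ∈ M, Commute a b) {a : G} (ha : a ∈ A) : a ^ 2 = 1 := by
  let K : Subgroup G := Subgroup.centralizer {y : G | ∃ a ∈ A, a ^ 2 = y}
  haveI : K.Normal := ⟨fun n hn h => by
    rw [Subgroup.mem_centralizer_iff] at hn ⊢
    rintro _ ⟨b, hb, rfl⟩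
    have h1 := hn _ ⟨h⁻¹ * b * h, by simpa using hA.conj_mem _ hb h⁻¹, rfl⟩
    rw [show (h⁻¹ * b * h) ^ 2 = h⁻¹ * b ^ 2 * h by rw [sq, sq]; group] at h1
    calc b ^ 2 * (h * n * h⁻¹) = h * (h⁻¹ * b ^ 2 * h * n) * h⁻¹ := by group
      _ = h * (n * (h⁻¹ * b ^ 2 * h)) * h⁻¹ := by rw [h1]
      _ = h * n * h⁻¹ * b ^ 2 := by group⟩
  have hMK : M ≤ K := fun m hm => by
    rw [Subgroup.mem_centralizer_iff]
    rintro _ ⟨b, hb, rfl⟩
    exact (hAc _ (pow_mem hb 2) m hm).eq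
  have hsK : s ∈ K := by
    rw [Subgroup.mem_centralizer_iff]
    rintro _ ⟨b, hb, rfl⟩
    have := sq_fixed hx hC M hM hAM hAc ht hb
    exact (mul_inv_eq_iff_eq_mul.1 this).symm
  have hsM : s ∉ M := fun h => ht.ncomm (by
    rw [commutatorElement_def]
    have := mul_mem h (Subgroup.Normal.conj_mem (inferInstance : M.Normal) _ (inv_mem h) g)
    convert this using 1
    group)
  have hK : K = ⊤ := by
    haveI : (K.map (QuotientGroup.mk' M)).Normal :=
      Subgroup.Normal.map inferInstance _ (QuotientGroup.mk'_surjective M)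
    rcases (IsSimpleGroup.eq_bot_or_eq_top_of_normal (K.map (QuotientGroup.mk' M)) inferInstance) with h | h
    · exact absurd ((QuotientGroup.eq_one_iff s).1 (Subgroup.mem_bot.1
        (h ▸ Subgroup.mem_map_of_mem _ hsK))) hsM
    · have := congrArg (Subgroup.comap (QuotientGroup.mk' M)) h
      rwa [Subgroup.comap_map_eq_self (by rw [QuotientGroup.ker_mk']; exact hMK),
        Subgroup.comap_top] at this
  refine (fpf_of_cube hx hC M hM ht.hg).fixed _ (hAM (pow_mem ha 2)) ?_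
  have := (hK ▸ Subgroup.mem_top g : g ∈ K)
  exact ((Subgroup.mem_centralizer_iff.1 this) _ ⟨a, ha, rfl⟩).symm

omit [Finite G] in
/-- A normal subgroup of a group with simple quotient containing `M` and an outside element is everything. -/
theorem eq_top_of_simple (hs : IsSimpleGroup (G ⧸ M)) (K : Subgroup G) [K.Normal] (hMK : M ≤ K)
    {k : G} (hk : k ∈ K) (hkM : k ∉ M) : K = ⊤ := by
  haveI : (K.map (QuotientGroup.mk' M)).Normal :=
    Subgroup.Normal.map inferInstance _ (QuotientGroup.mk'_surjective M)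
  rcases (IsSimpleGroup.eq_bot_or_eq_top_of_normal (K.map (QuotientGroup.mk' M)) inferInstance) with h | h
  · exact absurd ((QuotientGroup.eq_one_iff k).1 (Subgroup.mem_bot.1
      (h ▸ Subgroup.mem_map_of_mem _ hk))) hkM
  · have := congrArg (Subgroup.comap (QuotientGroup.mk' M)) h
    rwa [Subgroup.comap_map_eq_self (by rw [QuotientGroup.ker_mk']; exact hMK),
      Subgroup.comap_top] at this

include hx hC hM in
/-- An element of `M` with central commutators is central. -/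
theorem comm_eq_one (hs : IsSimpleGroup (G ⧸ M)) {g s : G} (ht : Tetra M g s) {a b : G}
    (ha : a ∈ M) (hac : ∀ b ∈ M, ∀ c ∈ M, Commute ⁅a, b⁆ c) (hb : b ∈ M) : ⁅a, b⁆ = 1 := by
  let T : Set G := {a | a ∈ M ∧ ∀ b ∈ M, ∀ c ∈ M, Commute ⁅a, b⁆ c}
  have hN : M.Normal := inferInstance
  have hMc : ∀ {a b : G}, a ∈ M → b ∈ M → ⁅a, b⁆ ∈ M := fun {a b} ha hb => by
    rw [commutatorElement_def]
    exact mul_mem (mul_mem (mul_mem ha hb) (inv_mem ha)) (inv_mem hb)
  have hT : ∀ {a : G} (Y : G), a ∈ T → Y * a * Y⁻¹ ∈ T := fun {a} Y ha => by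
    refine ⟨hN.conj_mem _ ha.1 Y, fun b hb c hc => ?_⟩
    have h1 := (ha.2 (Y⁻¹ * b * Y) (by simpa using hN.conj_mem _ hb Y⁻¹) (Y⁻¹ * c * Y)
      (by simpa using hN.conj_mem _ hc Y⁻¹)).map (MulAut.conj Y).toMonoidHom
    have e1 : (MulAut.conj Y).toMonoidHom ⁅a, Y⁻¹ * b * Y⁆ = ⁅Y * a * Y⁻¹, b⁆ := by
      rw [map_commutatorElement]
      congr 1
      show Y * (Y⁻¹ * b * Y) * Y⁻¹ = b
      group
    have e2 : (MulAut.conj Y).toMonoidHom (Y⁻¹ * c * Y) = c := by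
      show Y * (Y⁻¹ * c * Y) * Y⁻¹ = c
      group
    rwa [e1, e2] at h1
  have bil : ∀ {a b c : G}, a ∈ T → b ∈ M → c ∈ M → ⁅a, b * c⁆ = ⁅a, b⁆ * ⁅a, c⁆ := fun {a b c} ha hb hc => by
    rw [show ⁅a, b * c⁆ = ⁅a, b⁆ * (b * ⁅a, c⁆ * b⁻¹) by simp only [commutatorElement_def]; group,
      (ha.2 c hc b hb).symm.eq, mul_inv_cancel_right]
  have E : ∀ {Y : G}, Cube M Y → ∀ {a b : G}, a ∈ T → b ∈ M →
      ⁅a, Y * b * Y⁻¹⁆ = Y⁻¹ * ⁅a, b⁆ * Y := by
    intro Y hY a b ha hb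
    have hF := fpf_of_cube hx hC M hM hY
    have E1 : ∀ {b : G}, b ∈ M → ⁅a, Y * b * Y⁻¹⁆ = ⁅Y * a * Y⁻¹, b⁆ := fun {b} hb => by
      set a' := Y * a * Y⁻¹
      set b' := Y * b * Y⁻¹
      have ha' : a' ∈ T := hT Y ha
      have hb' : b' ∈ M := hN.conj_mem _ hb Y
      have h0 := hF.commute_conj (mul_mem ha.1 hb)
      rw [show Y * (a * b) * Y⁻¹ = a' * b' by simp only [a', b']; group] at h0
      have h1 : ⁅a * b, a' * b'⁆ = 1 := commutatorElement_eq_one_iff_mul_comm.2 h0.eq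
      have h2 : ⁅b, b'⁆ = 1 := commutatorElement_eq_one_iff_mul_comm.2 (hF.commute_conj hb).eq
      have h3 : ⁅a, a'⁆ = 1 := commutatorElement_eq_one_iff_mul_comm.2 (hF.commute_conj ha.1).eq
      have h4 : Commute ⁅b, a'⁆ a := by
        have := (ha'.2 b hb a ha.1).inv_left
        rwa [commutatorElement_inv] at this
      have h5 : ⁅a * b, a'⁆ = ⁅b, a'⁆ := by
        rw [show ⁅a * b, a'⁆ = a * ⁅b, a'⁆ * a⁻¹ * ⁅a, a'⁆ by simp only [commutatorElement_def]; group,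
          h3, mul_one, h4.symm.eq, mul_inv_cancel_right]
      have h6 : ⁅a * b, b'⁆ = ⁅a, b'⁆ := by
        rw [show ⁅a * b, b'⁆ = a * ⁅b, b'⁆ * a⁻¹ * ⁅a, b'⁆ by simp only [commutatorElement_def]; group,
          h2, mul_one, mul_inv_cancel, one_mul]
      rw [show ⁅a * b, a' * b'⁆ = ⁅a * b, a'⁆ * (a' * ⁅a * b, b'⁆ * a'⁻¹) by
          simp only [commutatorElement_def]; group,
        h5, h6, (ha.2 b' hb' a' ha'.1).symm.eq, mul_inv_cancel_right] at h1
      have h7 := inv_eq_of_mul_eq_one_right h1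
      rw [commutatorElement_inv] at h7
      exact h7.symm
    set b' := Y * b * Y⁻¹
    set b'' := Y⁻¹ * b * Y
    have hb' : b' ∈ M := hN.conj_mem _ hb Y
    have hb'' : b'' ∈ M := by simpa [b''] using hN.conj_mem _ hb Y⁻¹
    have h1 := congrArg (fun t => ⁅a, t⁆) (hF.prod_eq hb)
    simp only [commutatorElement_one_right] at h1
    rw [bil ha (mul_mem hb hb') hb'', bil ha hb hb'] at h1
    have hbb : Y * b' * Y⁻¹ = b'' := by
      have e5 : Y * Y = Y⁻¹ := eq_inv_of_mul_eq_one_right (by simpa [pow_three, mul_assoc] using hF.cube)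
      simp only [b', b'']
      rw [show Y * (Y * b * Y⁻¹) * Y⁻¹ = (Y * Y) * b * (Y * Y)⁻¹ by group, e5, inv_inv]
    have h2 : ⁅a, b''⁆ = Y * ⁅a, b⁆ * Y⁻¹ := by
      rw [← hbb, E1 hb', show Y * ⁅a, b⁆ * Y⁻¹ = ⁅Y * a * Y⁻¹, b'⁆ by
        simp only [b', commutatorElement_def]; group]
    rw [h2] at h1
    have hf : ⁅a, b⁆ ∈ M := hMc ha.1 hb
    have h3 := hF.prod_eq hf
    set f := ⁅a, b⁆
    set f' := Y * f * Y⁻¹
    set f'' := Y⁻¹ * f * Y
    have hcom : f' * f'' = f'' * f' := by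
      have h9 := (hT Y ha).2 b' hb' f'' (by simpa [f''] using hN.conj_mem _ hf Y⁻¹)
      rw [show ⁅Y * a * Y⁻¹, b'⁆ = f' by simp only [f', f, b', commutatorElement_def]; group] at h9
      exact h9.eq
    rw [mul_assoc f f' f'', hcom, ← mul_assoc] at h3
    exact mul_left_cancel (mul_right_cancel (h1.trans h3.symm))
  let K : Subgroup G := Subgroup.centralizer {f : G | ∃ a ∈ T, ∃ b ∈ M, ⁅a, b⁆ = f}
  haveI : K.Normal := ⟨fun n hn h => by
    rw [Subgroup.mem_centralizer_iff] at hn ⊢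
    rintro _ ⟨a, ha, b, hb, rfl⟩
    have h1 := hn _ ⟨_, hT h⁻¹ ha, h⁻¹ * b * h⁻¹⁻¹, hN.conj_mem _ hb h⁻¹, rfl⟩
    rw [show ⁅h⁻¹ * a * h⁻¹⁻¹, h⁻¹ * b * h⁻¹⁻¹⁆ = h⁻¹ * ⁅a, b⁆ * h by
      simp only [commutatorElement_def]; group] at h1
    calc ⁅a, b⁆ * (h * n * h⁻¹) = h * (h⁻¹ * ⁅a, b⁆ * h * n) * h⁻¹ := by group
      _ = h * (n * (h⁻¹ * ⁅a, b⁆ * h)) * h⁻¹ := by rw [h1]
      _ = h * n * h⁻¹ * ⁅a, b⁆ := by group⟩
  have hk : ⁅s * g, g⁆ ∈ K := by
    rw [Subgroup.mem_centralizer_iff]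
    rintro _ ⟨a, ha, b, hb, rfl⟩
    have h1 := E ht.hgsg ha hb
    have h2 := E ht.hg ha (hN.conj_mem _ hb (s * g))
    rw [E ht.hsg ha hb, show g * (s * g * b * (s * g)⁻¹) * g⁻¹ = g * (s * g) * b * (g * (s * g))⁻¹ by group,
      h1] at h2
    set W := s * g
    set f := ⁅a, b⁆
    rw [commutatorElement_def]
    calc f * (W * g * W⁻¹ * g⁻¹)
        = (W * g) * (g⁻¹ * (W⁻¹ * f * W) * g) * (W⁻¹ * g⁻¹) := by group
      _ = (W * g) * ((g * W)⁻¹ * f * (g * W)) * (W⁻¹ * g⁻¹) := by rw [h2]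
      _ = W * g * W⁻¹ * g⁻¹ * f := by group
  have hK : K = ⊤ := eq_top_of_simple M hs K (fun m hm => by
      rw [Subgroup.mem_centralizer_iff]
      rintro _ ⟨a, ha, b, hb, rfl⟩
      exact (ha.2 b hb m hm).eq) hk ht.ncomm
  refine (fpf_of_cube hx hC M hM ht.hg).fixed _ (hMc ha hb) ?_
  have := (hK ▸ Subgroup.mem_top g : g ∈ K)
  exact ((Subgroup.mem_centralizer_iff.1 this) _ ⟨a, ⟨ha, hac⟩, b, hb, rfl⟩).symm

include hx hC hM hAM hAc in
/-- An element of order 7 inverted-squared by an element of order 3 fixes an elementary abelian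
central 2-subgroup. -/
theorem seven_fixed {g z : G} (hg : Cube M g) (hzg : Cube M (z * g))
    (r1 : (z * z * z * g⁻¹)⁻¹ * (z * g)⁻¹ ∈ M) (r2 : (z * z * g)⁻¹ * (g * z) ∈ M) (r7 : z ^ 7 ∈ M)
    (h2 : ∀ a ∈ A, a ^ 2 = 1) {a : G} (ha : a ∈ A) : z * a * z⁻¹ = a := by
  have hF := fpf_of_cube hx hC M hM hg
  have hY := fpf_of_cube hx hC M hM hzg
  have cA : ∀ a ∈ A, ∀ b ∈ A, a * b = b * a := fun a ha b hb => (hAc a ha b (hAM hb)).eq
  have inv2 : ∀ a ∈ A, a⁻¹ = a := fun a ha => inv_eq_of_mul_eq_one_right (by rw [← sq, h2 a ha])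
  let c : G → G → G := fun u a => u * a * u⁻¹
  have cmul : ∀ u v a : G, c (u * v) a = c u (c v a) := fun u v a => by simp only [c]; group
  have cdist : ∀ u a b : G, c u (a * b) = c u a * c u b := fun u a b => by simp only [c]; group
  have cmem : ∀ (u : G) {a : G}, a ∈ A → c u a ∈ A := fun u _ ha => hA.conj_mem _ ha u
  have cone : ∀ a, c 1 a = a := fun a => by simp [c]
  have L : ∀ w ∈ A, c z w * c (z * z * z) (c g w) = w * c g w := by
    intro w hw
    have h1 := hY.prod_eq (hAM (cmem g (cmem g hw)))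
    have h3 := hF.prod_eq (hAM (cmem g (cmem g hw)))
    set a := c g (c g w) with had
    have haA : a ∈ A := cmem g (cmem g hw)
    have e1 : (z * g)⁻¹ * a * (z * g) = c (z * z * z) (c g⁻¹ a) := by
      rw [← cmul]
      have := conj_congr M hAc haA r1
      rwa [inv_inv] at this
    have e2 : c g⁻¹ a = c g w := by rw [had, ← cmul g⁻¹ g, inv_mul_cancel, cone]
    have e3 : c g a = w := by
      rw [had, ← cmul, ← cmul, show g * g * g = g ^ 3 by simp [pow_three, mul_assoc], hF.cube, cone]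
    have e4 : g⁻¹ * a * g = c g w := by rw [← e2]; simp only [c, inv_inv]
    rw [e1, e2, show z * g * a * (z * g)⁻¹ = c z (c g a) from cmul z g a, e3, mul_assoc] at h1
    rw [show g * a * g⁻¹ = c g a from rfl, e3, e4, mul_assoc] at h3
    exact (inv_eq_of_mul_eq_one_right h1).symm.trans (inv_eq_of_mul_eq_one_right h3)
  have hgz : ∀ w ∈ A, c g (c z w) = c (z * z) (c g w) := fun w hw => by
    rw [← cmul, ← cmul]; exact conj_congr M hAc hw r2
  have h4 : ∀ w ∈ A, c (z * z) w = w := by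
    intro w hw
    have e1 := L _ (cmem z hw)
    rw [hgz w hw, ← cmul z z, ← cmul] at e1
    have e2 := congrArg (c (z * z)) (L w hw)
    rw [cdist (z * z) (c z w) (c (z * z * z) (c g w)), cdist (z * z) w (c g w), ← cmul, ← cmul] at e2
    rw [show z * z * (z * z * z) = z * z * z * (z * z) by group] at e2
    set p := c (z * z * z * (z * z)) (c g w)
    set q := c (z * z) (c g w)
    have e3 : c (z * z * z) w = c z w := by
      have f1 : c (z * z) w * p * (c (z * z * z) w * p) = c z w * q * (c (z * z) w * q) := by rw [e1, e2]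
      have hp : p ∈ A := cmem _ (cmem _ hw)
      have hq : q ∈ A := cmem _ (cmem _ hw)
      have sqr : ∀ x ∈ A, ∀ y ∈ A, ∀ r ∈ A, x * r * (y * r) = x * y := fun x hx' y hy r hr => by
        rw [cA y hy r hr, ← mul_assoc, mul_assoc x, ← sq, h2 r hr, mul_one]
      rw [sqr _ (cmem _ hw) _ (cmem _ hw) _ hp, sqr _ (cmem _ hw) _ (cmem _ hw) _ hq,
        cA _ (cmem _ hw) _ (cmem (z * z) hw)] at f1
      exact mul_left_cancel f1
    have := congrArg (c z⁻¹) e3
    rw [← cmul, ← cmul, show z⁻¹ * (z * z * z) = z * z by group, inv_mul_cancel, cone] at this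
    exact this
  have h7 : c (z ^ 7) a = a := by
    have := conj_congr M hAc (u := z ^ 7) (v := 1) ha (by simpa using r7)
    simpa [c] using this
  rw [show z ^ 7 = z * ((z * z) * ((z * z) * (z * z))) by simp [pow_succ, mul_assoc],
    cmul z ((z * z) * ((z * z) * (z * z))), cmul (z * z) ((z * z) * (z * z)), cmul (z * z) (z * z),
    h4 a ha, h4 a ha, h4 a ha] at h7
  exact h7

end

end Cfsg.Agent.SelfThree
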