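import Cfsg.Agent.Lib.Small.SelfCentral
import Cfsg.Agent.Lib.SelfThree.Modules

/-!
Characters and class multiplication in a simple group with a self-centralizing element of order 3.
-/

set_option autoImplicit false
set_option linter.unusedSectionVars false
set_option linter.style.haveILetI false

namespace Cfsg.Agent.SelfThree

open Cfsg Cfsg.Agent.Char
open scoped ComplexConjugate

universe u

variable {G : Type u} [Group G] [Finite G] [IsSimpleGroup G] {x : G}

/-- An involution inverting `x`. -/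
theorem exists_inverter (hnp : ¬ (Nat.card G).Prime) (hx : orderOf x = 3)
    (hC : Subgroup.centralizer ({x} : Set G) = Subgroup.zpowers x) :
    ∃ t, orderOf t = 2 ∧ t * x * t⁻¹ = x⁻¹ := by
  haveI : Fact (Nat.Prime 3) := ⟨Nat.prime_three⟩
  obtain ⟨S, hS⟩ := SelfCent.exists_sylow hx hC
  have hdvd : 3 ∣ Nat.card G := hx ▸ orderOf_dvd_natCard x
  have h1 := Small.centralizer_ne_normalizer hnp hdvd S
  rw [hS] at h1
  obtain ⟨g, hg, hgC⟩ : ∃ g, g ∈ Subgroup.normalizer (Subgroup.zpowers x : Set G) ∧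
      g ∉ Subgroup.centralizer (Subgroup.zpowers x : Set G) := by
    by_contra h
    push Not at h
    refine h1 ?_
    rw [le_antisymm (Small.centralizer_le_normalizer (Subgroup.zpowers x)) h]
  have hgx : g * x * g⁻¹ ∈ Subgroup.zpowers x :=
    (Subgroup.mem_normalizer_iff.1 hg x).1 (Subgroup.mem_zpowers x)
  have hne : g * x * g⁻¹ ≠ x := fun h => hgC (by
    rw [Subgroup.mem_centralizer_iff]
    intro y hy
    obtain ⟨k, rfl⟩ := Subgroup.mem_zpowers_iff.1 hy
    exact ((show Commute g x from mul_inv_eq_iff_eq_mul.1 h).zpow_right k).eq.symm)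
  have hinv : g * x * g⁻¹ = x⁻¹ := by
    obtain ⟨k, hk⟩ := Subgroup.mem_zpowers_iff.1 hgx
    rw [← zpow_mod_orderOf, hx] at hk
    have h1 : k % ((3 : ℕ) : ℤ) = 0 ∨ k % ((3 : ℕ) : ℤ) = 1 ∨ k % ((3 : ℕ) : ℤ) = 2 := by omega
    rcases h1 with e | e | e <;> rw [e] at hk
    · rw [zpow_zero] at hk
      rw [conj_eq_one_iff.1 hk.symm, orderOf_one] at hx
      omega
    · exact absurd (by rw [← hk, zpow_one]) hne
    · rw [← hk, eq_inv_iff_mul_eq_one, show x ^ (2 : ℤ) * x = x ^ 3 by group, ← hx, pow_orderOf_eq_one]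
  have hc : g * g * x = x * (g * g) := by
    have h2 : g * (g * x * g⁻¹) * g⁻¹ = x := by
      rw [hinv, show g * x⁻¹ * g⁻¹ = (g * x * g⁻¹)⁻¹ by group, hinv, inv_inv]
    conv_rhs => rw [← h2]
    group
  obtain ⟨k, hk⟩ := Subgroup.mem_zpowers_iff.1 (SelfCent.mem_of_commute hC hc)
  have h3 : g * x ^ k * g⁻¹ = x ^ k := by rw [hk]; group
  rw [Invol.conj_zpow hinv k] at h3
  have h4 : x ^ (2 * k) = 1 := by
    rw [two_mul, zpow_add]
    nth_rewrite 1 [← h3]
    rw [← zpow_add, neg_add_cancel, zpow_zero]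
  rw [← orderOf_dvd_iff_zpow_eq_one, hx] at h4
  obtain ⟨m, rfl⟩ : ((3 : ℕ) : ℤ) ∣ k := by omega
  rw [zpow_mul, zpow_natCast, show x ^ 3 = 1 by rw [← hx, pow_orderOf_eq_one], one_zpow] at hk
  exact ⟨g, Invol.order_two_of_sq hk.symm fun e => hne (by rw [e]; group), hinv⟩

/-- The numerical data attached to the characters. -/
structure Data (x t : G) (d : ℕ) (u : ℤ) : Prop where
  two_le : 2 ≤ d
  lt : u < d
  one_class : ∀ s : G, orderOf s = 2 → IsConj t s
  card_eq : (Nat.card G : ℤ) * ((d : ℤ) - u) ^ 2 =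
    3 * (Nat.card (Subgroup.centralizer ({t} : Set G)) : ℤ) ^ 2 * (d * (d + 1))
  pairs : 9 * (Nat.card {a : G // IsConj x a ∧ IsConj x (a⁻¹ * t)} : ℤ) * (d * (d + 1)) =
    (Nat.card G : ℤ) * (d * d + d + u * (d + 1) + (u + 1) * d)
  bound : 2 + 2 * u + 2 * u * u ≤ (Nat.card (Subgroup.centralizer ({t} : Set G)) : ℤ)
  elem : ∀ E : Subgroup G, (∀ e ∈ E, e * e = 1) → 0 ≤ (d : ℤ) + ((Nat.card E : ℤ) - 1) * u
  dvd : d * (d + 1) ∣ Nat.card G

theorem value_int [Fintype G] (hx : orderOf x = 3) (hxi : IsConj x x⁻¹) (ξ : IrrCharacter G) :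
    ∃ v : ℤ, (ξ : G → ℂ) x = v := by
  have hreal : conj ((ξ : G → ℂ) x) = (ξ : G → ℂ) x := by
    rw [← IsCharacter.inv (IsIrrCharacter.isCharacter ξ.2)]
    exact ((IsCharacter.isClassFunction (IsIrrCharacter.isCharacter ξ.2)) |>
      fun h => by
        obtain ⟨c, hc⟩ := isConj_iff.1 hxi
        rw [← hc]
        exact h x c)
  obtain ⟨n, ρ, hρ, hχ⟩ := ξ.2
  obtain ⟨M, -, h2, h3, -⟩ := exists_eigenvalues ρ x
  have h := h3 1
  simp only [pow_one, Multiset.map_id'] at h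
  have hsum : (ξ : G → ℂ) x = M.sum := by rw [← hχ, h]
  have hint : (M.map fun z => z + conj z).sum ∈ (Int.castAddHom ℂ).range := by
    refine AddSubgroup.multiset_sum_mem _ _ fun z hz => ?_
    obtain ⟨w, hw, rfl⟩ := Multiset.mem_map.1 hz
    have hw3 : w ^ 3 = 1 := by rw [← hx]; exact h2 w hw
    by_cases h1 : w = 1
    · exact ⟨2, by subst h1; simp; norm_num⟩
    · refine ⟨-1, ?_⟩
      have hq : w ^ 2 + w + 1 = 0 :=
        mul_left_cancel₀ (sub_ne_zero.2 h1) (by linear_combination hw3)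
      have hn : conj w = w ^ 2 := by
        have h4 := Complex.mul_conj' w
        rw [norm_eq_one_of_pow three_ne_zero hw3] at h4
        norm_num at h4
        calc conj w = conj w * w ^ 3 := by rw [hw3, mul_one]
          _ = (w * conj w) * w ^ 2 := by ring
          _ = w ^ 2 := by rw [h4, one_mul]
      rw [hn]
      simp only [Int.coe_castAddHom, Int.cast_neg, Int.cast_one]
      linear_combination -hq
  obtain ⟨m, hm⟩ := hint
  have h2v : (2 : ℂ) * (ξ : G → ℂ) x = (m : ℂ) := by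
    have : (m : ℂ) = (ξ : G → ℂ) x + conj ((ξ : G → ℂ) x) := by
      rw [hsum, map_multiset_sum, show (m : ℂ) = (Int.castAddHom ℂ) m from rfl, hm,
        Multiset.sum_map_add, Multiset.map_id']
    rw [this, hreal]; ring
  have hq : (ξ : G → ℂ) x = (((m : ℚ) / 2 : ℚ) : ℂ) := by
    push_cast; rw [eq_div_iff two_ne_zero, mul_comm, h2v]
  obtain ⟨v, hv⟩ := exists_int_of_isIntegral (q := (m : ℚ) / 2)
    (hq ▸ IsCharacter.isIntegral (IsIrrCharacter.isCharacter ξ.2) x)
  exact ⟨v, by rw [hq, hv]; norm_cast⟩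

theorem exists_data (hnp : ¬ (Nat.card G).Prime) (hx : orderOf x = 3)
    (hC : Subgroup.centralizer ({x} : Set G) = Subgroup.zpowers x) {t : G} (ht : orderOf t = 2)
    (htx : t * x * t⁻¹ = x⁻¹) : ∃ d u, Data x t d u := by
  classical
  haveI : Fact (Nat.Prime 3) := ⟨Nat.prime_three⟩
  letI := Fintype.ofFinite G
  have hG := Small.not_comm_of_card hnp
  have hxi : IsConj x x⁻¹ := isConj_iff.2 ⟨t, htx⟩
  have hCx : Nat.card (Subgroup.centralizer ({x} : Set G)) = 3 := by rw [hC, Nat.card_zpowers, hx]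
  choose v hv using value_int hx hxi
  -- exactly three characters do not vanish at `x`
  have hsq : ∑ ξ ∈ (Finset.univ : Finset (IrrCharacter G)), v ξ * v ξ = ((3 : ℕ) : ℤ) := by
    have h := column_orth_of_isConj (IsConj.refl x)
    rw [hCx] at h
    simp only [hv, map_intCast] at h
    exact_mod_cast h
  obtain ⟨hcard, hpm⟩ := Exc.support_of_sq_sum _ v le_rfl hsq
  set T := (Finset.univ : Finset (IrrCharacter G)).filter fun ξ => v ξ ≠ 0 with hT
  have h1x : ((Exc.one G : IrrCharacter G) : G → ℂ) x = 1 := Exc.one_apply x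
  have hv1 : v (Exc.one G) = 1 := by exact_mod_cast (hv (Exc.one G)).symm.trans h1x
  have h1T : Exc.one G ∈ T := Finset.mem_filter.2 ⟨Finset.mem_univ _, by rw [hv1]; norm_num⟩
  obtain ⟨χ₁, χ₂, hne, hT2⟩ := Finset.card_eq_two.1
    (show (T.erase (Exc.one G)).card = 2 by rw [Finset.card_erase_of_mem h1T, hcard])
  have hm : ∀ ξ ∈ T.erase (Exc.one G), ξ ≠ Exc.one G ∧ (v ξ = 1 ∨ v ξ = -1) := fun ξ hξ =>
    ⟨(Finset.mem_erase.1 hξ).1, hpm ξ (Finset.mem_erase.1 hξ).2⟩
  have hoff : ∀ ξ, ξ ≠ Exc.one G → ξ ≠ χ₁ → ξ ≠ χ₂ → v ξ = 0 := by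
    intro ξ h1 h2 h3
    by_contra h
    have : ξ ∈ T.erase (Exc.one G) := Finset.mem_erase.2 ⟨h1, Finset.mem_filter.2 ⟨Finset.mem_univ _, h⟩⟩
    rw [hT2] at this
    simp [h2, h3] at this
  have red : ∀ F : IrrCharacter G → ℂ, ∑ ξ, F ξ * conj ((ξ : G → ℂ) x) =
      F (Exc.one G) + ((v χ₁ : ℂ) * F χ₁ + (v χ₂ : ℂ) * F χ₂) := by
    intro F
    rw [← Finset.add_sum_erase _ _ (Finset.mem_univ (Exc.one G)), h1x, map_one, mul_one]
    congr 1
    rw [← Finset.sum_subset (s₁ := {χ₁, χ₂}) (fun ξ hξ => ?_) (fun ξ hξ hξn => ?_),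
      Finset.sum_pair hne, hv, hv, map_intCast, map_intCast]
    · ring
    · have : ξ ∈ T.erase (Exc.one G) := hT2 ▸ hξ
      exact Finset.mem_erase.2 ⟨(Finset.mem_erase.1 this).1, Finset.mem_univ _⟩
    · simp only [Finset.mem_insert, Finset.mem_singleton, not_or] at hξn
      rw [hv, hoff ξ (Finset.mem_erase.1 hξ).1 hξn.1 hξn.2]
      simp
  -- fix the signs
  obtain ⟨χ, θ, hχ1, hθ1, hχθ, hred⟩ : ∃ χ θ : IrrCharacter G, χ ≠ Exc.one G ∧ θ ≠ Exc.one G ∧ χ ≠ θ ∧
      ∀ F : IrrCharacter G → ℂ, ∑ ξ, F ξ * conj ((ξ : G → ℂ) x) = F (Exc.one G) + F χ - F θ := by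
    have m1 := hm χ₁ (hT2 ▸ Finset.mem_insert_self _ _)
    have m2 := hm χ₂ (hT2 ▸ Finset.mem_insert_of_mem (Finset.mem_singleton_self _))
    have hz := red fun ξ => (ξ : G → ℂ) 1
    have hx1 : ¬ IsConj (1 : G) x := fun h => by
      rw [isConj_one_right.1 h, orderOf_one] at hx; omega
    rw [column_orth_of_not_isConj hx1, Exc.one_apply, CharX.irr_deg, CharX.irr_deg] at hz
    have p1 := SelfCentral.irr_degree_ge_two hG χ₁ m1.1
    have p2 := SelfCentral.irr_degree_ge_two hG χ₂ m2.1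
    have hzi : (0 : ℤ) = 1 + (v χ₁ * (Cfsg.charDegree (χ₁ : G → ℂ) : ℤ) +
        v χ₂ * (Cfsg.charDegree (χ₂ : G → ℂ) : ℤ)) := by exact_mod_cast hz
    rcases m1.2 with e1 | e1 <;> rcases m2.2 with e2 | e2 <;> rw [e1, e2] at hzi <;> try omega
    · exact ⟨χ₁, χ₂, m1.1, m2.1, hne, fun F => by rw [red, e1, e2]; push_cast; ring⟩
    · exact ⟨χ₂, χ₁, m2.1, m1.1, hne.symm, fun F => by rw [red, e1, e2]; push_cast; ring⟩
  have hθval : ∀ g : G, ¬ IsConj g x → (θ : G → ℂ) g = (χ : G → ℂ) g + 1 := by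
    intro g hg
    have h := hred fun ξ => (ξ : G → ℂ) g
    rw [column_orth_of_not_isConj hg, Exc.one_apply] at h
    linear_combination h
  set d := Cfsg.charDegree (χ : G → ℂ) with hd
  have hd2 : 2 ≤ d := SelfCentral.irr_degree_ge_two hG χ hχ1
  have hχd : (χ : G → ℂ) 1 = (d : ℂ) := CharX.irr_deg χ
  have hx1 : ¬ IsConj (1 : G) x := fun h => by
    rw [isConj_one_right.1 h, orderOf_one] at hx; omega
  have hθd : (θ : G → ℂ) 1 = (d : ℂ) + 1 := by rw [hθval 1 hx1, hχd]
  have hordx : ∀ s : G, orderOf s = 2 → ¬ IsConj s x := fun s hs h => by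
    obtain ⟨c, hc⟩ := isConj_iff.1 h
    rw [← hc, Invol.order_conj, hs] at hx; omega
  have hcl : ∀ (ξ : IrrCharacter G) {a b : G}, IsConj a b → (ξ : G → ℂ) a = (ξ : G → ℂ) b := by
    intro ξ a b h
    obtain ⟨c, hc⟩ := isConj_iff.1 h
    rw [← hc]
    exact ((IsCharacter.isClassFunction (IsIrrCharacter.isCharacter ξ.2)) a c).symm
  have hd0 : (d : ℂ) ≠ 0 := by exact_mod_cast (show d ≠ 0 by omega)
  have hd10 : (d : ℂ) + 1 ≠ 0 := by exact_mod_cast (show d + 1 ≠ 0 by omega)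
  -- pairs of conjugate involutions with product `x`
  have key : ∀ s : G, orderOf s = 2 → IsConj t s ∧ ∀ w : ℤ, (χ : G → ℂ) s = w →
      (Nat.card {a : G // IsConj s a ∧ IsConj s (a⁻¹ * x)} : ℤ) *
        (Nat.card (Subgroup.centralizer ({s} : Set G)) : ℤ) ^ 2 * (d * (d + 1)) =
      (Nat.card G : ℤ) * ((d : ℤ) - w) ^ 2 := by
    intro s hs
    have main : ∀ w : ℤ, (χ : G → ℂ) s = w →
        (Nat.card {a : G // IsConj s a ∧ IsConj s (a⁻¹ * x)} : ℤ) *
          (Nat.card (Subgroup.centralizer ({s} : Set G)) : ℤ) ^ 2 * (d * (d + 1)) =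
        (Nat.card G : ℤ) * ((d : ℤ) - w) ^ 2 := by
      intro w hw
      have h := ClassCount.pair_count s s x
      rw [show ∑ ξ : IrrCharacter G, (ξ : G → ℂ) s * (ξ : G → ℂ) s * conj ((ξ : G → ℂ) x) / (ξ : G → ℂ) 1 =
          ∑ ξ : IrrCharacter G, ((ξ : G → ℂ) s * (ξ : G → ℂ) s / (ξ : G → ℂ) 1) * conj ((ξ : G → ℂ) x) from
          Finset.sum_congr rfl fun ξ _ => by ring, hred, Exc.one_apply, Exc.one_apply,
        hθval s (hordx s hs), hw, hχd, hθd] at h
      field_simp at h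
      exact_mod_cast (show ((_ : ℤ) : ℂ) = ((_ : ℤ) : ℂ) by push_cast; linear_combination h)
    refine ⟨?_, main⟩
    obtain ⟨w, hw, -⟩ := SelfCentral.involution_value χ hs
    have hwd : (d : ℤ) ≠ w := fun e => SelfCentral.value_ne_degree χ hχ1 (Invol.ne_one hs) (by
      rw [hw, hχd, ← e]; simp)
    have hnz : Nat.card {a : G // IsConj s a ∧ IsConj s (a⁻¹ * x)} ≠ 0 := by
      intro h0
      have h := main w hw
      rw [h0] at h
      simp only [Nat.cast_zero, zero_mul, eq_comm (a := (0 : ℤ)), mul_eq_zero, Nat.cast_eq_zero,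
        pow_eq_zero_iff two_ne_zero, sub_eq_zero] at h
      rcases h with h | h
      · exact Nat.card_pos.ne' h
      · exact hwd h
    obtain ⟨⟨a, ha1, ha2⟩⟩ := (Nat.card_pos_iff.1 (Nat.pos_of_ne_zero hnz)).1
    have hao : orderOf a = 2 := by obtain ⟨c, hc⟩ := isConj_iff.1 ha1; rw [← hc, Invol.order_conj, hs]
    have hbo : orderOf (a⁻¹ * x) = 2 := by
      obtain ⟨c, hc⟩ := isConj_iff.1 ha2; rw [← hc, Invol.order_conj, hs]
    have hax : a * x * a⁻¹ = x⁻¹ := by
      have := Invol.mul_self hbo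
      rw [Invol.inv_self hao] at this ⊢
      exact eq_inv_of_mul_eq_one_left (by rw [← this]; group)
    have hat : Odd (orderOf (a * t)) := by
      have hk : (a * t) * x = x * (a * t) := by
        have e2 : x * a = a * x⁻¹ := by
          rw [← hax, Invol.inv_self hao, ← mul_assoc, ← mul_assoc, Invol.mul_self hao, one_mul]
        have e1 : t * x = x⁻¹ * t := by rw [← htx]; group
        calc a * t * x = a * x⁻¹ * t := by rw [mul_assoc, e1, ← mul_assoc]
          _ = x * (a * t) := by rw [← e2, mul_assoc]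
      have := Subgroup.orderOf_dvd_natCard _ (SelfCent.mem_of_commute hC hk)
      rw [Nat.card_zpowers, hx] at this
      exact Odd.of_dvd_nat (by decide) this
    obtain ⟨c, -, hc⟩ := Invol.conj_of_odd hao ht hat
    exact ((isConj_iff.2 ⟨c, hc⟩).symm).trans ha1.symm
  obtain ⟨u, hu, -⟩ := SelfCentral.involution_value χ ht
  have hud : (d : ℤ) ≠ u := fun e => SelfCentral.value_ne_degree χ hχ1 (Invol.ne_one ht) (by
    rw [hu, hχd, ← e]; simp)
  -- exactly three pairs
  have hinv : ∀ a : G, a * x * a⁻¹ = x⁻¹ → orderOf a = 2 := by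
    intro a ha
    have hk : t⁻¹ * a * x = x * (t⁻¹ * a) := by
      have e1 : a * x = x⁻¹ * a := mul_inv_eq_iff_eq_mul.1 ha
      have e2 : t⁻¹ * x⁻¹ = x * t⁻¹ := by rw [← htx]; group
      rw [mul_assoc, e1, ← mul_assoc, e2, mul_assoc]
    obtain ⟨k, hk'⟩ := Subgroup.mem_zpowers_iff.1 (SelfCent.mem_of_commute hC hk)
    have ha' : a = t * x ^ k := by rw [hk']; group
    refine Invol.order_two_of_sq ?_ ?_
    · rw [ha']
      calc t * x ^ k * (t * x ^ k) = t * x ^ k * t⁻¹ * (t * t) * x ^ k := by group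
        _ = 1 := by rw [Invol.conj_zpow htx, Invol.mul_self ht, mul_one, ← zpow_add, neg_add_cancel, zpow_zero]
    · rintro rfl
      rw [one_mul, inv_one, mul_one, eq_inv_iff_mul_eq_one, ← sq, ← orderOf_dvd_iff_pow_eq_one, hx] at ha
      omega
  have hn3 : Nat.card {a : G // IsConj t a ∧ IsConj t (a⁻¹ * x)} = 3 := by
    have m1 : ∀ k : Subgroup.zpowers x, IsConj t (t * (k : G)) ∧ IsConj t ((t * (k : G))⁻¹ * x) := by
      intro k
      obtain ⟨j, hj⟩ := Subgroup.mem_zpowers_iff.1 k.2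
      refine ⟨(key _ (hinv _ ?_)).1, (key _ (hinv _ ?_)).1⟩
      · rw [← hj, show t * x ^ j * x * (t * x ^ j)⁻¹ = t * (x ^ j * x * (x ^ j)⁻¹) * t⁻¹ by group,
          ((Commute.refl x).zpow_left j).eq, mul_inv_cancel_right, htx]
      · rw [← hj, show ((t * x ^ j)⁻¹ * x) * x * ((t * x ^ j)⁻¹ * x)⁻¹ =
          (x ^ j)⁻¹ * (t⁻¹ * x * t) * x ^ j by group,
          show t⁻¹ * x * t = x⁻¹ by rw [Invol.inv_self ht]; nth_rewrite 2 [← Invol.inv_self ht]; exact htx,
          mul_assoc, ((Commute.refl x).zpow_left j).inv_right.eq.symm, inv_mul_cancel_left]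
    rw [← hx, ← Nat.card_zpowers x]
    refine (Nat.card_congr (Equiv.ofBijective
      (fun k : Subgroup.zpowers x => (Subtype.mk (t * (k : G)) (m1 k) : {a : G // IsConj t a ∧ IsConj t (a⁻¹ * x)}))
      ⟨fun p q e => ?_, fun a => ?_⟩)).symm
    · exact Subtype.ext (mul_left_cancel (congrArg Subtype.val e))
    · obtain ⟨a, ha1, ha2⟩ := a
      have hao : orderOf a = 2 := by obtain ⟨c, hc⟩ := isConj_iff.1 ha1; rw [← hc, Invol.order_conj, ht]
      have hbo : orderOf (a⁻¹ * x) = 2 := by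
        obtain ⟨c, hc⟩ := isConj_iff.1 ha2; rw [← hc, Invol.order_conj, ht]
      have hax : a * x * a⁻¹ = x⁻¹ := by
        have := Invol.mul_self hbo
        rw [Invol.inv_self hao] at this ⊢
        exact eq_inv_of_mul_eq_one_left (by rw [← this]; group)
      have hk : t⁻¹ * a * x = x * (t⁻¹ * a) := by
        have e1 : a * x = x⁻¹ * a := mul_inv_eq_iff_eq_mul.1 hax
        have e2 : t⁻¹ * x⁻¹ = x * t⁻¹ := by rw [← htx]; group
        rw [mul_assoc, e1, ← mul_assoc, e2, mul_assoc]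
      exact ⟨⟨_, SelfCent.mem_of_commute hC hk⟩, Subtype.ext (by show t * (t⁻¹ * a) = a; group)⟩
  refine ⟨d, u, hd2, ?_, fun s hs => (key s hs).1, ?_, ?_, ?_, ?_, ?_⟩
  · obtain ⟨w, hw, hwb⟩ := SelfCentral.involution_value χ ht
    have : w = u := by exact_mod_cast hw.symm.trans hu
    subst this
    rw [← hd] at hwb
    omega
  · have h := (key t ht).2 u hu
    rw [hn3] at h
    push_cast at h
    linear_combination -h
  · have h := ClassCount.pair_count x x t
    rw [show ∑ ξ : IrrCharacter G, (ξ : G → ℂ) x * (ξ : G → ℂ) x * conj ((ξ : G → ℂ) t) / (ξ : G → ℂ) 1 =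
        ∑ ξ : IrrCharacter G, ((ξ : G → ℂ) x * conj ((ξ : G → ℂ) t) / (ξ : G → ℂ) 1) *
          conj ((ξ : G → ℂ) x) from Finset.sum_congr rfl fun ξ _ => by rw [hv ξ, map_intCast]; ring,
      hred, Exc.one_apply, Exc.one_apply, Exc.one_apply, hθval t (hordx t ht), hu, hχd, hθd, hCx] at h
    have hx1 : (χ : G → ℂ) x = 1 ∧ (θ : G → ℂ) x = -1 := by
      have h1 := hred fun ξ => if ξ = χ then 1 else 0
      have h2 := hred fun ξ => if ξ = θ then 1 else 0
      simp only [ite_mul, one_mul, zero_mul, Finset.sum_ite_eq', Finset.mem_univ, if_true,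
        if_neg hχ1.symm, if_neg hθ1.symm, if_neg hχθ, if_neg hχθ.symm] at h1 h2
      rw [hv, map_intCast] at h1 h2
      constructor <;> rw [hv] <;> first | rw [h1]; ring1 | rw [h2]; ring1
    rw [hx1.1, hx1.2] at h
    simp only [map_one, map_add, map_intCast, one_mul, neg_mul] at h
    field_simp at h
    exact_mod_cast (show ((_ : ℤ) : ℂ) = ((_ : ℤ) : ℂ) by push_cast at h ⊢; linear_combination h)
  · have h := column_orth_of_isConj (IsConj.refl t)
    choose w hw using fun ξ : IrrCharacter G => SelfCentral.involution_value ξ ht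
    have hs : ∑ ξ : IrrCharacter G, w ξ * w ξ = (Nat.card (Subgroup.centralizer ({t} : Set G)) : ℤ) := by
      have h' : ∑ ξ : IrrCharacter G, (ξ : G → ℂ) t * conj ((ξ : G → ℂ) t) =
          ∑ ξ : IrrCharacter G, (((w ξ * w ξ : ℤ)) : ℂ) :=
        Finset.sum_congr rfl fun ξ _ => by rw [(hw ξ).1, map_intCast, Int.cast_mul]
      rw [h'] at h
      exact_mod_cast h
    have w1 : w (Exc.one G) = 1 := by exact_mod_cast (hw _).1.symm.trans (Exc.one_apply t)
    have wχ : w χ = u := by exact_mod_cast (hw _).1.symm.trans hu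
    have wθ : w θ = u + 1 := by
      exact_mod_cast (hw _).1.symm.trans (show (θ : G → ℂ) t = ((u + 1 : ℤ) : ℂ) by
        rw [hθval t (hordx t ht), hu]; push_cast; ring)
    rw [← hs]
    refine le_trans (le_of_eq ?_) (Finset.sum_le_sum_of_subset_of_nonneg
      (Finset.subset_univ {Exc.one G, χ, θ}) fun ξ _ _ => mul_self_nonneg (w ξ))
    rw [Finset.sum_insert (by simp [hχ1.symm, hθ1.symm]), Finset.sum_pair hχθ, w1, wχ, wθ]
    ring
  · intro E hE
    obtain ⟨m, hm⟩ := IsCharacter.exists_classInner_nat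
      (IsCharacter.restrict (IsIrrCharacter.isCharacter χ.2) E) (isCharacter_one (G := E))
    have hval : ∀ e : E, (χ : G → ℂ) (e : G) = if e = 1 then (d : ℂ) else (u : ℂ) := by
      intro e
      split_ifs with h
      · rw [h, Subgroup.coe_one, hχd]
      · rw [← hu]
        exact (hcl χ (key _ (Invol.order_two_of_sq (hE _ e.2) fun h' => h (Subtype.ext h'))).1).symm
    simp only [Cfsg.classInner, Function.comp_apply, Subgroup.coe_subtype, hval, map_one, mul_one,
      ← Nat.card_eq_fintype_card] at hm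
    have hsum : ∑ e : E, (if e = 1 then (d : ℂ) else (u : ℂ)) = ((d + ((Nat.card E : ℤ) - 1) * u : ℤ) : ℂ) := by
      rw [← Finset.add_sum_erase _ _ (Finset.mem_univ (1 : E)), if_pos rfl,
        Finset.sum_congr rfl fun e he => if_neg (Finset.ne_of_mem_erase he), Finset.sum_const,
        Finset.card_erase_of_mem (Finset.mem_univ _), Finset.card_univ, nsmul_eq_mul,
        ← Nat.card_eq_fintype_card, Nat.cast_sub Nat.card_pos]
      push_cast; ring
    rw [hsum, inv_mul_eq_iff_eq_mul₀ (Nat.cast_ne_zero.2 Nat.card_pos.ne')] at hm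
    have : (d : ℤ) + ((Nat.card E : ℤ) - 1) * u = (Nat.card E : ℤ) * m := by exact_mod_cast hm
    rw [this]; positivity
  · have h1 := CharX.irr_deg_dvd_card χ
    have h2 := CharX.irr_deg_dvd_card θ
    have : Cfsg.charDegree (θ : G → ℂ) = d + 1 := by exact_mod_cast (CharX.irr_deg θ).symm.trans hθd
    rw [this] at h2
    exact (Nat.coprime_self_add_right.2 (Nat.coprime_one_right d)).mul_dvd_of_dvd_of_dvd h1 h2

end Cfsg.Agent.SelfThree
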