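import Mathlib

/-!
An element of order 3 normalizing a finite subgroup on which it acts without fixed points.
-/

set_option autoImplicit false

namespace Cfsg.Agent.SelfThree

variable {G : Type*} [Group G]

/-- `x` has cube one, normalizes `Q` and centralizes no non-identity element of `Q`. -/
structure Fpf (x : G) (Q : Subgroup G) : Prop where
  cube : x ^ 3 = 1
  conj : ∀ q ∈ Q, x * q * x⁻¹ ∈ Q
  fixed : ∀ q ∈ Q, Commute x q → q = 1

namespace Fpf

variable {x : G} {Q : Subgroup G}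

theorem conj_inv (h : Fpf x Q) {q : G} (hq : q ∈ Q) : x⁻¹ * q * x ∈ Q := by
  have h2 : x⁻¹ = x * x := inv_eq_of_mul_eq_one_right (by rw [← mul_assoc, ← h.cube, pow_three, mul_assoc])
  have := h.conj _ (h.conj q hq)
  convert this using 1
  rw [show x * (x * q * x⁻¹) * x⁻¹ = (x * x) * q * (x * x)⁻¹ by group, ← h2, inv_inv]

theorem symm (h : Fpf x Q) : Fpf x⁻¹ Q where
  cube := by rw [inv_pow, h.cube, inv_one]
  conj q hq := by rw [inv_inv]; exact h.conj_inv hq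
  fixed q hq hc := h.fixed q hq (by simpa using hc.inv_left)

theorem mono (h : Fpf x Q) {R : Subgroup G} (hR : R ≤ Q)
    (hc : ∀ q ∈ R, x * q * x⁻¹ ∈ R) : Fpf x R :=
  ⟨h.cube, hc, fun q hq => h.fixed q (hR hq)⟩

variable [Finite G]

theorem exists_eq (h : Fpf x Q) {q : G} (hq : q ∈ Q) : ∃ u ∈ Q, q = u⁻¹ * (x * u * x⁻¹) := by
  let f : Q → Q := fun u => ⟨(u : G)⁻¹ * (x * u * x⁻¹), mul_mem (inv_mem u.2) (h.conj _ u.2)⟩
  have hf : Function.Injective f := fun u v e => by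
    have e' : (u : G)⁻¹ * (x * u * x⁻¹) = (v : G)⁻¹ * (x * v * x⁻¹) := congrArg Subtype.val e
    have hc : Commute x ((v : G) * (u : G)⁻¹) := by
      show x * ((v : G) * (u : G)⁻¹) = (v : G) * (u : G)⁻¹ * x
      calc x * ((v : G) * (u : G)⁻¹)
          = (x * v * x⁻¹) * (x * u * x⁻¹)⁻¹ * x := by group
        _ = v * ((v : G)⁻¹ * (x * v * x⁻¹)) * (x * u * x⁻¹)⁻¹ * x := by group
        _ = v * ((u : G)⁻¹ * (x * u * x⁻¹)) * (x * u * x⁻¹)⁻¹ * x := by rw [e']
        _ = _ := by group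
    exact (Subtype.ext (mul_inv_eq_one.1 (h.fixed _ (mul_mem v.2 (inv_mem u.2)) hc))).symm
  obtain ⟨u, hu⟩ := Finite.injective_iff_surjective.1 hf ⟨q, hq⟩
  exact ⟨u, u.2, (congrArg Subtype.val hu).symm⟩

theorem prod_eq (h : Fpf x Q) {q : G} (hq : q ∈ Q) :
    q * (x * q * x⁻¹) * (x⁻¹ * q * x) = 1 := by
  obtain ⟨u, -, rfl⟩ := h.exists_eq hq
  have e : x⁻¹ * x⁻¹ = x := by
    rw [← mul_inv_rev, inv_eq_iff_mul_eq_one]
    simpa [pow_three, mul_assoc] using h.cube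
  have key : ∀ v : G, x⁻¹ * (v⁻¹ * (x * v * x⁻¹)) * x = (x⁻¹ * v⁻¹ * x) * v := fun v => by group
  rw [key]
  calc u⁻¹ * (x * u * x⁻¹) * (x * (u⁻¹ * (x * u * x⁻¹)) * x⁻¹) * (x⁻¹ * u⁻¹ * x * u)
      = u⁻¹ * (x * x) * u * (x⁻¹ * x⁻¹ * x⁻¹) * u⁻¹ * x * u := by group
    _ = u⁻¹ * (x * x) * x * u := by
        rw [show x⁻¹ * x⁻¹ * x⁻¹ = 1 by rw [e, mul_inv_cancel]]; group
    _ = 1 := by
        rw [show u⁻¹ * (x * x) * x * u = u⁻¹ * (x ^ 3) * u by simp [pow_three, mul_assoc], h.cube]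
        group

/-- Every element commutes with its conjugate under `x`. -/
theorem commute_conj (h : Fpf x Q) {q : G} (hq : q ∈ Q) : Commute q (x * q * x⁻¹) := by
  have h1 := h.prod_eq hq
  have h2 := h.symm.prod_eq hq
  rw [inv_inv] at h2
  have e1 : (x * q * x⁻¹) * (x⁻¹ * q * x) = q⁻¹ := eq_inv_of_mul_eq_one_right (by rw [← mul_assoc, h1])
  have e2 : (x⁻¹ * q * x) * (x * q * x⁻¹) = q⁻¹ := eq_inv_of_mul_eq_one_right (by rw [← mul_assoc, h2])
  have e3 : Commute (x * q * x⁻¹) (x⁻¹ * q * x) := e1.trans e2.symm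
  have e4 := e3.map (MulAut.conj x).toMonoidHom
  have e5 : x * x = x⁻¹ := eq_inv_of_mul_eq_one_right (by simpa [pow_three, mul_assoc] using h.cube)
  have f1 : (MulAut.conj x).toMonoidHom (x * q * x⁻¹) = x⁻¹ * q * x := by
    show x * (x * q * x⁻¹) * x⁻¹ = _
    rw [show x * (x * q * x⁻¹) * x⁻¹ = (x * x) * q * (x * x)⁻¹ by group, e5, inv_inv]
  have f2 : (MulAut.conj x).toMonoidHom (x⁻¹ * q * x) = q := by
    show x * (x⁻¹ * q * x) * x⁻¹ = q
    group
  rw [f1, f2] at e4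
  have e6 := e4.map (MulAut.conj x).toMonoidHom
  rw [f2] at e6
  have f3 : (MulAut.conj x).toMonoidHom q = x * q * x⁻¹ := rfl
  rw [f3] at e6
  exact e6

/-- The centralizer in `Q` of an element of `Q` is invariant under `x`. -/
theorem commute_invariant (h : Fpf x Q) {c r : G} (hc : c ∈ Q) (hr : r ∈ Q) (hcr : Commute c r) :
    Commute c (x⁻¹ * r * x) := by
  set d := x * c * x⁻¹ with hd
  set s := x * r * x⁻¹ with hs
  set w := x⁻¹ * r * x with hw
  have e5 : x * x = x⁻¹ := eq_inv_of_mul_eq_one_right (by simpa [pow_three, mul_assoc] using h.cube)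
  have hsw : x * s * x⁻¹ = w := by
    rw [hs, show x * (x * r * x⁻¹) * x⁻¹ = (x * x) * r * (x * x)⁻¹ by group, e5, inv_inv]
  have hcd : Commute c d := h.commute_conj hc
  have hsd : Commute d s := hcr.map (MulAut.conj x).toMonoidHom
  have hsww : Commute s w := hsw ▸ h.commute_conj (h.conj _ hr)
  have key := h.commute_conj (mul_mem hc (h.conj _ hr) : c * s ∈ Q)
  have e : x * (c * s) * x⁻¹ = d * w := by rw [← hsw, hd]; group
  rw [e] at key
  have k1 : c * s * (d * w) = d * (c * (w * s)) := by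
    rw [mul_assoc c s, ← mul_assoc s d, ← hsd.eq, mul_assoc d s, hsww.eq, ← mul_assoc, hcd.eq,
      mul_assoc]
  have k2 : d * w * (c * s) = d * (w * c * s) := by group
  have k3 : c * w * s = w * c * s := by
    rw [mul_assoc c w]; exact mul_left_cancel (k1.symm.trans (key.eq.trans k2))
  exact mul_right_cancel k3

theorem commute_invariant' (h : Fpf x Q) {c r : G} (hc : c ∈ Q) (hr : r ∈ Q) (hcr : Commute c r) :
    Commute c (x * r * x⁻¹) := by
  have e5 : x * x = x⁻¹ := eq_inv_of_mul_eq_one_right (by simpa [pow_three, mul_assoc] using h.cube)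
  have := h.commute_invariant hc (h.conj_inv hr) (h.commute_invariant hc hr hcr)
  have e6 : x⁻¹ * x⁻¹ = x := by rw [← mul_inv_rev, e5, inv_inv]
  rwa [show x⁻¹ * (x⁻¹ * r * x) * x = (x⁻¹ * x⁻¹) * r * (x⁻¹ * x⁻¹)⁻¹ by
    simp only [mul_inv_rev, inv_inv, mul_assoc], e6] at this

theorem fpf_centralizer (h : Fpf x Q) {c : G} (hc : c ∈ Q) :
    Fpf x (Q ⊓ Subgroup.centralizer ({c} : Set G)) :=
  h.mono inf_le_left fun q hq => ⟨h.conj q hq.1, Subgroup.mem_centralizer_singleton_iff.2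
    (h.commute_invariant' hc hq.1 (Subgroup.mem_centralizer_singleton_iff.1 hq.2).symm).symm.eq⟩

theorem card_mod (h : Fpf x Q) : Nat.card Q % 3 = 1 := by
  classical
  haveI : Fact (Nat.Prime 3) := ⟨Nat.prime_three⟩
  haveI := Fintype.ofFinite Q
  let f : Function.End Q := fun q => ⟨x * q * x⁻¹, h.conj _ q.2⟩
  have hf : f ^ 3 ^ 1 = 1 := by
    funext q
    apply Subtype.ext
    show x * (x * (x * (q : G) * x⁻¹) * x⁻¹) * x⁻¹ = (q : G)
    rw [show x * (x * (x * (q : G) * x⁻¹) * x⁻¹) * x⁻¹ = x ^ 3 * q * (x ^ 3)⁻¹ by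
      simp [pow_three, mul_assoc], h.cube]
    simp
  have := Equiv.Perm.card_fixedPoints_modEq (p := 3) (n := 1) hf
  have h1 : Fintype.card (Function.fixedPoints f) = 1 := by
    refine Fintype.card_eq_one_iff.2 ⟨⟨1, Subtype.ext (by simp [f])⟩, fun q => ?_⟩
    refine Subtype.ext (Subtype.ext (h.fixed _ q.1.2 ?_))
    have e : x * ((q : Q) : G) * x⁻¹ = ((q : Q) : G) := congrArg Subtype.val q.2
    exact mul_inv_eq_iff_eq_mul.1 e
  rw [h1, Fintype.card_eq_nat_card] at this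
  exact this

/-- An element inverting `x` and normalizing `Q` centralizes at most a square root of `Q`. -/
theorem sq_card_centralizer_le (h : Fpf x Q) {τ : G} (hτ : τ * x * τ⁻¹ = x⁻¹) :
    Nat.card ↥(Q ⊓ Subgroup.centralizer ({τ} : Set G)) ^ 2 ≤ Nat.card Q := by
  set C := Q ⊓ Subgroup.centralizer ({τ} : Set G) with hC
  have hmem : ∀ {a}, a ∈ C → τ * a * τ⁻¹ = a := fun ha => by
    rw [← Subgroup.mem_centralizer_singleton_iff.1 ha.2, mul_inv_cancel_right]
  let f : C × C → Q := fun p => ⟨p.1 * (x * p.2 * x⁻¹), mul_mem p.1.2.1 (h.conj _ p.2.2.1)⟩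
  have hf : Function.Injective f := by
    rintro ⟨a, b⟩ ⟨a', b'⟩ e
    have e' : (a : G) * (x * b * x⁻¹) = a' * (x * b' * x⁻¹) := congrArg Subtype.val e
    set p : G := (b : G) * (b' : G)⁻¹ with hp
    set q : G := (a : G)⁻¹ * a' with hq
    have hpq : x * p * x⁻¹ = q := by
      calc x * p * x⁻¹ = (a : G)⁻¹ * (a * (x * b * x⁻¹)) * (x * b' * x⁻¹)⁻¹ := by rw [hp]; group
        _ = (a : G)⁻¹ * (a' * (x * b' * x⁻¹)) * (x * b' * x⁻¹)⁻¹ := by rw [e']
        _ = q := by rw [hq]; group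
    have hpC : p ∈ C := mul_mem b.2 (inv_mem b'.2)
    have hqC : q ∈ C := mul_mem (inv_mem a.2) a'.2
    have h1 : x⁻¹ * p * x = x * p * x⁻¹ := by
      calc x⁻¹ * p * x = (τ * x * τ⁻¹) * (τ * p * τ⁻¹) * (τ * x * τ⁻¹)⁻¹ := by
            rw [hτ, hmem hpC, inv_inv]
        _ = τ * (x * p * x⁻¹) * τ⁻¹ := by group
        _ = x * p * x⁻¹ := by rw [hpq, hmem hqC]
    have h2 : p = 1 := by
      refine h.fixed p hpC.1 ?_
      have e5 : x * x = x⁻¹ := eq_inv_of_mul_eq_one_right (by simpa [pow_three, mul_assoc] using h.cube)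
      have h3 : x * (x * p * x⁻¹) * x⁻¹ = p := by rw [← h1]; group
      rw [show x * (x * p * x⁻¹) * x⁻¹ = (x * x) * p * (x * x)⁻¹ by group, e5, inv_inv, h1] at h3
      exact mul_inv_eq_iff_eq_mul.1 h3
    have h4 : (b : G) = b' := mul_inv_eq_one.1 h2
    have h5 : (a : G) = a' := by rw [h4] at e'; exact mul_right_cancel e'
    exact Prod.ext (Subtype.ext h5) (Subtype.ext h4)
  rw [sq, ← Nat.card_prod]
  exact Nat.card_le_card_of_injective f hf

end Fpf

end Cfsg.Agent.SelfThree
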