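import Cfsg.Agent.Lib.SelfThree.Modules
import Cfsg.Agent.S0033

/-!
Normal subgroups of order prime to 3 with quotient `A₅` or `L₂(7)`.
-/

set_option autoImplicit false
set_option linter.style.haveILetI false

namespace Cfsg.Agent.SelfThree

open scoped commutatorElement

variable {G : Type*} [Group G] [Finite G] {x : G}
  (hx : orderOf x = 3) (hC : Subgroup.centralizer ({x} : Set G) = Subgroup.zpowers x)

/-- A subgroup with a fixed-point-free element of order 3 is nilpotent. -/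
theorem Fpf.nilpotent {g : G} {Q : Subgroup G} (h : Fpf g Q) : Group.IsNilpotent Q := by
  rcases eq_or_ne Q ⊥ with rfl | hne
  · infer_instance
  have e1 : ∀ q : G, g⁻¹ * (g * q * g⁻¹) * g = q := fun q => by group
  let φ : Q ≃* Q :=
    { toFun := fun q => ⟨g * q * g⁻¹, h.conj _ q.2⟩
      invFun := fun q => ⟨g⁻¹ * q * g, h.conj_inv q.2⟩
      left_inv := fun q => Subtype.ext (e1 q)
      right_inv := fun q => Subtype.ext (by show g * (g⁻¹ * (q : G) * g) * g⁻¹ = q; group)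
      map_mul' := fun a b => Subtype.ext (by
        show g * ((a : G) * b) * g⁻¹ = g * a * g⁻¹ * (g * b * g⁻¹); group) }
  have hfix : MonoidHom.FixedPointFree (φ : Q →* Q) := fun q hq => Subtype.ext (h.fixed _ q.2
    (mul_inv_eq_iff_eq_mul.1 (congrArg Subtype.val hq : g * (q : G) * g⁻¹ = q)))
  refine S0033.result φ hfix 3 Nat.prime_three (orderOf_eq_prime ?_ ?_)
  · refine MulEquiv.ext fun q => Subtype.ext ?_
    show g * (g * (g * (q : G) * g⁻¹) * g⁻¹) * g⁻¹ = q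
    rw [show g * (g * (g * (q : G) * g⁻¹) * g⁻¹) * g⁻¹ = g ^ 3 * q * (g ^ 3)⁻¹ by
      simp [pow_three, mul_assoc], h.cube]
    group
  · intro h1
    obtain ⟨⟨q, hq⟩, hq1⟩ : ∃ q : Q, q ≠ 1 := by
      haveI := (Subgroup.nontrivial_iff_ne_bot Q).2 hne
      exact exists_ne 1
    exact hq1 (hfix _ (show φ ⟨q, hq⟩ = ⟨q, hq⟩ by rw [h1]; rfl))

section

variable (M : Subgroup G) [M.Normal] (hM : ¬ 3 ∣ Nat.card M) {Q : Type*} [Group Q] (e : G ⧸ M ≃* Q)

omit [Finite G] in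
theorem mem_iff_map {u : G} : u ∈ M ↔ e (QuotientGroup.mk' M u) = 1 := by
  rw [map_eq_one_iff _ e.injective]
  exact (QuotientGroup.eq_one_iff u).symm

omit [Finite G] in
theorem cube_iff {u : G} : Cube M u ↔ e (QuotientGroup.mk' M u) ≠ 1 ∧ (e (QuotientGroup.mk' M u)) ^ 3 = 1 := by
  rw [Cube, mem_iff_map M e, mem_iff_map M e, map_pow, map_pow]

omit [Finite G] in
theorem exists_lift (q : Q) : ∃ u : G, e (QuotientGroup.mk' M u) = q := by
  obtain ⟨u, hu⟩ := QuotientGroup.mk'_surjective M (e.symm q)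
  exact ⟨u, by rw [hu, e.apply_symm_apply]⟩

include e in
omit [Finite G] in
theorem exists_tetra (hQ : ∃ g s : Q, (g ≠ 1 ∧ g ^ 3 = 1) ∧ (s * g ≠ 1 ∧ (s * g) ^ 3 = 1) ∧
    (g * (s * g) ≠ 1 ∧ (g * (s * g)) ^ 3 = 1) ∧ s * g * (s * g) * s⁻¹ * g = 1 ∧ ⁅s * g, g⁆ ≠ 1) :
    ∃ g s : G, Tetra M g s := by
  obtain ⟨g₀, s₀, h1, h2, h3, h4, h5⟩ := hQ
  obtain ⟨g, rfl⟩ := exists_lift M e g₀
  obtain ⟨s, rfl⟩ := exists_lift M e s₀
  refine ⟨g, s, (cube_iff M e).2 h1, (cube_iff M e).2 ?_, (cube_iff M e).2 ?_, (mem_iff_map M e).2 ?_,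
    fun h => h5 ?_⟩
  · simpa only [map_mul] using h2
  · simpa only [map_mul] using h3
  · simpa only [map_mul, map_inv] using h4
  · have := (mem_iff_map M e).1 h
    rwa [map_commutatorElement, map_commutatorElement, map_mul, map_mul] at this

end

theorem alt5_tetra : ∃ g s : alternatingGroup (Fin 5), (g ≠ 1 ∧ g ^ 3 = 1) ∧
    (s * g ≠ 1 ∧ (s * g) ^ 3 = 1) ∧ (g * (s * g) ≠ 1 ∧ (g * (s * g)) ^ 3 = 1) ∧
    s * g * (s * g) * s⁻¹ * g = 1 ∧ ⁅s * g, g⁆ ≠ 1 := by decide +kernel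

theorem alt5_four : ∀ y : alternatingGroup (Fin 5), y ≠ 1 → y ^ 3 = 1 → ∃ z, z ≠ 1 ∧ z * z = 1 ∧
    z * (y * z * y⁻¹) = y * z * y⁻¹ * z ∧ z * (y * z * y⁻¹) = y⁻¹ * z * y := by decide +kernel

theorem psl_one_iff (A : Matrix.SpecialLinearGroup (Fin 2) (ZMod 7)) :
    (QuotientGroup.mk' (Subgroup.center (Matrix.SpecialLinearGroup (Fin 2) (ZMod 7))) A) = 1 ↔
      A.1 0 1 = 0 ∧ A.1 1 0 = 0 ∧ A.1 0 0 = A.1 1 1 := by
  rw [QuotientGroup.mk'_apply, QuotientGroup.eq_one_iff, Matrix.SpecialLinearGroup.mem_center_iff,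
    Fintype.card_fin]
  constructor
  · rintro ⟨r, -, hr⟩
    rw [← hr]
    simp
  · rintro ⟨h1, h2, h3⟩
    have hd := A.2
    rw [Matrix.det_fin_two, h1, h2, ← h3] at hd
    refine ⟨A.1 0 0, by simpa [sq] using hd, ?_⟩
    ext i j
    fin_cases i <;> fin_cases j <;> simp [h1, h2, h3]

theorem psl7_data : ∃ g s z : Matrix.ProjectiveSpecialLinearGroup (Fin 2) (ZMod 7),
    ((g ≠ 1 ∧ g ^ 3 = 1) ∧ (s * g ≠ 1 ∧ (s * g) ^ 3 = 1) ∧ (g * (s * g) ≠ 1 ∧ (g * (s * g)) ^ 3 = 1) ∧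
      s * g * (s * g) * s⁻¹ * g = 1 ∧ ⁅s * g, g⁆ ≠ 1) ∧
    z ≠ 1 ∧ (z * g ≠ 1 ∧ (z * g) ^ 3 = 1) ∧ (z * z * z * g⁻¹)⁻¹ * (z * g)⁻¹ = 1 ∧
      (z * z * g)⁻¹ * (g * z) = 1 ∧ z ^ 7 = 1 := by
  let π := QuotientGroup.mk' (Subgroup.center (Matrix.SpecialLinearGroup (Fin 2) (ZMod 7)))
  let g : Matrix.SpecialLinearGroup (Fin 2) (ZMod 7) := ⟨!![4, 0; 0, 2], by decide⟩
  let s : Matrix.SpecialLinearGroup (Fin 2) (ZMod 7) := ⟨!![3, 1; 4, 4], by decide⟩
  let z : Matrix.SpecialLinearGroup (Fin 2) (ZMod 7) := ⟨!![1, 1; 0, 1], by decide⟩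
  refine ⟨π g, π s, π z, ?_⟩
  simp only [← map_mul, ← map_pow, ← map_inv, ← map_commutatorElement, ne_eq, π, psl_one_iff,
    commutatorElement_def]
  decide +kernel

section

variable (M : Subgroup G) [M.Normal] (hM : ¬ 3 ∣ Nat.card M)

include hx hC hM in
/-- A normal subgroup of order prime to 3 with quotient `A₅` is elementary abelian of exponent 2. -/
theorem elementary_of_alt5 (e : G ⧸ M ≃* alternatingGroup (Fin 5)) :
    IsMulCommutative M ∧ ∀ n ∈ M, n ^ 2 = 1 := by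
  haveI : IsSimpleGroup (G ⧸ M) := by
    haveI : IsSimpleGroup (alternatingGroup (Fin 5)) := alternatingGroup.isSimpleGroup_five
    haveI : Nontrivial (G ⧸ M) := e.toEquiv.nontrivial
    exact IsSimpleGroup.isSimpleGroup_of_surjective e.symm.toMonoidHom e.symm.surjective
  obtain ⟨g, s, ht⟩ := exists_tetra M e alt5_tetra
  haveI hnil := (fpf_of_cube hx hC M hM ht.hg).nilpotent
  have hcomm : IsMulCommutative M := by
    refine ⟨⟨fun a b => ?_⟩⟩
    by_contra hab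
    haveI : Nontrivial (M ⧸ Subgroup.center M) := by
      refine ⟨⟨(a : M ⧸ Subgroup.center M), 1, fun h => hab ?_⟩⟩
      exact (Subgroup.mem_center_iff.1 ((QuotientGroup.eq_one_iff a).1 h) b).symm
    haveI := (inferInstance : Group.IsNilpotent (M ⧸ Subgroup.center M))
    haveI : Nontrivial (Subgroup.center (M ⧸ Subgroup.center M)) :=
      FixedPointFreeThompson.center_nontrivial_of_nilpotent
    obtain ⟨⟨cq, hcq⟩, hc1⟩ := exists_ne (1 : Subgroup.center (M ⧸ Subgroup.center M))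
    obtain ⟨c, rfl⟩ := QuotientGroup.mk'_surjective (Subgroup.center M) cq
    refine hc1 (Subtype.ext ((QuotientGroup.eq_one_iff c).2 (Subgroup.mem_center_iff.2 fun d => ?_)))
    have hac : ∀ b ∈ M, ∀ w ∈ M, Commute ⁅(c : G), b⁆ w := fun b hb w hw => by
      have h1 : ⁅c, (⟨b, hb⟩ : M)⁆ ∈ Subgroup.center M := by
        rw [← QuotientGroup.eq_one_iff, ← QuotientGroup.mk'_apply, map_commutatorElement,
          commutatorElement_eq_one_iff_mul_comm]
        exact (Subgroup.mem_center_iff.1 hcq _).symm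
      exact (congrArg Subtype.val (Subgroup.mem_center_iff.1 h1 ⟨w, hw⟩)).symm
    exact Subtype.ext (commutatorElement_eq_one_iff_mul_comm.1
      (comm_eq_one hx hC M hM inferInstance ht c.2 hac d.2)).symm
  refine ⟨hcomm, fun n hn => sq_eq_one hx hC M hM (A := M) inferInstance ht le_rfl
    (fun a ha b hb => congrArg Subtype.val (hcomm.is_comm.comm ⟨a, ha⟩ ⟨b, hb⟩)) hn⟩

include hx hC hM in
/-- No non-trivial normal subgroup of order prime to 3 has quotient `L₂(7)`. -/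
theorem bot_of_psl7 (e : G ⧸ M ≃* Matrix.ProjectiveSpecialLinearGroup (Fin 2) (ZMod 7))
    (hs : IsSimpleGroup (G ⧸ M)) : M = ⊥ := by
  obtain ⟨g₀, s₀, z₀, hT, hz1, hzg, hr1, hr2, hr7⟩ := psl7_data
  obtain ⟨g₁, rfl⟩ := exists_lift M e g₀
  obtain ⟨z, rfl⟩ := exists_lift M e z₀
  obtain ⟨g, s, ht⟩ := exists_tetra M e ⟨_, _, hT⟩
  haveI hnil := (fpf_of_cube hx hC M hM ht.hg).nilpotent
  by_contra hne
  haveI := (Subgroup.nontrivial_iff_ne_bot M).2 hne
  haveI : Nontrivial (Subgroup.center M) := FixedPointFreeThompson.center_nontrivial_of_nilpotent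
  set A : Subgroup G := M ⊓ Subgroup.centralizer (M : Set G) with hA
  haveI : A.Normal := by
    refine ⟨fun a ha h => ⟨Subgroup.Normal.conj_mem inferInstance _ ha.1 h,
      Subgroup.mem_centralizer_iff.2 fun m hm => ?_⟩⟩
    have := Subgroup.mem_centralizer_iff.1 ha.2 (h⁻¹ * m * h)
      (by simpa using Subgroup.Normal.conj_mem (inferInstance : M.Normal) m hm h⁻¹)
    calc m * (h * a * h⁻¹) = h * (h⁻¹ * m * h * a) * h⁻¹ := by group
      _ = h * (a * (h⁻¹ * m * h)) * h⁻¹ := by rw [this]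
      _ = h * a * h⁻¹ * m := by group
  have hAc : ∀ a ∈ A, ∀ b ∈ M, Commute a b := fun a ha b hb =>
    (Subgroup.mem_centralizer_iff.1 ha.2 b hb).symm
  have h2 : ∀ a ∈ A, a ^ 2 = 1 := fun a ha =>
    sq_eq_one hx hC M hM hs ht inf_le_left hAc ha
  have hg₁ : Cube M g₁ := (cube_iff M e).2 hT.1
  have hfix : ∀ a ∈ A, z * a * z⁻¹ = a := fun a ha => seven_fixed hx hC M hM inf_le_left hAc hg₁
    ((cube_iff M e).2 (by simpa only [map_mul] using hzg))
    ((mem_iff_map M e).2 (by simpa only [map_mul, map_inv] using hr1))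
    ((mem_iff_map M e).2 (by simpa only [map_mul, map_inv] using hr2))
    ((mem_iff_map M e).2 (by simpa only [map_pow] using hr7)) h2 ha
  let K : Subgroup G := Subgroup.centralizer (A : Set G)
  have hK : K = ⊤ := by
    refine eq_top_of_simple M hs K (fun m hm => Subgroup.mem_centralizer_iff.2 fun a ha =>
      (hAc a ha m hm).eq) (k := z) ?_ fun h => hz1 ((mem_iff_map M e).1 h)
    exact Subgroup.mem_centralizer_iff.2 fun a ha => (mul_inv_eq_iff_eq_mul.1 (hfix a ha)).symm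
  obtain ⟨⟨⟨c, hcM⟩, hc⟩, hc1⟩ := exists_ne (1 : Subgroup.center M)
  have hcA : c ∈ A := ⟨hcM, Subgroup.mem_centralizer_iff.2 fun m hm =>
    congrArg Subtype.val (Subgroup.mem_center_iff.1 hc ⟨m, hm⟩)⟩
  refine hc1 (Subtype.ext (Subtype.ext ((fpf_of_cube hx hC M hM hg₁).fixed c hcM ?_)))
  exact ((Subgroup.mem_centralizer_iff.1 (hK ▸ Subgroup.mem_top g₁ : g₁ ∈ K)) c hcA).symm

end

end Cfsg.Agent.SelfThree
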