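import Mathlib

/-!
The arithmetic for simple groups with a self-centralizing subgroup of order 3.
-/

set_option autoImplicit false

namespace Cfsg.Agent.SelfThree

/-- The admissible parameters, as a decidable predicate on integers. -/
def Adm (c D : ℕ) (u : ℤ) : Bool :=
  let d : ℤ := D + u
  let N : ℤ := d * d + 2 * d + 2 * u * d + u
  let G : ℤ := 3 * ((c / D : ℕ) : ℤ) ^ 2 * (d * (d + 1))
  decide (c % 4 = 0) && decide (c % 3 ≠ 0) && decide (2 + 2 * u + 2 * u * u ≤ c) && decide (2 ≤ d) &&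
    decide (0 ≤ d + 3 * u) && decide (G % (c : ℤ) = 0) &&
    decide ((c : ℤ) * c * N % (3 * ((D : ℤ) * D)) = 0) &&
    (decide (c ≤ 64 ∧ (c : ℤ) * N < 12 * ((D : ℤ) * D)) ||
      decide (c = 32 ∧ (c : ℤ) * N ≤ 15 * ((D : ℤ) * D)) ||
      decide (c = 128 ∧ (c : ℤ) * N ≤ 27 * ((D : ℤ) * D)) ||
      decide (c = 64 ∧ (c : ℤ) * N ≤ 36 * ((D : ℤ) * D) ∧ 0 ≤ d + 7 * u) ||
      decide (16 ≤ c ∧ c ≤ 32 ∧ (c : ℤ) * N ≤ 6 * ((D : ℤ) * D)))

def check : Bool :=
  (List.range 129).all fun c => (List.range (c + 1)).all fun D =>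
    if D ∣ c then (List.range 16).all fun w =>
      (! Adm c D ((w : ℤ) - 8)) ||
        decide (3 * ((c / D : ℕ) : ℤ) ^ 2 * (((D : ℤ) + ((w : ℤ) - 8)) * ((D : ℤ) + ((w : ℤ) - 8) + 1)) ∈
          ([60, 168] : List ℤ))
    else true

theorem check_true : check = true := by decide +kernel

theorem order_of_adm {c D : ℕ} {u : ℤ} (hc : c ≤ 128) (hc0 : 0 < c) (hD : D ∣ c)
    (h : Adm c D u = true) :
    3 * ((c / D : ℕ) : ℤ) ^ 2 * (((D : ℤ) + u) * ((D : ℤ) + u + 1)) = 60 ∨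
      3 * ((c / D : ℕ) : ℤ) ^ 2 * (((D : ℤ) + u) * ((D : ℤ) + u + 1)) = 168 := by
  have hu : 2 + 2 * u + 2 * u * u ≤ (c : ℤ) := by
    simp only [Adm, Bool.and_eq_true, decide_eq_true_eq] at h
    exact h.1.1.1.1.1.2
  have hu1 : -8 ≤ u := by nlinarith
  have hu2 : u < 8 := by nlinarith
  obtain ⟨w, hw⟩ : ∃ w : ℕ, (w : ℤ) = u + 8 := ⟨(u + 8).toNat, Int.toNat_of_nonneg (by omega)⟩
  have hk := check_true
  simp only [check, List.all_eq_true, List.mem_range] at hk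
  have hk' := hk c (by omega) D (by have := Nat.le_of_dvd hc0 hD; omega)
  rw [if_pos hD] at hk'
  simp only [List.all_eq_true, List.mem_range] at hk'
  have hk'' := hk' w (by omega)
  rw [show (w : ℤ) - 8 = u by omega, h] at hk''
  simpa using hk''

/-- The lower bound for the proportion of pairs. -/
theorem ratio_bound {d u : ℤ} (hd : 2 ≤ d) (h1 : u < d) (h3 : 0 ≤ d + 3 * u) :
    3 * ((d - u) * (d - u)) < 16 * (d * d + 2 * d + 2 * u * d + u) := by
  nlinarith [mul_nonneg h3 (show (0 : ℤ) ≤ 13 * d - u by omega)]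

theorem ratio_bound_seven {d u : ℤ} (hd : 2 ≤ d) (h1 : u < d) (h7 : 0 ≤ d + 7 * u) :
    35 * ((d - u) * (d - u)) < 64 * (d * d + 2 * d + 2 * u * d + u) := by
  nlinarith [mul_nonneg h7 (show (0 : ℤ) ≤ 29 * d - 5 * u by omega)]

end Cfsg.Agent.SelfThree
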