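import Cfsg.Agent.Lib.SelfThree.Chars

/-!
Counting pairs of conjugates of `x` with product a fixed involution.
-/

set_option autoImplicit false
set_option linter.style.haveILetI false

namespace Cfsg.Agent.SelfThree

variable {G : Type*} [Group G]

/-- The set counted by the class multiplication formula. -/
def Pairs (x t : G) : Set G := {a | IsConj x a ∧ IsConj x (a⁻¹ * t)}

/-- Involutions spanning with `t` a four-group normalized by an element of order 3. -/
def Good (x t : G) : Set G := {s | ∃ a ∈ Pairs x t, a * t * a⁻¹ = s}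

theorem cube_of_conj {x a : G} (hx : orderOf x = 3) (h : IsConj x a) : orderOf a = 3 := by
  obtain ⟨c, rfl⟩ := isConj_iff.1 h
  rw [Invol.order_conj, hx]

/-- The four-group relations of a pair. -/
theorem pair_facts {x t a : G} (hx : orderOf x = 3) (ht : orderOf t = 2) (ha : a ∈ Pairs x t) :
    orderOf a = 3 ∧ ¬ Commute a t ∧ a * (a * t * a⁻¹) * a⁻¹ = t * (a * t * a⁻¹) ∧
      Commute t (a * t * a⁻¹) := by
  have h3 : orderOf a = 3 := cube_of_conj hx ha.1
  have h3' : orderOf (a⁻¹ * t) = 3 := cube_of_conj hx ha.2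
  have e3 : a * (a * a) = 1 := by rw [← pow_three, ← h3, pow_orderOf_eq_one]
  have e2 : t * t = 1 := Invol.mul_self ht
  have einv : a⁻¹ = a * a := inv_eq_of_mul_eq_one_right e3
  have etinv : t⁻¹ = t := Invol.inv_self ht
  have e : (t * a) * ((t * a) * (t * a)) = 1 := by
    have : ((a⁻¹ * t)⁻¹) ^ 3 = 1 := by rw [inv_pow, ← h3', pow_orderOf_eq_one, inv_one]
    rwa [mul_inv_rev, inv_inv, etinv, pow_three] at this
  have hne : ¬ Commute a t := fun hc => by
    have h6 := hc.symm.mul_pow 3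
    rw [pow_three, e, show t ^ 3 = t by rw [pow_three, e2, mul_one], pow_three, e3, mul_one] at h6
    exact Invol.ne_one ht h6.symm
  have hs2 : (a * t * a⁻¹) * (a * t * a⁻¹) = 1 := by
    rw [show (a * t * a⁻¹) * (a * t * a⁻¹) = a * (t * t) * a⁻¹ by group, e2]; group
  set s := a * t * a⁻¹ with hs
  have hr2 : (a * s * a⁻¹) * (a * s * a⁻¹) = 1 := by
    rw [show (a * s * a⁻¹) * (a * s * a⁻¹) = a * (s * s) * a⁻¹ by group, hs2]; group
  -- `t * s * r = 1`
  have h1 : t * s * (a * s * a⁻¹) = 1 := by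
    calc t * s * (a * s * a⁻¹) = t * a * (t * a * (t * a)) * (a * (a * a))⁻¹ := by rw [hs]; group
      _ = 1 := by rw [e, e3, inv_one, mul_one]
  have hr : a * s * a⁻¹ = t * s := by
    rw [← inv_eq_of_mul_eq_one_right hr2, inv_eq_of_mul_eq_one_left h1]
  refine ⟨h3, hne, hr, ?_⟩
  show t * s = s * t
  calc t * s = (a * s * a⁻¹)⁻¹ := (inv_eq_of_mul_eq_one_left h1).symm
    _ = (t * s)⁻¹ := by rw [hr]
    _ = s * t := by rw [mul_inv_rev, etinv, inv_eq_of_mul_eq_one_right hs2]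

variable [Finite G]

/-- Pairs are bounded by the centralizer order times the number of conjugacy representatives. -/
theorem pairs_le {x t : G} (hx : orderOf x = 3) (ht : orderOf t = 2) (R : Finset G)
    (hR : ∀ s ∈ Good x t, ∃ h ∈ Subgroup.centralizer ({t} : Set G), h * s * h⁻¹ ∈ R) :
    Nat.card (Pairs x t) ≤ Nat.card (Subgroup.centralizer ({t} : Set G)) * R.card := by
  classical
  choose h hhC hhR using fun s : Good x t => hR (s : G) s.2
  -- a representative of each fibre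
  have hex : ∀ s : Good x t, ∃ a : Pairs x t, (a : G) * t * (a : G)⁻¹ = s := fun s => by
    obtain ⟨a, ha, he⟩ := s.2
    exact ⟨⟨a, ha⟩, he⟩
  choose a₀ ha₀ using hex
  let σ : Pairs x t → Good x t := fun a => ⟨(a : G) * t * (a : G)⁻¹, a, a.2, rfl⟩
  have hf : ∀ a : Pairs x t, Commute ((a : G) * (a₀ (σ a) : G)⁻¹) t ∧
      Commute ((a : G) * (a₀ (σ a) : G)⁻¹) ((a : G) * t * (a : G)⁻¹) := by
    intro a
    set b := a₀ (σ a)
    have hb : (b : G) * t * (b : G)⁻¹ = (a : G) * t * (a : G)⁻¹ := ha₀ (σ a)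
    set s := (a : G) * t * (a : G)⁻¹ with hs
    have ra := (pair_facts hx ht a.2).2.2.1
    have rb := (pair_facts hx ht b.2).2.2.1
    rw [hb] at rb
    set f := (a : G) * (b : G)⁻¹ with hf
    have fs : f * s * f⁻¹ = s := by
      calc f * s * f⁻¹ = f * ((b : G) * t * (b : G)⁻¹) * f⁻¹ := by rw [hb]
        _ = (a : G) * t * (a : G)⁻¹ := by rw [hf]; group
        _ = s := hs.symm
    have fts : f * (t * s) * f⁻¹ = t * s := by
      calc f * (t * s) * f⁻¹ = f * ((b : G) * s * (b : G)⁻¹) * f⁻¹ := by rw [rb]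
        _ = (a : G) * s * (a : G)⁻¹ := by rw [hf]; group
        _ = t * s := ra
    have ft : f * t * f⁻¹ = t := by
      calc f * t * f⁻¹ = (f * (t * s) * f⁻¹) * (f * s * f⁻¹)⁻¹ := by group
        _ = t := by rw [fts, fs, mul_inv_cancel_right]
    exact ⟨mul_inv_eq_iff_eq_mul.1 ft, mul_inv_eq_iff_eq_mul.1 fs⟩
  let Φ : Pairs x t → Subgroup.centralizer ({t} : Set G) × R := fun a =>
    (⟨h (σ a) * ((a : G) * (a₀ (σ a) : G)⁻¹), mul_mem (hhC (σ a))
      (Subgroup.mem_centralizer_singleton_iff.2 (hf a).1.eq)⟩,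
      ⟨h (σ a) * ((a : G) * t * (a : G)⁻¹) * (h (σ a))⁻¹, hhR (σ a)⟩)
  have hΦ : Function.Injective Φ := by
    intro a b e
    have e1 : h (σ a) * ((a : G) * (a₀ (σ a) : G)⁻¹) = h (σ b) * ((b : G) * (a₀ (σ b) : G)⁻¹) :=
      congrArg (fun p => (p.1 : G)) e
    have e2 : h (σ a) * ((a : G) * t * (a : G)⁻¹) * (h (σ a))⁻¹ =
        h (σ b) * ((b : G) * t * (b : G)⁻¹) * (h (σ b))⁻¹ :=
      congrArg (fun p => (p.2 : G)) e
    have k : ∀ c : Pairs x t, (h (σ c) * ((c : G) * (a₀ (σ c) : G)⁻¹))⁻¹ *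
        (h (σ c) * ((c : G) * t * (c : G)⁻¹) * (h (σ c))⁻¹) * (h (σ c) * ((c : G) * (a₀ (σ c) : G)⁻¹)) =
        (c : G) * t * (c : G)⁻¹ := by
      intro c
      have h2 := (hf c).2.eq
      generalize (c : G) * (a₀ (σ c) : G)⁻¹ = f at h2 ⊢
      generalize (c : G) * t * (c : G)⁻¹ = s at h2 ⊢
      generalize h (σ c) = g
      calc (g * f)⁻¹ * (g * s * g⁻¹) * (g * f) = f⁻¹ * (s * f) := by group
        _ = s := by rw [← h2, inv_mul_cancel_left]
    have es : σ a = σ b := Subtype.ext (by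
      show (a : G) * t * (a : G)⁻¹ = (b : G) * t * (b : G)⁻¹
      rw [← k a, ← k b, e1, e2])
    rw [es] at e1
    exact Subtype.ext (mul_right_cancel (mul_left_cancel e1))
  have := Nat.card_le_card_of_injective Φ hΦ
  rwa [Nat.card_prod, Nat.card_eq_fintype_card (α := R), Fintype.card_coe] at this

open scoped Classical in
omit [Finite G] in
/-- Representatives of an invariant finite set all of whose classes are large. -/
theorem exists_reps (S : Subgroup G) (m : ℕ) (T : Finset G)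
    (hT : ∀ g ∈ S, ∀ s ∈ T, g * s * g⁻¹ ∈ T)
    (hm : ∀ s ∈ T, m ≤ (T.filter fun r => ∃ g ∈ S, g * s * g⁻¹ = r).card) :
    ∃ R : Finset G, R.card * m ≤ T.card ∧ ∀ s ∈ T, ∃ g ∈ S, g * s * g⁻¹ ∈ R := by
  induction T using Finset.strongInduction with
  | H T ih =>
    rcases T.eq_empty_or_nonempty with rfl | ⟨s, hs⟩
    · exact ⟨∅, by simp, by simp⟩
    set O := T.filter fun r => ∃ g ∈ S, g * s * g⁻¹ = r with hO
    have hOT : O ⊆ T := Finset.filter_subset _ _
    have hsO : s ∈ O := Finset.mem_filter.2 ⟨hs, 1, one_mem _, by simp⟩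
    have hcl : ∀ g ∈ S, ∀ r ∈ T, g * r * g⁻¹ ∈ O → r ∈ O := by
      intro g hg r hr h
      obtain ⟨-, k, hk, e⟩ := Finset.mem_filter.1 h
      refine Finset.mem_filter.2 ⟨hr, g⁻¹ * k, mul_mem (inv_mem hg) hk, ?_⟩
      calc g⁻¹ * k * s * (g⁻¹ * k)⁻¹ = g⁻¹ * (k * s * k⁻¹) * g := by group
        _ = r := by rw [e]; group
    have hinv : ∀ g ∈ S, ∀ r ∈ T \ O, g * r * g⁻¹ ∈ T \ O := fun g hg r hr => by
      rw [Finset.mem_sdiff] at hr ⊢
      exact ⟨hT g hg r hr.1, fun h => hr.2 (hcl g hg r hr.1 h)⟩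
    have hm' : ∀ r ∈ T \ O, m ≤ ((T \ O).filter fun q => ∃ g ∈ S, g * r * g⁻¹ = q).card := by
      intro r hr
      refine (hm r (Finset.mem_sdiff.1 hr).1).trans (Finset.card_le_card fun q hq => ?_)
      obtain ⟨-, g, hg, rfl⟩ := Finset.mem_filter.1 hq
      exact Finset.mem_filter.2 ⟨hinv g hg r hr, g, hg, rfl⟩
    obtain ⟨R, hR1, hR2⟩ := ih (T \ O) (Finset.sdiff_ssubset hOT ⟨s, hsO⟩) hinv hm'
    refine ⟨insert s R, ?_, fun r hr => ?_⟩
    · have h1 := Finset.card_sdiff_add_card_eq_card hOT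
      have h2 : m ≤ O.card := hm s hs
      have h3 := Finset.card_insert_le s R
      nlinarith
    · by_cases hrO : r ∈ O
      · obtain ⟨-, g, hg, rfl⟩ := Finset.mem_filter.1 hrO
        exact ⟨g⁻¹, inv_mem hg, by
          rw [show g⁻¹ * (g * s * g⁻¹) * g⁻¹⁻¹ = s by group]; exact Finset.mem_insert_self _ _⟩
      · obtain ⟨g, hg, h⟩ := hR2 r (Finset.mem_sdiff.2 ⟨hr, hrO⟩)
        exact ⟨g, hg, Finset.mem_insert_of_mem h⟩

open scoped Classical in
/-- The class of an element is at least the index of its centralizer. -/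
theorem class_card_mul (S : Subgroup G) (s : G) (T : Finset G) (hT : ∀ g ∈ S, g * s * g⁻¹ ∈ T) :
    Nat.card S ≤ (T.filter fun r => ∃ g ∈ S, g * s * g⁻¹ = r).card *
      Nat.card ↥(S ⊓ Subgroup.centralizer ({s} : Set G)) := by
  set O := T.filter fun r => ∃ g ∈ S, g * s * g⁻¹ = r
  have hmem : ∀ g : S, (g : G) * s * (g : G)⁻¹ ∈ O := fun g =>
    Finset.mem_filter.2 ⟨hT g g.2, g, g.2, rfl⟩
  have hex : ∀ r : O, ∃ g : S, (g : G) * s * (g : G)⁻¹ = r := fun r => by
    obtain ⟨-, g, hg, e⟩ := Finset.mem_filter.1 r.2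
    exact ⟨⟨g, hg⟩, e⟩
  choose g₀ hg₀ using hex
  let f : S → O × ↥(S ⊓ Subgroup.centralizer ({s} : Set G)) := fun g =>
    (⟨_, hmem g⟩, ⟨(g₀ ⟨_, hmem g⟩ : G)⁻¹ * g, Subgroup.mem_inf.2 ⟨S.mul_mem (S.inv_mem (g₀ _).2) g.2,
      Subgroup.mem_centralizer_singleton_iff.2 (by
        have h := hg₀ ⟨_, hmem g⟩
        calc (g₀ ⟨_, hmem g⟩ : G)⁻¹ * g * s
            = (g₀ ⟨_, hmem g⟩ : G)⁻¹ * ((g : G) * s * (g : G)⁻¹) * g := by group
          _ = (g₀ ⟨_, hmem g⟩ : G)⁻¹ * ((g₀ ⟨_, hmem g⟩ : G) * s * (g₀ ⟨_, hmem g⟩ : G)⁻¹) * g := by rw [h]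
          _ = s * ((g₀ ⟨_, hmem g⟩ : G)⁻¹ * g) := by group)⟩⟩)
  have hf : Function.Injective f := fun a b e => by
    have e1 : (⟨_, hmem a⟩ : O) = ⟨_, hmem b⟩ := congrArg Prod.fst e
    have e2 : (g₀ ⟨_, hmem a⟩ : G)⁻¹ * a = (g₀ ⟨_, hmem b⟩ : G)⁻¹ * b :=
      congrArg (fun p => (p.2 : G)) e
    rw [e1] at e2
    exact Subtype.ext (mul_left_cancel e2)
  have := Nat.card_le_card_of_injective f hf
  rwa [Nat.card_prod, Nat.card_eq_fintype_card (α := O), Fintype.card_coe] at this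

open scoped Classical in
/-- A set of involutions of which each centralizes at most a quarter of the group is at most five eighths. -/
theorem invol_bound (Q : Subgroup G) (T : Finset G) (hTQ : ∀ s ∈ T, s ∈ Q ∧ s * s = 1)
    (h : ∀ s ∈ T, 4 * Nat.card ↥(Q ⊓ Subgroup.centralizer ({s} : Set G)) ≤ Nat.card Q) :
    8 * T.card ≤ 5 * Nat.card Q := by
  rcases T.eq_empty_or_nonempty with rfl | ⟨s, hs⟩
  · simp
  let U : Finset G := T.image fun r => s * r
  have hUcard : U.card = T.card := Finset.card_image_of_injective _ (mul_right_injective s)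
  letI := Fintype.ofFinite Q
  let QF : Finset G := (Finset.univ : Finset Q).map ⟨Subtype.val, Subtype.val_injective⟩
  have hQF : ∀ q, q ∈ QF ↔ q ∈ Q := fun q => by simp [QF]
  have hQFc : QF.card = Nat.card Q := by rw [Finset.card_map, Finset.card_univ, Nat.card_eq_fintype_card]
  have hun : (T ∪ U).card ≤ Nat.card Q := by
    rw [← hQFc]
    refine Finset.card_le_card (Finset.union_subset (fun r hr => (hQF r).2 (hTQ r hr).1) fun r hr => ?_)
    obtain ⟨q, hq, rfl⟩ := Finset.mem_image.1 hr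
    exact (hQF _).2 (mul_mem (hTQ s hs).1 (hTQ q hq).1)
  let CF : Finset G := QF.filter fun q => Commute q s
  have hCF : CF.card ≤ Nat.card ↥(Q ⊓ Subgroup.centralizer ({s} : Set G)) := by
    have := Nat.card_le_card_of_injective
      (fun q : CF => (⟨q.1, (hQF _).1 (Finset.mem_filter.1 q.2).1,
        Subgroup.mem_centralizer_singleton_iff.2 (Finset.mem_filter.1 q.2).2.eq⟩ :
          ↥(Q ⊓ Subgroup.centralizer ({s} : Set G))))
      (fun a b e => Subtype.ext (congrArg (fun p => (p.1 : G)) e))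
    rwa [Nat.card_eq_fintype_card (α := CF), Fintype.card_coe] at this
  have hint : T ∩ U ⊆ CF := by
    intro r hr
    obtain ⟨hrT, hrU⟩ := Finset.mem_inter.1 hr
    obtain ⟨q, hq, rfl⟩ := Finset.mem_image.1 hrU
    refine Finset.mem_filter.2 ⟨(hQF _).2 (hTQ _ hrT).1, ?_⟩
    have h1 := (hTQ _ hrT).2
    have h2 := (hTQ s hs).2
    have h3 := (hTQ q hq).2
    show s * q * s = s * (s * q)
    have h4 : q * s = s * q := by
      calc q * s = (s * s) * (q * s) * (q * q) := by rw [h2, h3, one_mul, mul_one]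
        _ = s * (s * q * (s * q)) * q := by group
        _ = s * q := by rw [h1, mul_one]
    rw [mul_assoc, h4]
  have h1 := Finset.card_union_add_card_inter T U
  have h2 := Finset.card_le_card hint
  have h3 := h s hs
  omega

end Cfsg.Agent.SelfThree
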