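import Cfsg.Agent.Lib.SelfThree.Shape
import Cfsg.Agent.Lib.SelfThree.Count
import Cfsg.Agent.Lib.SelfThree.Arith

/-!
The 2-local bound: a simple group with a self-centralizing element of order 3 has order 60 or 168.
-/

set_option autoImplicit false
set_option linter.style.haveILetI false
set_option linter.unusedSectionVars false

namespace Cfsg.Agent.SelfThree

universe u

variable {G : Type u} [Group G] [Finite G]

/-- The four-group spanned by two commuting involutions. -/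
def four (t s : G) (ht : t * t = 1) (hs : s * s = 1) (hc : t * s = s * t) : Subgroup G where
  carrier := {1, t, s, t * s}
  one_mem' := Or.inl rfl
  mul_mem' := by
    have e1 : ∀ g, t * (t * g) = g := fun g => by rw [← mul_assoc, ht, one_mul]
    have e2 : ∀ g, s * (s * g) = g := fun g => by rw [← mul_assoc, hs, one_mul]
    have e3 : ∀ g, s * (t * g) = t * (s * g) := fun g => by rw [← mul_assoc, ← hc, mul_assoc]
    rintro a b (rfl | rfl | rfl | rfl) (rfl | rfl | rfl | rfl) <;>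
      simp [mul_assoc, ht, hs, e1, e2, e3, hc.symm]
  inv_mem' := by
    rintro a (rfl | rfl | rfl | rfl) <;>
      simp [inv_eq_of_mul_eq_one_right ht, inv_eq_of_mul_eq_one_right hs, hc.symm]

theorem mem_four {t s : G} {ht : t * t = 1} {hs : s * s = 1} {hc : t * s = s * t} {g : G} :
    g ∈ four t s ht hs hc ↔ g = 1 ∨ g = t ∨ g = s ∨ g = t * s := Iff.rfl

theorem card_four {t s : G} (ht : t * t = 1) (hs : s * s = 1) (hc : t * s = s * t)
    (h1 : t ≠ 1) (h2 : s ≠ 1) (h3 : t ≠ s) : Nat.card (four t s ht hs hc) = 4 := by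
  classical
  have h4 : t * s ≠ 1 := fun h =>
    h3 ((inv_eq_of_mul_eq_one_right ht).symm.trans (inv_eq_of_mul_eq_one_right h))
  have h5 : t * s ≠ t := fun h => h2 (mul_eq_left.1 h)
  have h6 : t * s ≠ s := fun h => h1 (mul_eq_right.1 h)
  calc Nat.card (four t s ht hs hc) = Nat.card (({1, t, s, t * s} : Finset G) : Set G) :=
        Nat.card_congr (Equiv.setCongr (by ext g; exact (mem_four (g := g)).trans (by simp)))
    _ = ({1, t, s, t * s} : Finset G).card := by simp [Set.ncard_coe_finset]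
    _ = 4 := by
        rw [Finset.card_insert_of_notMem (by simp [h1.symm, h2.symm, h4.symm]),
          Finset.card_insert_of_notMem (by simp [h3, h5.symm]), Finset.card_pair h6.symm]

theorem sq_of_four {t s : G} {ht : t * t = 1} {hs : s * s = 1} {hc : t * s = s * t} :
    ∀ e ∈ four t s ht hs hc, e * e = 1 := by
  rintro e (rfl | rfl | rfl | rfl)
  · rw [mul_one]
  · exact ht
  · exact hs
  · calc t * s * (t * s) = (t * t) * (s * s) := by rw [mul_assoc t s, ← mul_assoc s, ← hc]; group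
      _ = 1 := by rw [ht, hs, one_mul]

theorem four_two {t s : G} {ht : t * t = 1} {hs : s * s = 1} {hc : t * s = s * t} :
    IsPGroup 2 (four t s ht hs hc) := fun e => ⟨1, Subtype.ext (by
      rw [Subgroup.coe_pow, pow_one, sq, sq_of_four _ e.2, Subgroup.coe_one])⟩

theorem card_centralizer_conj {a b : G} (h : IsConj a b) :
    Nat.card (Subgroup.centralizer ({b} : Set G)) = Nat.card (Subgroup.centralizer ({a} : Set G)) := by
  obtain ⟨g, rfl⟩ := isConj_iff.1 h
  refine (Nat.card_congr ((MulAut.conj g).toEquiv.subtypeEquiv fun z => ?_)).symm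
  simp only [Subgroup.mem_centralizer_singleton_iff, MulEquiv.toEquiv_eq_coe, MulEquiv.coe_toEquiv,
    MulAut.conj_apply]
  constructor
  · intro hz
    calc g * z * g⁻¹ * (g * a * g⁻¹) = g * (z * a) * g⁻¹ := by group
      _ = g * a * g⁻¹ * (g * z * g⁻¹) := by rw [hz]; group
  · intro hz
    calc z * a = g⁻¹ * (g * z * g⁻¹ * (g * a * g⁻¹)) * g := by group
      _ = a * z := by rw [hz]; group

theorem Data.transport [IsSimpleGroup G] {x t t₀ : G} {d : ℕ} {u : ℤ} (h : Data x t d u)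
    (ht₀ : orderOf t₀ = 2) : Data x t₀ d u := by
  have hc := h.one_class t₀ ht₀
  have hcard := card_centralizer_conj hc
  obtain ⟨g, hg⟩ := isConj_iff.1 hc
  refine ⟨h.two_le, h.lt, fun s hs => hc.symm.trans (h.one_class s hs), by rw [hcard]; exact h.card_eq, ?_,
    by rw [hcard]; exact h.bound, h.elem, h.dvd⟩
  rw [← h.pairs]
  congr 3
  refine Nat.card_congr (((MulAut.conj g).toEquiv.subtypeEquiv fun a => ?_).symm)
  have k : ∀ b : G, IsConj x b ↔ IsConj x (g * b * g⁻¹) := fun b =>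
    ⟨fun h => h.trans (isConj_iff.2 ⟨g, rfl⟩), fun h => h.trans (isConj_iff.2 ⟨g⁻¹, by group⟩)⟩
  show IsConj x a ∧ IsConj x (a⁻¹ * t) ↔ IsConj x (g * a * g⁻¹) ∧ IsConj x ((g * a * g⁻¹)⁻¹ * t₀)
  rw [← hg, show (g * a * g⁻¹)⁻¹ * (g * t * g⁻¹) = g * (a⁻¹ * t) * g⁻¹ by group, ← k, ← k]

/-- A 2-group is everything in a bigger one if it is its own normalizer there. -/
theorem eq_of_normalizer_le {P S : Subgroup G} (hP : IsPGroup 2 P) (hSP : S ≤ P)
    (h : ∀ g ∈ P, (∀ q, q ∈ S ↔ g * q * g⁻¹ ∈ S) → g ∈ S) : S = P := by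
  haveI : Fact (Nat.Prime 2) := ⟨Nat.prime_two⟩
  haveI : Group.IsNilpotent P := hP.isNilpotent
  by_contra hne
  have hlt : S.subgroupOf P < ⊤ := lt_top_iff_ne_top.2 fun e =>
    hne (le_antisymm hSP (Subgroup.subgroupOf_eq_top.1 e))
  obtain ⟨g, hg, hgS⟩ := SetLike.exists_of_lt (Group.normalizerCondition_of_isNilpotent _ hlt)
  refine hgS (h (g : G) g.2 fun q => ?_)
  have hg' := Subgroup.mem_normalizer_iff.1 hg
  constructor
  · intro hq
    exact (hg' ⟨q, hSP hq⟩).1 hq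
  · intro hq
    have hqP : q ∈ P := by
      have := mul_mem (mul_mem (inv_mem g.2) (hSP hq)) g.2
      rwa [show (g : G)⁻¹ * ((g : G) * q * (g : G)⁻¹) * (g : G) = q by group] at this
    exact (hg' ⟨q, hqP⟩).2 hq

theorem two_bound {R H : Subgroup G} (hR : IsPGroup 2 R) (hRH : R ≤ H) {j o : ℕ} (ho : Odd o)
    (hH : Nat.card H = 2 ^ j * o) : Nat.card R ≤ 2 ^ j := by
  haveI : Fact (Nat.Prime 2) := ⟨Nat.prime_two⟩
  obtain ⟨i, hi⟩ := IsPGroup.iff_card.1 hR
  have h1 := Subgroup.card_dvd_of_le hRH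
  rw [hi, hH] at h1
  rw [hi]
  exact Nat.le_of_dvd (by positivity)
    ((Nat.Coprime.pow_left i (Nat.coprime_two_left.2 ho)).dvd_of_dvd_mul_right h1)

theorem pow_two_mod_three {j : ℕ} : 2 ^ j % 3 = 1 ↔ Even j := by
  induction j with
  | zero => simp
  | succ j ih =>
    rw [pow_succ, Nat.mul_mod, Nat.even_add_one, ← ih]
    have : 2 ^ j % 3 ≠ 0 := fun h =>
      absurd (Nat.prime_three.dvd_of_dvd_pow (Nat.dvd_of_mod_eq_zero h)) (by norm_num)
    omega

section

variable [IsSimpleGroup G] {x : G} (hnp : ¬ (Nat.card G).Prime) (hx : orderOf x = 3)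
  (hC : Subgroup.centralizer ({x} : Set G) = Subgroup.zpowers x)

include hx hC in
/-- The centralizer of a good four-group. -/
theorem good_facts {t s : G} (ht : orderOf t = 2) (hs : s ∈ Good x t) :
    orderOf s = 2 ∧ s ≠ t ∧ Commute t s ∧
      ∃ a, orderOf a = 3 ∧ Fpf a (Subgroup.centralizer ({t} : Set G) ⊓ Subgroup.centralizer ({s} : Set G)) := by
  obtain ⟨a, ha, rfl⟩ := hs
  obtain ⟨h3, hne, hr, hc⟩ := pair_facts hx ht ha
  set s := a * t * a⁻¹ with hsdef
  refine ⟨by rw [hsdef, Invol.order_conj, ht], fun e => hne (mul_inv_eq_iff_eq_mul.1 e), hc, a, h3,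
    by rw [← h3, pow_orderOf_eq_one], fun q hq => ?_, fun q hq hqc => ?_⟩
  · have h1 : Commute q t := Subgroup.mem_centralizer_singleton_iff.1 hq.1
    have h2 : Commute q s := Subgroup.mem_centralizer_singleton_iff.1 hq.2
    have k1 : Commute (a * q * a⁻¹) s := h1.map (MulAut.conj a).toMonoidHom
    have k2 : Commute (a * q * a⁻¹) (t * s) := by
      rw [← hr]; exact h2.map (MulAut.conj a).toMonoidHom
    refine Subgroup.mem_inf.2 ⟨Subgroup.mem_centralizer_singleton_iff.2 ?_, Subgroup.mem_centralizer_singleton_iff.2 k1.eq⟩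
    have := k2.mul_right k1.inv_right
    rw [mul_inv_cancel_right] at this
    exact this.eq
  · by_contra hq1
    refine hne ?_
    have h1 : q ∈ Subgroup.zpowers a := SelfCent.mem_of_commute (centralizer_eq hx hC h3) hqc.symm.eq
    haveI : Fact (Nat.Prime 3) := ⟨Nat.prime_three⟩
    obtain ⟨k, hk⟩ := Subgroup.mem_zpowers_iff.1
      ((SelfCent.zpowers_eq h3 h1 hq1).symm ▸ Subgroup.mem_zpowers a : a ∈ Subgroup.zpowers q)
    rw [← hk]
    exact (show Commute q t from Subgroup.mem_centralizer_singleton_iff.1 hq.1).zpow_left k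

include hx hC in
/-- A 2-subgroup inside an invariant subgroup is no bigger than an invariant 2-subgroup. -/
theorem two_le_max {a : G} (ha : orderOf a = 3) {F : Subgroup G} (hF : Fpf a F) {R : Subgroup G}
    (hR : IsPGroup 2 R) (hRF : R ≤ F) {m : ℕ}
    (hmax : ∀ P : Subgroup G, IsPGroup 2 P → (∀ p ∈ P, a * p * a⁻¹ ∈ P) → Nat.card P ≤ m) :
    Nat.card R ≤ m := by
  haveI : Fact (Nat.Prime 2) := ⟨Nat.prime_two⟩
  haveI := hF.nilpotent
  obtain ⟨P, hP⟩ := (hR.comap_subtype (K := F)).exists_le_sylow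
  haveI hPc : (P : Subgroup F).Characteristic := P.characteristic_of_normal inferInstance
  let φ : F ≃* F :=
    { toFun := fun q => ⟨a * q * a⁻¹, hF.conj _ q.2⟩
      invFun := fun q => ⟨a⁻¹ * q * a, hF.conj_inv q.2⟩
      left_inv := fun q => Subtype.ext (by show a⁻¹ * (a * (q : G) * a⁻¹) * a = q; group)
      right_inv := fun q => Subtype.ext (by show a * (a⁻¹ * (q : G) * a) * a⁻¹ = q; group)
      map_mul' := fun p q => Subtype.ext (by
        show a * ((p : G) * q) * a⁻¹ = a * p * a⁻¹ * (a * q * a⁻¹); group) }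
  have h1 := hmax ((P : Subgroup F).map F.subtype) (P.isPGroup'.map _) (by
    rintro _ ⟨p, hp, rfl⟩
    refine ⟨φ p, ?_, rfl⟩
    have := Subgroup.characteristic_iff_map_eq.1 hPc φ
    exact this ▸ ⟨p, hp, rfl⟩)
  rw [Subgroup.card_map_of_injective F.subtype_injective] at h1
  refine le_trans ?_ h1
  rw [← Nat.card_congr (Subgroup.subgroupOfEquivOfLe hRF).toEquiv]
  exact Subgroup.card_le_of_le hP

theorem good_conj {t g s : G} (hg : Commute g t) (hs : s ∈ Good x t) : g * s * g⁻¹ ∈ Good x t := by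
  obtain ⟨a, ⟨h1, h2⟩, rfl⟩ := hs
  have hgt : g * t * g⁻¹ = t := mul_inv_eq_iff_eq_mul.2 hg.eq
  refine ⟨g * a * g⁻¹, ⟨h1.trans (isConj_iff.2 ⟨g, rfl⟩), ?_⟩, ?_⟩
  · have h3 : (g * a * g⁻¹)⁻¹ * (g * t * g⁻¹) = g * (a⁻¹ * t) * g⁻¹ := by group
    rw [hgt] at h3
    rw [h3]
    exact h2.trans (isConj_iff.2 ⟨g, rfl⟩)
  · calc g * a * g⁻¹ * t * (g * a * g⁻¹)⁻¹ = g * a * g⁻¹ * (g * t * g⁻¹) * (g * a * g⁻¹)⁻¹ := by rw [hgt]
      _ = g * (a * t * a⁻¹) * g⁻¹ := by group

/-- A Sylow 2-subgroup of a subgroup meets all classes of involutions. -/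
theorem into_sylow {C S : Subgroup G} (hSC : S ≤ C) (hS : IsPGroup 2 S)
    (hmax : ∀ R : Subgroup G, IsPGroup 2 R → R ≤ C → Nat.card R ≤ Nat.card S) {s : G} (hs : s ∈ C)
    (hs2 : s * s = 1) : ∃ h ∈ C, h * s * h⁻¹ ∈ S := by
  haveI : Fact (Nat.Prime 2) := ⟨Nat.prime_two⟩
  obtain ⟨P, hP⟩ := (hS.comap_subtype (K := C)).exists_le_sylow
  have hPS : (P : Subgroup C).map C.subtype = S := by
    refine (Subgroup.eq_of_le_of_card_ge
      (fun q hq => Subgroup.mem_map.2 ⟨(⟨q, hSC hq⟩ : C), hP hq, rfl⟩) ?_).symm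
    exact hmax _ (P.isPGroup'.map _) (Subgroup.map_subtype_le _)
  have hz : IsPGroup 2 (Subgroup.zpowers (⟨s, hs⟩ : C)) := by
    rintro ⟨w, hw⟩
    obtain ⟨k, rfl⟩ := Subgroup.mem_zpowers_iff.1 hw
    refine ⟨1, Subtype.ext ?_⟩
    show ((⟨s, hs⟩ : C) ^ k) ^ 2 ^ 1 = 1
    rw [pow_one, ← zpow_natCast, ← zpow_mul, mul_comm, zpow_mul, zpow_natCast,
      show (⟨s, hs⟩ : C) ^ 2 = 1 from Subtype.ext (by rw [Subgroup.coe_pow, sq]; exact hs2), one_zpow]
  obtain ⟨P', hP'⟩ := hz.exists_le_sylow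
  obtain ⟨h, hh⟩ := MulAction.exists_smul_eq C P' P
  refine ⟨h, h.2, ?_⟩
  rw [← hPS]
  refine ⟨h * ⟨s, hs⟩ * h⁻¹, ?_, rfl⟩
  have : h * ⟨s, hs⟩ * h⁻¹ ∈ ((h • P' : Sylow 2 C) : Subgroup C) := by
    rw [Sylow.coe_subgroup_smul]
    exact ⟨⟨s, hs⟩, hP' (Subgroup.mem_zpowers _), rfl⟩
  rwa [hh] at this

include hx hC in
/-- Classes of non-central involutions in an invariant 2-group. -/
theorem quarter {y : G} (hy : orderOf y = 3) {Q : Subgroup G} (hQ : IsPGroup 2 Q)
    (hQy : ∀ q ∈ Q, y * q * y⁻¹ ∈ Q) {s : G} (hs : s ∈ Q) (hnc : ¬ ∀ q ∈ Q, Commute s q) :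
    4 * Nat.card ↥(Q ⊓ Subgroup.centralizer ({s} : Set G)) ≤ Nat.card Q := by
  haveI : Fact (Nat.Prime 2) := ⟨Nat.prime_two⟩
  have hF := fpf_two hx hC hy hQ hQy
  have hF' := hF.fpf_centralizer hs
  set R := Q ⊓ Subgroup.centralizer ({s} : Set G)
  obtain ⟨j, hj⟩ := IsPGroup.iff_card.1 hQ
  obtain ⟨i, hi⟩ := IsPGroup.iff_card.1 (hQ.to_le (inf_le_left : R ≤ Q))
  have h1 := hF.card_mod
  have h2 := hF'.card_mod
  rw [hj, pow_two_mod_three] at h1
  rw [hi, pow_two_mod_three] at h2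
  have hlt : i < j := by
    by_contra hle
    refine hnc fun q hq => ?_
    have : R = Q := Subgroup.eq_of_le_of_card_ge inf_le_left (by
      rw [hi, hj]; exact Nat.pow_le_pow_right (by norm_num) (not_lt.1 hle))
    rw [← this] at hq
    exact (Subgroup.mem_centralizer_singleton_iff.1 hq.2).symm
  obtain ⟨a, rfl⟩ := h1
  obtain ⟨b, rfl⟩ := h2
  rw [hi, hj, show 4 * 2 ^ (b + b) = 2 ^ (b + b + 2) by rw [pow_add _ (b + b) 2]; ring]
  exact Nat.pow_le_pow_right (by norm_num) (by omega)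

end

end Cfsg.Agent.SelfThree
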