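import Cfsg.Agent.Lib.SelfThree.Local

/-!
A simple group with a self-centralizing element of order 3 has order 60 or 168.
-/

set_option autoImplicit false
set_option linter.style.haveILetI false
set_option linter.unusedSectionVars false

namespace Cfsg.Agent.SelfThree

universe u

variable {G : Type u} [Group G] [Finite G] [IsSimpleGroup G] {x : G}

/-- The arithmetical data at an involution. -/
structure Num (x t : G) (c D n : ℕ) (d : ℕ) (u : ℤ) : Prop where
  hc : c = Nat.card (Subgroup.centralizer ({t} : Set G))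
  hn : n = Nat.card (Pairs x t)
  hd : (d : ℤ) = D + u
  two_le : 2 ≤ d
  D_pos : 0 < D
  D_dvd : D ∣ c
  card_G : (Nat.card G : ℤ) = 3 * ((c / D : ℕ) : ℤ) ^ 2 * ((d : ℤ) * (d + 1))
  pairs : 3 * (n : ℤ) * ((D : ℤ) * D) = (c : ℤ) * c * ((d : ℤ) * d + 2 * d + 2 * u * d + u)
  bound : 2 + 2 * u + 2 * u * u ≤ (c : ℤ)
  three : ¬ 3 ∣ c
  elem : ∀ E : Subgroup G, (∀ e ∈ E, e * e = 1) → 0 ≤ (d : ℤ) + ((Nat.card E : ℤ) - 1) * u

theorem exists_num (hx : orderOf x = 3) (hC : Subgroup.centralizer ({x} : Set G) = Subgroup.zpowers x)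
    {t : G} (ht : orderOf t = 2) {d : ℕ} {u : ℤ} (h : Data x t d u) :
    ∃ c D n, Num x t c D n d u := by
  haveI : Fact (Nat.Prime 3) := ⟨Nat.prime_three⟩
  set c := Nat.card (Subgroup.centralizer ({t} : Set G)) with hc
  have hu := h.lt
  obtain ⟨D, hD⟩ : ∃ D : ℕ, (D : ℤ) = d - u := ⟨((d : ℤ) - u).toNat, Int.toNat_of_nonneg (by omega)⟩
  have hD0 : 0 < D := by omega
  have h3 : ¬ 3 ∣ c := fun hd3 => by
    obtain ⟨g, hg⟩ := exists_prime_orderOf_dvd_card' (G := Subgroup.centralizer ({t} : Set G)) 3 hd3
    rw [← Subgroup.orderOf_coe] at hg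
    have h1 : t ∈ Subgroup.zpowers (g : G) := SelfCent.mem_of_commute (centralizer_eq hx hC hg)
      (Subgroup.mem_centralizer_singleton_iff.1 g.2).symm
    have h2 := Subgroup.orderOf_dvd_natCard _ h1
    rw [Nat.card_zpowers, hg, ht] at h2
    omega
  obtain ⟨M, hM⟩ := h.dvd
  have e1 := h.card_eq
  rw [← hD, hM] at e1
  push_cast at e1
  have hd0 : ((d : ℤ) * ((d : ℤ) + 1)) ≠ 0 := by
    have := h.two_le
    positivity
  have e2 : (M : ℤ) * ((D : ℤ) * D) = 3 * (c : ℤ) * c := by
    have : ((d : ℤ) * ((d : ℤ) + 1)) * ((M : ℤ) * ((D : ℤ) * D)) = ((d : ℤ) * ((d : ℤ) + 1)) * (3 * (c : ℤ) * c) := by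
      rw [hc]; linear_combination e1
    exact mul_left_cancel₀ hd0 this
  have e2' : M * (D * D) = 3 * c * c := by exact_mod_cast e2
  have hD3 : ¬ 3 ∣ D := by
    rintro ⟨k, rfl⟩
    refine h3 (Nat.Prime.dvd_of_dvd_pow Nat.prime_three (n := 2) ⟨M * k * k, ?_⟩)
    rw [sq]; linarith
  have hDc : D ∣ c := by
    have h1 : D * D ∣ 3 * (c * c) := ⟨M, by linarith⟩
    have h2 : Nat.Coprime (D * D) 3 := by
      have := (Nat.prime_three.coprime_iff_not_dvd.2 hD3).symm
      exact this.mul_left this
    have h3' := h2.dvd_of_dvd_mul_left h1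
    rw [← sq, ← sq] at h3'
    exact (Nat.pow_dvd_pow_iff two_ne_zero).1 h3'
  obtain ⟨e, he⟩ := hDc
  have hM' : M = 3 * e ^ 2 := by
    refine Nat.eq_of_mul_eq_mul_right (Nat.mul_pos hD0 hD0) ?_
    rw [e2', he]; ring
  refine ⟨c, D, Nat.card (Pairs x t), hc, rfl, by omega, h.two_le, hD0, ⟨e, he⟩, ?_, ?_, h.bound, h3, h.elem⟩
  · rw [hM, hM', show c / D = e by rw [he, Nat.mul_div_cancel_left _ hD0]]
    push_cast; ring
  · have e3 : 9 * (Nat.card (Pairs x t) : ℤ) * (d * (d + 1)) =
        (Nat.card G : ℤ) * (d * d + d + u * (d + 1) + (u + 1) * d) := h.pairs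
    have e4 := h.card_eq
    rw [← hD, ← hc] at e4
    refine mul_left_cancel₀ (mul_ne_zero (three_ne_zero (α := ℤ)) hd0) ?_
    calc 3 * ((d : ℤ) * ((d : ℤ) + 1)) * (3 * (Nat.card (Pairs x t) : ℤ) * ((D : ℤ) * D))
        = (9 * (Nat.card (Pairs x t) : ℤ) * (d * (d + 1))) * (D : ℤ) ^ 2 := by ring
      _ = ((Nat.card G : ℤ) * (D : ℤ) ^ 2) * (d * d + d + u * (d + 1) + (u + 1) * d) := by rw [e3]; ring
      _ = _ := by rw [e4]; ring

theorem Num.pairs_pos {t : G} {c D n d : ℕ} {u : ℤ} (h : Num x t c D n d u) : 0 < n := by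
  by_contra h0
  rw [not_lt, Nat.le_zero] at h0
  have e := h.pairs
  rw [h0] at e
  have hc0 : (c : ℤ) ≠ 0 := by
    rw [h.hc]; exact_mod_cast Nat.card_pos.ne'
  simp only [Nat.cast_zero, mul_zero, zero_mul] at e
  have h1 : (d : ℤ) * d + 2 * d + 2 * u * d + u = 0 :=
    (mul_eq_zero.1 e.symm).resolve_left (mul_ne_zero hc0 hc0)
  have h2 : 2 * (d : ℤ) + 1 ∣ 3 := ⟨2 * d + 3 + 4 * u, by linear_combination -4 * h1⟩
  have h3 := Int.le_of_dvd (by norm_num) h2
  have := h.two_le
  omega

/-- The bound handed to the finite check. -/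
theorem Num.finish {t : G} {c D n d : ℕ} {u : ℤ} (h : Num x t c D n d u) (h4 : 4 ∣ c)
    (hd3 : 0 ≤ (d : ℤ) + 3 * u)
    (hflag : (c ≤ 64 ∧ n < 4 * c) ∨ (c = 32 ∧ n ≤ 5 * c) ∨ (c = 128 ∧ n ≤ 9 * c) ∨
      (c = 64 ∧ n ≤ 12 * c ∧ 0 ≤ (d : ℤ) + 7 * u) ∨ (16 ≤ c ∧ c ≤ 32 ∧ n ≤ 2 * c)) :
    Nat.card G = 60 ∨ Nat.card G = 168 := by
  have hc0 : 0 < c := by rw [h.hc]; exact Nat.card_pos
  have e := h.pairs
  have hcG : (c : ℤ) ∣ (Nat.card G : ℤ) := by
    rw [h.hc]; exact_mod_cast Subgroup.card_subgroup_dvd_card _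
  have hdD := h.hd
  set N : ℤ := (d : ℤ) * d + 2 * d + 2 * u * d + u with hN
  have hcZ : (0 : ℤ) < c := by exact_mod_cast hc0
  have hD2 : (0 : ℤ) < (D : ℤ) * D := by have := h.D_pos; positivity
  have lt4 : ∀ k : ℕ, n < k * c → (c : ℤ) * N < 3 * (k : ℤ) * ((D : ℤ) * D) := fun k hk => by
    have hk' : (n : ℤ) < (k : ℤ) * c := by exact_mod_cast hk
    refine lt_of_mul_lt_mul_left (a := (c : ℤ)) ?_ hcZ.le
    have := mul_lt_mul_of_pos_right hk' hD2
    linarith
  have le4 : ∀ k : ℕ, n ≤ k * c → (c : ℤ) * N ≤ 3 * (k : ℤ) * ((D : ℤ) * D) := fun k hk => by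
    have hk' : (n : ℤ) ≤ (k : ℤ) * c := by exact_mod_cast hk
    refine le_of_mul_le_mul_left (a := (c : ℤ)) ?_ hcZ
    have := mul_le_mul_of_nonneg_right hk' hD2.le
    linarith
  have hadm : Adm c D u = true := by
    simp only [Adm, Bool.and_eq_true, Bool.or_eq_true, decide_eq_true_eq]
    rw [← hdD]
    refine ⟨⟨⟨⟨⟨⟨⟨?_, ?_⟩, h.bound⟩, ?_⟩, hd3⟩, ?_⟩, ?_⟩, ?_⟩
    · omega
    · intro h3; exact h.three (Nat.dvd_of_mod_eq_zero h3)
    · exact_mod_cast h.two_le
    · rw [← h.card_G]; exact Int.emod_eq_zero_of_dvd hcG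
    · exact Int.emod_eq_zero_of_dvd ⟨n, by rw [← hN]; linear_combination -e⟩
    · rw [← hN]
      rcases hflag with ⟨h1, h2⟩ | ⟨h1, h2⟩ | ⟨h1, h2⟩ | ⟨h1, h2, h3⟩ | ⟨h1, h2, h3⟩
      · exact Or.inl (Or.inl (Or.inl (Or.inl ⟨h1, by have := lt4 4 h2; push_cast at this; linarith⟩)))
      · exact Or.inl (Or.inl (Or.inl (Or.inr ⟨h1, by have := le4 5 h2; push_cast at this; linarith⟩)))
      · exact Or.inl (Or.inl (Or.inr ⟨h1, by have := le4 9 h2; push_cast at this; linarith⟩))
      · exact Or.inl (Or.inr ⟨h1, by have := le4 12 h2; push_cast at this; linarith, h3⟩)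
      · exact Or.inr ⟨h1, h2, by have := le4 2 h3; push_cast at this; linarith⟩
  have := order_of_adm (by rcases hflag with ⟨h1, _⟩ | ⟨h1, _⟩ | ⟨h1, _⟩ | ⟨h1, _, _⟩ | ⟨_, h2, _⟩ <;> omega)
    hc0 h.D_dvd hadm
  rw [← hdD, ← h.card_G] at this
  exact_mod_cast this

/-- The number of pairs is large compared with the centralizer. -/
theorem Num.ratio {t : G} {c D n d : ℕ} {u : ℤ} (h : Num x t c D n d u) (hd3 : 0 ≤ (d : ℤ) + 3 * u) :
    c * c < 16 * n ∧ (0 ≤ (d : ℤ) + 7 * u → 35 * (c * c) < 192 * n) := by
  have hdD := h.hd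
  have hD2 : (0 : ℤ) < (D : ℤ) * D := by have := h.D_pos; positivity
  have hu : u < d := by have := h.D_pos; omega
  have hd2 : (2 : ℤ) ≤ d := by exact_mod_cast h.two_le
  have hcpos : (0 : ℤ) < (c : ℤ) * c := by
    have : (0 : ℤ) < c := by rw [h.hc]; exact_mod_cast Nat.card_pos
    positivity
  have e := h.pairs
  have hDd : ((d : ℤ) - u) = D := by omega
  constructor
  · have h1 := mul_lt_mul_of_pos_left (ratio_bound hd2 hu hd3) hcpos
    rw [hDd] at h1
    have : ((c : ℤ) * c) * ((D : ℤ) * D) * 3 < (16 * (n : ℤ)) * ((D : ℤ) * D) * 3 := by linarith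
    have := lt_of_mul_lt_mul_right (lt_of_mul_lt_mul_right this (by norm_num)) hD2.le
    exact_mod_cast this
  · intro hd7
    have h1 := mul_lt_mul_of_pos_left (ratio_bound_seven hd2 hu hd7) hcpos
    rw [hDd] at h1
    have : (35 * ((c : ℤ) * c)) * ((D : ℤ) * D) < (192 * (n : ℤ)) * ((D : ℤ) * D) := by linarith
    have := lt_of_mul_lt_mul_right this hD2.le
    exact_mod_cast this

theorem simple_order (hnp : ¬ (Nat.card G).Prime) (hx : orderOf x = 3)
    (hC : Subgroup.centralizer ({x} : Set G) = Subgroup.zpowers x)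
    (hIH : ∀ H : Subgroup G, H ≠ ⊤ → ∀ y ∈ H, orderOf y = 3 → Tri H) :
    Nat.card G = 60 ∨ Nat.card G = 168 := by
  classical
  haveI : Fact (Nat.Prime 2) := ⟨Nat.prime_two⟩
  haveI := Fintype.ofFinite G
  obtain ⟨t, ht, htx⟩ := exists_inverter hnp hx hC
  obtain ⟨d, u, hdata⟩ := exists_data hnp hx hC ht htx
  -- a four-group normalized by an element of order 3
  obtain ⟨c, D, n, hnum⟩ := exists_num hx hC ht hdata
  obtain ⟨a₀, ha₀⟩ : (Pairs x t).Nonempty := by
    have := hnum.pairs_pos
    rw [hnum.hn] at this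
    exact Set.nonempty_coe_sort.1 (Nat.card_pos_iff.1 this).1
  obtain ⟨hs₀o, hs₀t, hs₀c, -⟩ := good_facts hx hC ht (s := a₀ * t * a₀⁻¹) ⟨a₀, ha₀, rfl⟩
  obtain ⟨ha₀o, -, hr₀, -⟩ := pair_facts hx ht ha₀
  set s₀ := a₀ * t * a₀⁻¹ with hs₀
  let V := four t s₀ (Invol.mul_self ht) (Invol.mul_self hs₀o) hs₀c.eq
  have hV4 : Nat.card V = 4 := card_four _ _ _ (Invol.ne_one ht) (Invol.ne_one hs₀o) hs₀t.symm
  have hd3 : 0 ≤ (d : ℤ) + 3 * u := by
    have := hdata.elem V sq_of_four
    rw [hV4] at this
    push_cast at this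
    linarith
  have hVinv : ∀ v ∈ V, a₀ * v * a₀⁻¹ ∈ V := by
    rintro v (rfl | rfl | rfl | rfl)
    · exact Or.inl (by group)
    · exact Or.inr (Or.inr (Or.inl rfl))
    · exact Or.inr (Or.inr (Or.inr hr₀))
    · refine Or.inr (Or.inl ?_)
      calc a₀ * (t * s₀) * a₀⁻¹ = s₀ * (a₀ * s₀ * a₀⁻¹) := by simp only [hs₀]; group
        _ = s₀ * (t * s₀) := by rw [hr₀]
        _ = t := by rw [hs₀c.eq, ← mul_assoc, Invol.mul_self hs₀o, one_mul]
  -- a largest 2-subgroup normalized by an element of order 3
  obtain ⟨Q, ⟨hQ2, y, hy, hQy⟩, hQmax⟩ := Finset.exists_max_image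
    (Finset.univ.filter fun R : Subgroup G =>
      IsPGroup 2 R ∧ ∃ y, orderOf y = 3 ∧ ∀ r ∈ R, y * r * y⁻¹ ∈ R)
    (fun R : Subgroup G => Nat.card R)
    ⟨V, Finset.mem_filter.2 ⟨Finset.mem_univ _, four_two, a₀, ha₀o, hVinv⟩⟩ |>
    fun ⟨Q, hQ, hmax⟩ => (⟨Q, (Finset.mem_filter.1 hQ).2, hmax⟩ :
      ∃ Q : Subgroup G, (IsPGroup 2 Q ∧ ∃ y, orderOf y = 3 ∧ ∀ r ∈ Q, y * r * y⁻¹ ∈ Q) ∧
        ∀ R ∈ Finset.univ.filter (fun R : Subgroup G =>
          IsPGroup 2 R ∧ ∃ y, orderOf y = 3 ∧ ∀ r ∈ R, y * r * y⁻¹ ∈ R), Nat.card R ≤ Nat.card Q)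
  have hmax : ∀ {z : G}, orderOf z = 3 → ∀ R : Subgroup G, IsPGroup 2 R → (∀ r ∈ R, z * r * z⁻¹ ∈ R) →
      Nat.card R ≤ Nat.card Q := fun {z} hz R h1 h2 =>
    hQmax R (Finset.mem_filter.2 ⟨Finset.mem_univ _, h1, z, hz, h2⟩)
  have hQ4 : 4 ≤ Nat.card Q := hV4 ▸ hmax ha₀o V four_two hVinv
  have hQF := fpf_two hx hC hy hQ2 hQy
  obtain ⟨j, hj⟩ := IsPGroup.iff_card.1 hQ2
  have hjeven : Even j := pow_two_mod_three.1 (hj ▸ hQF.card_mod)
  -- four divides every centralizer of an involution
  have h4c : 4 ∣ c := by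
    rw [hnum.hc, ← hV4]
    refine Subgroup.card_dvd_of_le ?_
    rintro v (rfl | rfl | rfl | rfl) <;> rw [Subgroup.mem_centralizer_singleton_iff]
    · rw [one_mul, mul_one]
    · exact hs₀c.eq.symm
    · rw [mul_assoc, ← hs₀c.eq]
  rcases lt_or_ge 4 (Nat.card Q) with hbig | hsmall
  swap
  · -- every invariant 2-subgroup has order at most 4
    have hQ4' : Nat.card Q = 4 := le_antisymm hsmall hQ4
    set C := Subgroup.centralizer ({t} : Set G) with hCdef
    obtain ⟨P⟩ : Nonempty (Sylow 2 C) := inferInstance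
    set S := (P : Subgroup C).map C.subtype with hS
    have hS2 : IsPGroup 2 S := P.isPGroup'.map _
    have hSC : S ≤ C := Subgroup.map_subtype_le _
    have hSmax : ∀ R : Subgroup G, IsPGroup 2 R → R ≤ C → Nat.card R ≤ Nat.card S := by
      intro R hR hRC
      obtain ⟨P', hP'⟩ := (hR.comap_subtype (K := C)).exists_le_sylow
      rw [hS, Subgroup.card_map_of_injective C.subtype_injective,
        ← Nat.card_congr (Subgroup.subgroupOfEquivOfLe hRC).toEquiv, Sylow.card_eq_multiplicity P,
        ← Sylow.card_eq_multiplicity P']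
      exact Subgroup.card_le_of_le hP'
    obtain ⟨k, hk⟩ := IsPGroup.iff_card.1 hS2
    have hk2 : 2 ≤ k := by
      have h1 : 4 ≤ Nat.card S := hV4 ▸ hSmax V four_two (by
        rintro v (rfl | rfl | rfl | rfl) <;> rw [Subgroup.mem_centralizer_singleton_iff]
        · rw [one_mul, mul_one]
        · exact hs₀c.eq.symm
        · rw [mul_assoc, ← hs₀c.eq])
      by_contra hlt
      have := Nat.pow_le_pow_right (show 1 ≤ 2 by norm_num) (show k ≤ 1 by omega)
      omega
    have htS : t ∈ S := by
      obtain ⟨h, hh, hhS⟩ := into_sylow hSC hS2 hSmax (s := t)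
        (Subgroup.mem_centralizer_singleton_iff.2 rfl) (Invol.mul_self ht)
      rwa [Subgroup.mem_centralizer_singleton_iff.1 hh, mul_inv_cancel_right] at hhS
    let T := Finset.univ.filter fun s => s ∈ Good x t ∧ s ∈ S
    have hTinv : ∀ g ∈ S, ∀ s ∈ T, g * s * g⁻¹ ∈ T := fun g hg s hs => by
      obtain ⟨h1, h2⟩ := (Finset.mem_filter.1 hs).2
      exact Finset.mem_filter.2 ⟨Finset.mem_univ _,
        good_conj (Subgroup.mem_centralizer_singleton_iff.1 (hSC hg)) h1,
        mul_mem (mul_mem hg h2) (inv_mem hg)⟩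
    have hTc : T.card + 2 ≤ Nat.card S := by
      have h1 : insert 1 (insert t T) ⊆ Finset.univ.filter fun s => s ∈ S := by
        intro s hs
        simp only [Finset.mem_insert] at hs
        refine Finset.mem_filter.2 ⟨Finset.mem_univ _, ?_⟩
        rcases hs with rfl | rfl | hs
        exacts [one_mem _, htS, (Finset.mem_filter.1 hs).2.2]
      have htT : t ∉ T := fun h => (good_facts hx hC ht (Finset.mem_filter.1 h).2.1).2.1 rfl
      have h1T : (1 : G) ∉ insert t T := by
        simp only [Finset.mem_insert, not_or]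
        exact ⟨(Invol.ne_one ht).symm, fun h => Invol.ne_one (good_facts hx hC ht (Finset.mem_filter.1 h).2.1).1 rfl⟩
      have := Finset.card_le_card h1
      rw [Finset.card_insert_of_notMem h1T, Finset.card_insert_of_notMem htT] at this
      rw [Nat.card_eq_fintype_card (α := S), Fintype.card_subtype]
      exact this
    obtain ⟨R, hR1, hR2⟩ := exists_reps S (Nat.card S / 4) T hTinv fun s hs => by
      obtain ⟨h1, -⟩ := (Finset.mem_filter.1 hs).2
      have h2 := class_card_mul S s T fun g hg => hTinv g hg s hs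
      obtain ⟨-, -, -, a, ha, hF⟩ := good_facts hx hC ht h1
      have h3 := two_le_max hx hC ha hF (R := S ⊓ Subgroup.centralizer ({s} : Set G))
        (hS2.to_le inf_le_left) (inf_le_inf hSC le_rfl) (hmax ha)
      rw [hQ4'] at h3
      refine Nat.div_le_of_le_mul ?_
      rw [mul_comm]
      exact h2.trans (Nat.mul_le_mul le_rfl h3)
    have hn : n ≤ c * R.card := by
      rw [hnum.hn, hnum.hc]
      refine pairs_le hx ht R fun s hs => ?_
      obtain ⟨hso, -, hsc, -⟩ := good_facts hx hC ht hs
      obtain ⟨h, hh, hhS⟩ := into_sylow hSC hS2 hSmax (s := s)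
        (Subgroup.mem_centralizer_singleton_iff.2 hsc.symm.eq) (Invol.mul_self hso)
      obtain ⟨g, hg, hgR⟩ := hR2 _ (Finset.mem_filter.2 ⟨Finset.mem_univ _,
        good_conj (Subgroup.mem_centralizer_singleton_iff.1 hh) hs, hhS⟩)
      exact ⟨g * h, mul_mem (hSC hg) hh, by
        rwa [show g * h * s * (g * h)⁻¹ = g * (h * s * h⁻¹) * g⁻¹ by group]⟩
    have hR3 : R.card ≤ 3 := by
      have h4 : Nat.card S = 4 * (Nat.card S / 4) := by
        rw [hk, show k = 2 + (k - 2) by omega, pow_add]; norm_num
      by_contra hlt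
      have := Nat.mul_le_mul_right (Nat.card S / 4) (show 4 ≤ R.card by omega)
      omega
    have hn3 : n ≤ 3 * c := le_trans hn (by rw [mul_comm]; exact Nat.mul_le_mul_right c hR3)
    have hc0 : 0 < c := by rw [hnum.hc]; exact Nat.card_pos
    refine hnum.finish h4c hd3 (Or.inl ⟨?_, by omega⟩)
    have := (hnum.ratio hd3).1
    have h48 : c * c < 48 * c := by linarith
    have := Nat.lt_of_mul_lt_mul_right h48
    omega
  · -- the normalizer of `Q`
    have hj4 : 4 ≤ j := by
      by_contra hlt
      obtain ⟨i, rfl⟩ := hjeven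
      have := Nat.pow_le_pow_right (show 1 ≤ 2 by norm_num) (show i + i ≤ 2 by omega)
      omega
    have hQ16 : 16 ≤ Nat.card Q := hj ▸ Nat.pow_le_pow_right (show 1 ≤ 2 by norm_num) hj4
    set H := Subgroup.normalizer (Q : Set G) with hH
    have hQH : Q ≤ H := Subgroup.le_normalizer
    have hQn : ∀ h ∈ H, ∀ q ∈ Q, h * q * h⁻¹ ∈ Q := fun h hh q hq => (Subgroup.mem_normalizer_iff.1 hh q).1 hq
    have hHmem : ∀ g : G, (∀ q ∈ Q, g * q * g⁻¹ ∈ Q) → g ∈ H := by
      intro g hg
      rw [hH, Subgroup.mem_normalizer_iff_map_conj_eq]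
      refine Subgroup.eq_of_le_of_card_ge (fun q hq => ?_)
        (Subgroup.card_map_of_injective (MulAut.conj g).injective).ge
      obtain ⟨p, hp, rfl⟩ := hq
      exact hg p hp
    have hyH : y ∈ H := hHmem y hQy
    have hQne : Q ≠ ⊥ := fun e => by rw [e, Subgroup.card_bot] at hQ4; omega
    have hHtop : H ≠ ⊤ := by
      intro e
      haveI hQnorm : Q.Normal := ⟨fun q hq g => hQn g (e ▸ Subgroup.mem_top g) q hq⟩
      rcases hQnorm.eq_bot_or_eq_top with h | h
      · exact hQne h
      · have h1 := hQ2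
        rw [h] at h1
        obtain ⟨i, hi⟩ := IsPGroup.iff_card.1 (h1.of_equiv Subgroup.topEquiv)
        exact absurd (Nat.prime_three.dvd_of_dvd_pow (hi ▸ hx ▸ orderOf_dvd_natCard x : 3 ∣ 2 ^ i)) (by norm_num)
    obtain ⟨K, hK⟩ := exists_shape hx hC hy hyH (hIH H hHtop y hyH hy) hQH hQn hQ2 hQne (hmax hy)
    obtain ⟨o, ho, hoK⟩ := hK.card_two
    have hyK : y ∉ K := by
      intro h
      have := hQF
      have h1 : (3 : ℕ) ∣ Nat.card K := hy ▸ Subgroup.orderOf_dvd_natCard K h
      obtain ⟨z, hz, hz'⟩ : ∃ z ∈ Q, z ≠ 1 := by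
        by_contra hh
        push Not at hh
        exact hQne ((Subgroup.eq_bot_iff_forall _).2 hh)
      have hZ : Nontrivial Q := ⟨⟨⟨z, hz⟩, 1, fun e => hz' (congrArg Subtype.val e)⟩⟩
      obtain ⟨⟨w, hwc⟩, hw1⟩ := @exists_ne _ hQ2.center_nontrivial (1 : Subgroup.center Q)
      refine hw1 (Subtype.ext (Subtype.ext (hQF.fixed w w.2 (hK.central w w.2 (fun q hq =>
        (congrArg Subtype.val (Subgroup.mem_center_iff.1 hwc ⟨q, hq⟩)).symm) y h).symm)))
    -- a central involution of a Sylow 2-subgroup, and the Sylow 2-subgroup itself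
    set r := 2 ^ (j / 2) with hr
    have hr2 : Nat.card Q = r * r := by
      rw [hj, hr, ← pow_add]; congr 1; obtain ⟨i, rfl⟩ := hjeven; omega
    have hr4 : 4 ≤ r := by nlinarith
    have hcentQ : ∀ w ∈ Q, (∀ q ∈ Q, Commute w q) → ∀ k ∈ K, Commute w k := hK.central
    -- counting in `Q`
    have count : ∀ t₀ : G, orderOf t₀ = 2 → ∀ s ∈ Q, ¬ (∀ q ∈ Q, Commute s q) → s * s = 1 →
        t₀ ∈ Q → (∀ q ∈ Q, Commute t₀ q) →
        64 ≤ Nat.card Q ∧ 0 ≤ (d : ℤ) + 7 * u := by
      intro t₀ ht₀ s hs hsn hs2 ht₀Q ht₀c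
      set Zq := Q ⊓ Subgroup.centralizer (Q : Set G) with hZq
      have hZF : Fpf y Zq := hQF.mono inf_le_left fun q hq => by
        refine Subgroup.mem_inf.2 ⟨hQy q hq.1, Subgroup.mem_centralizer_iff.2 fun p hp => ?_⟩
        have h1 := Subgroup.mem_centralizer_iff.1 hq.2 (y⁻¹ * p * y) (hQF.conj_inv hp)
        calc p * (y * q * y⁻¹) = y * (y⁻¹ * p * y * q) * y⁻¹ := by group
          _ = y * (q * (y⁻¹ * p * y)) * y⁻¹ := by rw [h1]
          _ = y * q * y⁻¹ * p := by group
      have ht₀Z : t₀ ∈ Zq := ⟨ht₀Q, Subgroup.mem_centralizer_iff.2 fun p hp => (ht₀c p hp).symm.eq⟩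
      have hq4 := quarter hx hC hy hQ2 hQy hs hsn
      constructor
      · have hlt : Nat.card Zq < Nat.card ↥(Q ⊓ Subgroup.centralizer ({s} : Set G)) := by
          refine lt_of_le_of_ne (Subgroup.card_le_of_le fun q hq => ⟨hq.1,
            Subgroup.mem_centralizer_singleton_iff.2 ((Subgroup.mem_centralizer_iff.1 hq.2) s hs).symm⟩) ?_
          intro e
          have : Zq = Q ⊓ Subgroup.centralizer ({s} : Set G) := Subgroup.eq_of_le_of_card_ge
            (fun q hq => ⟨hq.1, Subgroup.mem_centralizer_singleton_iff.2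
              ((Subgroup.mem_centralizer_iff.1 hq.2) s hs).symm⟩) e.ge
          have hsZ : s ∈ Zq := this ▸ ⟨hs, Subgroup.mem_centralizer_singleton_iff.2 rfl⟩
          exact hsn fun q hq => (Subgroup.mem_centralizer_iff.1 hsZ.2 q hq).symm
        have hZ4 : 4 ≤ Nat.card Zq := by
          have h1 := hZF.card_mod
          have h2 : 2 ≤ Nat.card Zq := by
            have := Subgroup.orderOf_dvd_natCard Zq ht₀Z
            rw [ht₀] at this
            exact Nat.le_of_dvd Nat.card_pos this
          omega
        by_contra hlt'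
        obtain ⟨i, rfl⟩ := hjeven
        have : i + i ≤ 4 := by
          by_contra hh
          have := Nat.pow_le_pow_right (show 1 ≤ 2 by norm_num) (show 6 ≤ i + i by omega)
          omega
        have h16 : Nat.card Q = 16 := by rw [hj, show i + i = 4 by omega]; norm_num
        omega
      · -- an elementary abelian subgroup of order 8
        set z := y * t₀ * y⁻¹ with hz
        have hzZ : z ∈ Zq := hZF.conj _ ht₀Z
        have hzne : z ≠ t₀ := fun e => Invol.ne_one ht₀ (hQF.fixed _ ht₀Q (mul_inv_eq_iff_eq_mul.1 e))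
        have hzo : orderOf z = 2 := by rw [hz, Invol.order_conj, ht₀]
        have hc1 : t₀ * z = z * t₀ := (ht₀c z hzZ.1).eq
        let W := four t₀ z (Invol.mul_self ht₀) (Invol.mul_self hzo) hc1
        have hWZ : W ≤ Zq := by
          rintro w (rfl | rfl | rfl | rfl)
          exacts [one_mem _, ht₀Z, hzZ, mul_mem ht₀Z hzZ]
        have hW4 : Nat.card W = 4 := card_four _ _ _ (Invol.ne_one ht₀) (Invol.ne_one hzo) hzne.symm
        have hWs : ∀ w ∈ W, w * s = s * w := fun w hw =>
          ((Subgroup.mem_centralizer_iff.1 (hWZ hw).2) s hs).symm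
        let E : Subgroup G :=
          { carrier := {g | g ∈ W ∨ g * s ∈ W}
            one_mem' := Or.inl (one_mem _)
            mul_mem' := by
              rintro g h (hg | hg) (hh | hh)
              · exact Or.inl (mul_mem hg hh)
              · exact Or.inr (by rw [mul_assoc]; exact mul_mem hg hh)
              · refine Or.inr ?_
                rw [mul_assoc, hWs h hh, ← mul_assoc]; exact mul_mem hg hh
              · refine Or.inl ?_
                have e : g * h = (g * s) * (h * s) := by
                  calc g * h = g * h * (s * s) := by rw [hs2, mul_one]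
                    _ = g * ((h * s) * s) := by group
                    _ = g * (s * (h * s)) := by rw [hWs _ hh]
                    _ = _ := by group
                rw [e]; exact mul_mem hg hh
            inv_mem' := by
              rintro g (hg | hg)
              · exact Or.inl (inv_mem hg)
              · refine Or.inr ?_
                have e : g⁻¹ * s = (g * s)⁻¹ := by
                  have h1 := hWs _ hg
                  have h2 : g * s = s * g := by
                    calc g * s = (g * s * s) * s := by rw [mul_assoc g s s, hs2, mul_one]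
                      _ = s * (g * s) * s := by rw [h1]
                      _ = s * g * (s * s) := by group
                      _ = s * g := by rw [hs2, mul_one]
                  rw [h2, mul_inv_rev, inv_eq_of_mul_eq_one_right hs2]
                rw [e]; exact inv_mem hg }
        have hsW : s ∉ W := fun h => hsn fun q hq => ((Subgroup.mem_centralizer_iff.1 (hWZ h).2) q hq).symm
        have hEc : 8 ≤ Nat.card E := by
          let f : W × Bool → E := fun p => bif p.2 then ⟨(p.1 : G) * s, Or.inr (by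
              rw [mul_assoc, hs2, mul_one]; exact p.1.2)⟩ else ⟨p.1, Or.inl p.1.2⟩
          have hf : Function.Injective f := by
            rintro ⟨a, _ | _⟩ ⟨b, _ | _⟩ e <;> have e' := congrArg Subtype.val e <;>
              simp only [f, cond_true, cond_false] at e'
            · exact Prod.ext (Subtype.ext e') rfl
            · exact absurd (by
                have := mul_mem (inv_mem b.2) a.2
                rwa [e', inv_mul_cancel_left] at this) hsW
            · exact absurd (by
                have := mul_mem (inv_mem a.2) b.2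
                rwa [← e', inv_mul_cancel_left] at this) hsW
            · exact Prod.ext (Subtype.ext (mul_right_cancel e')) rfl
          have := Nat.card_le_card_of_injective f hf
          rwa [Nat.card_prod, hW4, Nat.card_eq_fintype_card (α := Bool), Fintype.card_bool] at this
        have hE2 : ∀ e ∈ E, e * e = 1 := by
          rintro g (hg | hg)
          · exact sq_of_four _ hg
          · have h1 := hWs _ hg
            have h2 := sq_of_four _ hg
            calc g * g = (g * s) * s * (g * s * s) := by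
                  rw [mul_assoc g s s, hs2, mul_one]
              _ = (g * s) * (s * (g * s)) * s := by group
              _ = (g * s) * ((g * s) * s) * s := by rw [← h1]
              _ = (g * s * (g * s)) * (s * s) := by group
              _ = 1 := by rw [h2, hs2, one_mul]
        have := hdata.elem E hE2
        have h8 : (8 : ℤ) ≤ (Nat.card E : ℤ) := by exact_mod_cast hEc
        rcases le_or_gt 0 u with hu | hu
        · positivity
        · nlinarith
    rcases hK.index with hI | ⟨hI, ⟨w₀, hw₀H, hw₀K, hw₀o⟩, hyw⟩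
    · -- `Q` is a Sylow 2-subgroup
      have hQmaxH : ∀ R : Subgroup G, IsPGroup 2 R → R ≤ H → Nat.card R ≤ Nat.card Q := by
        intro R hR hRH
        rw [hj]
        refine two_bound hR hRH (o := 3 * o) (Odd.mul (by decide) ho) ?_
        rw [hI, hoK, hj]; ring
      obtain ⟨P, hP⟩ := hQ2.exists_le_sylow
      have hPQ : Q = P := eq_of_normalizer_le P.isPGroup' hP fun g hg hgn => by
        have hgH : g ∈ H := hHmem g fun q hq => (hgn q).1 hq
        have hle := hQmaxH (P ⊓ H) (P.isPGroup'.to_le inf_le_left) inf_le_right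
        rw [Subgroup.eq_of_le_of_card_ge (le_inf hP hQH) hle]
        exact Subgroup.mem_inf.2 ⟨hg, hgH⟩
      have hQsyl : ∀ R : Subgroup G, IsPGroup 2 R → Nat.card R ≤ Nat.card Q := by
        intro R hR
        obtain ⟨P', hP'⟩ := hR.exists_le_sylow
        refine (Subgroup.card_le_of_le hP').trans (le_of_eq ?_)
        rw [hPQ, Sylow.card_eq_multiplicity P', ← Sylow.card_eq_multiplicity P]
      haveI : Nontrivial Q := (Subgroup.nontrivial_iff_ne_bot Q).2 hQne
      obtain ⟨t₀, ht₀o, ht₀Q, ht₀c⟩ : ∃ t₀, orderOf t₀ = 2 ∧ t₀ ∈ Q ∧ ∀ q ∈ Q, Commute t₀ q := by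
        haveI := hQ2.center_nontrivial
        obtain ⟨i, hi⟩ := IsPGroup.iff_card.1 (hQ2.to_subgroup (Subgroup.center Q))
        have h2 : 2 ∣ Nat.card (Subgroup.center Q) := by
          rw [hi]
          refine dvd_pow_self 2 fun e => ?_
          rw [e, pow_zero] at hi
          exact absurd hi (Finite.one_lt_card (α := Subgroup.center Q)).ne'
        obtain ⟨z, hz⟩ := exists_prime_orderOf_dvd_card' 2 h2
        refine ⟨(z : Q), by rw [Subgroup.orderOf_coe, Subgroup.orderOf_coe]; exact hz, (z : Q).2, fun q hq => ?_⟩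
        exact (congrArg Subtype.val (Subgroup.mem_center_iff.1 z.2 ⟨q, hq⟩)).symm
      have hdata₀ := hdata.transport ht₀o
      obtain ⟨c, D, n, hnum⟩ := exists_num hx hC ht₀o hdata₀
      set C := Subgroup.centralizer ({t₀} : Set G) with hCdef
      have hQC : Q ≤ C := fun q hq => Subgroup.mem_centralizer_singleton_iff.2 (ht₀c q hq).symm.eq
      -- central involutions
      have hcentral : ∀ z ∈ Q, (∀ q ∈ Q, Commute z q) → orderOf z = 2 →
          ∃ i : ℕ, i < 3 ∧ z = y ^ i * t₀ * (y ^ i)⁻¹ := by
        intro z hzQ hzc hzo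
        obtain ⟨g, hg⟩ := isConj_iff.1 (hdata₀.one_class z hzo)
        obtain ⟨m, hm, he⟩ := Sylow.conj_eq_normalizer_conj_of_mem_centralizer P t₀ g⁻¹
          (Subgroup.mem_centralizer_iff.2 fun q hq => by
            exact (ht₀c q (hPQ.symm ▸ (hq : q ∈ (P : Subgroup G)))).symm.eq)
          (Subgroup.mem_centralizer_iff.2 fun q hq => by
            have hq : q ∈ Q := hPQ.symm ▸ (hq : q ∈ (P : Subgroup G))
            rw [show g⁻¹⁻¹ * t₀ * g⁻¹ = g * t₀ * g⁻¹ by group, hg]
            exact (hzc q hq).symm.eq)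
        rw [show g⁻¹⁻¹ * t₀ * g⁻¹ = g * t₀ * g⁻¹ by group, hg] at he
        have hmH : m⁻¹ ∈ H := by
          rw [hH, hPQ]; exact inv_mem hm
        have hyoff : ∀ i : ℕ, i < 3 → y ^ i ∈ K → i = 0 := by
          intro i hi h
          by_contra hi0
          refine hyK ?_
          have h3 : y ^ 3 = 1 := by rw [← hy, pow_orderOf_eq_one]
          obtain rfl | rfl : i = 1 ∨ i = 2 := by omega
          · simpa using h
          · have := mul_mem h h
            rwa [← pow_add, show 2 + 2 = 3 + 1 by norm_num, pow_add, h3, one_mul, pow_one] at this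
        -- the three cosets
        obtain ⟨i, hi, hik⟩ : ∃ i : ℕ, i < 3 ∧ (y ^ i)⁻¹ * m⁻¹ ∈ K := by
          let f : Fin 3 × K → H := fun p => ⟨y ^ (p.1 : ℕ) * p.2,
            mul_mem (pow_mem hyH _) (hK.hKH p.2.2)⟩
          have hf : Function.Injective f := by
            rintro ⟨a, k⟩ ⟨b, l⟩ e
            have e' : y ^ (a : ℕ) * (k : G) = y ^ (b : ℕ) * (l : G) := congrArg Subtype.val e
            have hab : a = b := by
              by_contra hne
              rcases lt_or_gt_of_ne hne with hlt | hlt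
              · have := hyoff ((b : ℕ) - a) (by omega) (by
                  have : y ^ ((b : ℕ) - a) = (k : G) * (l : G)⁻¹ := by
                    rw [show (b : ℕ) = a + ((b : ℕ) - a) by omega, pow_add, mul_assoc] at e'
                    rw [mul_left_cancel e', mul_inv_cancel_right]
                  rw [this]; exact mul_mem k.2 (inv_mem l.2))
                omega
              · have := hyoff ((a : ℕ) - b) (by omega) (by
                  have : y ^ ((a : ℕ) - b) = (l : G) * (k : G)⁻¹ := by
                    rw [show (a : ℕ) = b + ((a : ℕ) - b) by omega, pow_add, mul_assoc] at e'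
                    rw [← mul_left_cancel e', mul_inv_cancel_right]
                  rw [this]; exact mul_mem l.2 (inv_mem k.2))
                omega
            subst hab
            exact Prod.ext rfl (Subtype.ext (mul_left_cancel e'))
          have hb := (Nat.bijective_iff_injective_and_card f).2 ⟨hf, by
            rw [Nat.card_prod, Nat.card_fin, hI]⟩
          obtain ⟨⟨i, k⟩, e⟩ := hb.2 ⟨m⁻¹, hmH⟩
          refine ⟨i, i.2, ?_⟩
          have e' : y ^ (i : ℕ) * (k : G) = m⁻¹ := congrArg Subtype.val e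
          rw [← e', inv_mul_cancel_left]
          exact k.2
        refine ⟨i, hi, ?_⟩
        have hk := hcentQ t₀ ht₀Q ht₀c _ hik
        calc z = m⁻¹ * t₀ * m := he
          _ = y ^ i * (((y ^ i)⁻¹ * m⁻¹) * t₀) * m := by group
          _ = y ^ i * (t₀ * ((y ^ i)⁻¹ * m⁻¹)) * m := by rw [hk.eq]
          _ = y ^ i * t₀ * (y ^ i)⁻¹ := by group
      let Tc := Finset.univ.filter fun s => s ∈ Good x t₀ ∧ s ∈ Q ∧ ∀ q ∈ Q, Commute s q
      let Tn := Finset.univ.filter fun s => s ∈ Good x t₀ ∧ s ∈ Q ∧ ¬ ∀ q ∈ Q, Commute s q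
      have hTc : Tc.card ≤ 2 := by
        refine le_trans (Finset.card_le_card (t := {y * t₀ * y⁻¹, y ^ 2 * t₀ * (y ^ 2)⁻¹}) fun s hs => ?_)
          Finset.card_le_two
        obtain ⟨h1, h2, h3⟩ := (Finset.mem_filter.1 hs).2
        obtain ⟨hso, hst, -, -⟩ := good_facts hx hC ht₀o h1
        obtain ⟨i, hi, rfl⟩ := hcentral s h2 h3 hso
        rcases (show i = 0 ∨ i = 1 ∨ i = 2 by omega) with rfl | rfl | rfl
        · exact absurd (by group) hst
        · simp
        · simp
      have hinv : ∀ g ∈ Q, ∀ s ∈ Tn, g * s * g⁻¹ ∈ Tn := fun g hg s hs => by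
        obtain ⟨h1, h2, h3⟩ := (Finset.mem_filter.1 hs).2
        refine Finset.mem_filter.2 ⟨Finset.mem_univ _, good_conj (ht₀c g hg).symm h1,
          mul_mem (mul_mem hg h2) (inv_mem hg), fun h => h3 fun q hq => ?_⟩
        have := (h (g * q * g⁻¹) (mul_mem (mul_mem hg hq) (inv_mem hg))).map (MulAut.conj g⁻¹).toMonoidHom
        simpa [MulAut.conj_apply, mul_assoc] using this
      have hquart : ∀ s ∈ Tn, 4 * Nat.card ↥(Q ⊓ Subgroup.centralizer ({s} : Set G)) ≤ Nat.card Q :=
        fun s hs => quarter hx hC hy hQ2 hQy (Finset.mem_filter.1 hs).2.2.1 (Finset.mem_filter.1 hs).2.2.2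
      obtain ⟨R, hR1, hR2⟩ := exists_reps Q 4 Tn hinv fun s hs => by
        have h1 := class_card_mul Q s Tn fun g hg => hinv g hg s hs
        have h2 := hquart s hs
        exact Nat.le_of_mul_le_mul_right (h2.trans h1) Nat.card_pos
      have hn : n ≤ c * (2 + R.card) := by
        rw [hnum.hn, hnum.hc]
        refine le_trans (pairs_le hx ht₀o (Tc ∪ R) fun s hs => ?_) (Nat.mul_le_mul_left _
          ((Finset.card_union_le _ _).trans (by omega)))
        obtain ⟨hso, -, hsc, -⟩ := good_facts hx hC ht₀o hs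
        obtain ⟨h, hh, hhQ⟩ := into_sylow hQC hQ2 (fun R' h1 _ => hQsyl R' h1) (s := s)
          (Subgroup.mem_centralizer_singleton_iff.2 hsc.symm.eq) (Invol.mul_self hso)
        have hg := good_conj (Subgroup.mem_centralizer_singleton_iff.1 hh) hs
        by_cases hcen : ∀ q ∈ Q, Commute (h * s * h⁻¹) q
        · exact ⟨h, hh, Finset.mem_union_left _ (Finset.mem_filter.2 ⟨Finset.mem_univ _, hg, hhQ, hcen⟩)⟩
        · obtain ⟨g, hgQ, hgR⟩ := hR2 _ (Finset.mem_filter.2 ⟨Finset.mem_univ _, hg, hhQ, hcen⟩)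
          exact ⟨g * h, mul_mem (hQC hgQ) hh, Finset.mem_union_right _ (by
            rwa [show g * h * s * (g * h)⁻¹ = g * (h * s * h⁻¹) * g⁻¹ by group])⟩
      have hc0 : 0 < c := by rw [hnum.hc]; exact Nat.card_pos
      have hQc : Nat.card Q ∣ c := hnum.hc ▸ Subgroup.card_dvd_of_le hQC
      have hcQ := Nat.le_of_dvd hc0 hQc
      have h4 : 4 ∣ c := ((Nat.dvd_of_mod_eq_zero (by
        rw [hj, show j = 2 + (j - 2) by omega, pow_add]; simp)) : 4 ∣ Nat.card Q).trans hQc
      obtain ⟨hrat, hrat7⟩ := hnum.ratio hd3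
      rcases Tn.eq_empty_or_nonempty with hTn | ⟨s, hs⟩
      · rw [hTn, Finset.card_empty, Nat.le_zero, mul_eq_zero] at hR1
        have hR0 : R.card = 0 := by rcases hR1 with h | h <;> omega
        rw [hR0, add_zero] at hn
        refine hnum.finish h4 hd3 (Or.inr (Or.inr (Or.inr (Or.inr ⟨by omega, ?_, by linarith⟩))))
        have h32 : c * c < 32 * c := by linarith
        have := Nat.lt_of_mul_lt_mul_right h32
        omega
      · obtain ⟨h1, h2, h3⟩ := (Finset.mem_filter.1 hs).2
        obtain ⟨h64, h7⟩ := count t₀ ht₀o s h2 h3 (Invol.mul_self (good_facts hx hC ht₀o h1).1) ht₀Q ht₀c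
        have h8 := invol_bound Q Tn (fun s hs => ⟨(Finset.mem_filter.1 hs).2.2.1,
          Invol.mul_self (good_facts hx hC ht₀o (Finset.mem_filter.1 hs).2.1).1⟩) hquart
        have hRQ : 32 * R.card ≤ 5 * Nat.card Q := by omega
        have h9 : 32 * n ≤ c * (64 + 5 * Nat.card Q) := by
          have := Nat.mul_le_mul_left c (show 32 * (2 + R.card) ≤ 64 + 5 * Nat.card Q by omega)
          linarith
        have hr7 := hrat7 h7
        have h10 : 35 * c < 6 * (64 + 5 * Nat.card Q) := by
          refine Nat.lt_of_mul_lt_mul_right (a := c) ?_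
          linarith
        obtain ⟨k, hk⟩ := hQc
        have hk1 : k = 1 := by
          rcases Nat.lt_or_ge k 2 with h | h
          · rcases Nat.eq_zero_or_pos k with rfl | h0
            · omega
            · omega
          · have := Nat.mul_le_mul_left (Nat.card Q) h
            omega
        rw [hk1, mul_one] at hk
        have h64' : Nat.card Q = 64 := by
          obtain ⟨i, rfl⟩ := hjeven
          have hi : i + i < 8 := by
            by_contra hh
            have := Nat.pow_le_pow_right (show 1 ≤ 2 by norm_num) (not_lt.1 hh)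
            omega
          have hi3 : 6 ≤ i + i := by
            by_contra hh
            have := Nat.pow_le_pow_right (show 1 ≤ 2 by norm_num) (show i + i ≤ 5 by omega)
            omega
          rw [hj, show i + i = 6 by omega]; norm_num
        refine hnum.finish h4 hd3 (Or.inr (Or.inr (Or.inr (Or.inl ⟨by omega, ?_, h7⟩))))
        rw [h64'] at h9
        linarith
    · -- `Q` has index 2 in a Sylow 2-subgroup
      have hRmaxH : ∀ R : Subgroup G, IsPGroup 2 R → R ≤ H → Nat.card R ≤ 2 * Nat.card Q := by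
        intro R hR hRH
        rw [hj, ← pow_succ']
        refine two_bound hR hRH (o := 3 * o) (Odd.mul (by decide) ho) ?_
        rw [hI, hoK, hj, pow_succ]; ring
      obtain ⟨PH⟩ : Nonempty (Sylow 2 H) := inferInstance
      set S₀ := (PH : Subgroup H).map H.subtype with hS₀
      have hS₀H : S₀ ≤ H := Subgroup.map_subtype_le _
      have hS₀2 : IsPGroup 2 S₀ := PH.isPGroup'.map _
      have hS₀max : ∀ R : Subgroup G, IsPGroup 2 R → R ≤ H → Nat.card R ≤ Nat.card S₀ := by
        intro R hR hRH
        obtain ⟨P', hP'⟩ := (hR.comap_subtype (K := H)).exists_le_sylow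
        rw [hS₀, Subgroup.card_map_of_injective H.subtype_injective,
          ← Nat.card_congr (Subgroup.subgroupOfEquivOfLe hRH).toEquiv, Sylow.card_eq_multiplicity PH,
          ← Sylow.card_eq_multiplicity P']
        exact Subgroup.card_le_of_le hP'
      have hQS : Q ≤ S₀ := by
        obtain ⟨P', hP'⟩ := (hQ2.comap_subtype (K := H)).exists_le_sylow
        obtain ⟨h, hh⟩ := MulAction.exists_smul_eq H P' PH
        intro q hq
        have hq' : (h : G)⁻¹ * q * (h : G) ∈ Q := by
          have := hQn _ (inv_mem h.2) q hq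
          rwa [inv_inv] at this
        refine ⟨⟨q, hQH hq⟩, ?_, rfl⟩
        rw [← hh, Sylow.coe_subgroup_smul]
        refine ⟨⟨_, hQH hq'⟩, hP' hq', Subtype.ext ?_⟩
        show (h : G) * ((h : G)⁻¹ * q * (h : G)) * (h : G)⁻¹ = q
        group
      obtain ⟨g₀, hg₀, hw⟩ := into_sylow hS₀H hS₀2 hS₀max hw₀H (Invol.mul_self hw₀o)
      set w := g₀ * w₀ * g₀⁻¹ with hwdef
      have hwK : w ∉ K := fun h => hw₀K (by
        have := hK.normal g₀⁻¹ (inv_mem hg₀) _ h
        rwa [show g₀⁻¹ * w * g₀⁻¹⁻¹ = w₀ by simp only [hwdef]; group] at this)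
      have hwo : orderOf w = 2 := by rw [hwdef, Invol.order_conj, hw₀o]
      have hwH := hS₀H hw
      obtain ⟨y', hy'H, hy'K, hy'o, hwy⟩ := hyw w hwH hwK hwo
      have hy'Q : ∀ q ∈ Q, y' * q * y'⁻¹ ∈ Q := hQn y' hy'H
      have hwQ : w ∉ Q := fun h => hwK (hK.hQK h)
      have hcardS : Nat.card S₀ = 2 * Nat.card Q := by
        refine le_antisymm (hRmaxH S₀ hS₀2 hS₀H) ?_
        let f : Q × Bool → S₀ := fun p => bif p.2 then ⟨w * p.1, mul_mem hw (hQS p.1.2)⟩
          else ⟨p.1, hQS p.1.2⟩
        have hf : Function.Injective f := by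
          rintro ⟨a, _ | _⟩ ⟨b, _ | _⟩ e <;> have e' := congrArg Subtype.val e <;>
            simp only [f, cond_true, cond_false] at e'
          · exact Prod.ext (Subtype.ext e') rfl
          · exact absurd (by
              have := mul_mem a.2 (inv_mem b.2)
              rwa [e', mul_inv_cancel_right] at this) hwQ
          · exact absurd (by
              have := mul_mem b.2 (inv_mem a.2)
              rwa [← e', mul_inv_cancel_right] at this) hwQ
          · exact Prod.ext (Subtype.ext (mul_left_cancel e')) rfl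
        have := Nat.card_le_card_of_injective f hf
        rw [Nat.card_prod, Nat.card_eq_fintype_card (α := Bool), Fintype.card_bool] at this
        omega
      have hcoset : ∀ g ∈ S₀, g ∈ Q ∨ w * g ∈ Q := by
        intro g hg
        let f : Q × Bool → S₀ := fun p => bif p.2 then ⟨w * p.1, mul_mem hw (hQS p.1.2)⟩
          else ⟨p.1, hQS p.1.2⟩
        have hf : Function.Injective f := by
          rintro ⟨a, _ | _⟩ ⟨b, _ | _⟩ e <;> have e' := congrArg Subtype.val e <;>
            simp only [f, cond_true, cond_false] at e'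
          · exact Prod.ext (Subtype.ext e') rfl
          · exact absurd (by
              have := mul_mem a.2 (inv_mem b.2)
              rwa [e', mul_inv_cancel_right] at this) hwQ
          · exact absurd (by
              have := mul_mem b.2 (inv_mem a.2)
              rwa [← e', mul_inv_cancel_right] at this) hwQ
          · exact Prod.ext (Subtype.ext (mul_left_cancel e')) rfl
        have hb := (Nat.bijective_iff_injective_and_card f).2 ⟨hf, by
          rw [Nat.card_prod, Nat.card_eq_fintype_card (α := Bool), Fintype.card_bool, hcardS, mul_comm]⟩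
        obtain ⟨⟨q, b⟩, e⟩ := hb.2 ⟨g, hg⟩
        have e' := congrArg Subtype.val e
        cases b <;> simp only [f, cond_true, cond_false] at e'
        · exact Or.inl (e' ▸ q.2)
        · refine Or.inr ?_
          rw [← e', ← mul_assoc, Invol.mul_self hwo, one_mul]
          exact q.2
      -- small centralizers of the involutions outside `Q`
      have hsqrt : ∀ v ∈ H, v ∉ K → orderOf v = 2 →
          Nat.card ↥(Q ⊓ Subgroup.centralizer ({v} : Set G)) ≤ r := by
        intro v hv hvK hvo
        obtain ⟨z, hzH, -, hzo, hvz⟩ := hyw v hv hvK hvo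
        have h1 := (fpf_two hx hC hzo hQ2 (hQn z hzH)).sq_card_centralizer_le hvz
        rw [hr2, sq] at h1
        exact Nat.mul_self_le_mul_self_iff.1 h1
      have houtK : ∀ g ∈ S₀, g ∉ Q → g ∉ K := fun g hg hgQ hgK => by
        rcases hcoset g hg with h | h
        · exact hgQ h
        · refine hwK ?_
          have := mul_mem (hK.hQK h) (inv_mem hgK)
          rwa [mul_inv_cancel_right] at this
      have hF' := fpf_two hx hC hy'o hQ2 hy'Q
      -- elementary central subgroup of `Q`
      let A : Subgroup G :=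
        { carrier := {a | a ∈ Q ∧ a * a = 1 ∧ ∀ q ∈ Q, Commute a q}
          one_mem' := ⟨one_mem _, mul_one 1, fun q _ => Commute.one_left q⟩
          mul_mem' := fun {a b} ha hb => ⟨mul_mem ha.1 hb.1, by
            rw [mul_assoc a b, ← mul_assoc b, (hb.2.2 a ha.1).eq, mul_assoc a b b, hb.2.1, mul_one, ha.2.1],
            fun q hq => (ha.2.2 q hq).mul_left (hb.2.2 q hq)⟩
          inv_mem' := fun {a} ha => ⟨inv_mem ha.1, by rw [← mul_inv_rev, ha.2.1, inv_one],
            fun q hq => (ha.2.2 q hq).inv_left⟩ }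
      have hAQ : A ≤ Q := fun a ha => ha.1
      have hAinv : ∀ h ∈ H, ∀ a ∈ A, h * a * h⁻¹ ∈ A := fun h hh a ha =>
        ⟨hQn h hh a ha.1, by rw [show h * a * h⁻¹ * (h * a * h⁻¹) = h * (a * a) * h⁻¹ by group, ha.2.1]; group,
          fun q hq => by
            have := (ha.2.2 (h⁻¹ * q * h) (by simpa using hQn h⁻¹ (inv_mem hh) q hq)).map (MulAut.conj h).toMonoidHom
            simpa [MulAut.conj_apply, mul_assoc] using this⟩
      obtain ⟨t₁, ht₁, ht₁A⟩ : ∃ t₁, orderOf t₁ = 2 ∧ t₁ ∈ A := by
        haveI : Nontrivial Q := (Subgroup.nontrivial_iff_ne_bot Q).2 hQne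
        haveI := hQ2.center_nontrivial
        obtain ⟨i, hi⟩ := IsPGroup.iff_card.1 (hQ2.to_subgroup (Subgroup.center Q))
        have h2 : 2 ∣ Nat.card (Subgroup.center Q) := by
          rw [hi]
          refine dvd_pow_self 2 fun e => ?_
          rw [e, pow_zero] at hi
          exact absurd hi (Finite.one_lt_card (α := Subgroup.center Q)).ne'
        obtain ⟨z, hz⟩ := exists_prime_orderOf_dvd_card' 2 h2
        have hzo : orderOf ((z : Q) : G) = 2 := by rw [Subgroup.orderOf_coe, Subgroup.orderOf_coe]; exact hz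
        exact ⟨_, hzo, (z : Q).2, Invol.mul_self hzo, fun q hq =>
          (congrArg Subtype.val (Subgroup.mem_center_iff.1 z.2 ⟨q, hq⟩)).symm⟩
      have hAF : Fpf y' A := hF'.mono hAQ fun a ha => hAinv y' hy'H a ha
      have hA2 : 2 ≤ Nat.card A := by
        have := Subgroup.orderOf_dvd_natCard A ht₁A
        rw [ht₁] at this
        exact Nat.le_of_dvd Nat.card_pos this
      set Aw := A ⊓ Subgroup.centralizer ({w} : Set G) with hAw
      have hAw_sq : Nat.card Aw ^ 2 ≤ Nat.card A := hAF.sq_card_centralizer_le hwy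
      have hAAw : Nat.card A ≤ Nat.card Aw ^ 2 := by
        have hmem : ∀ a : A, (a : G) * (w * a * w⁻¹) ∈ Aw := fun a => by
          have h1 : (a : G) * (w * a * w⁻¹) ∈ A := mul_mem a.2 (hAinv w hwH a a.2)
          refine Subgroup.mem_inf.2 ⟨h1, Subgroup.mem_centralizer_singleton_iff.2 ?_⟩
          have h2 := (a.2.2.2 (w * a * w⁻¹) (hQn w hwH a a.2.1)).eq
          have e : w * ((a : G) * (w * a * w⁻¹)) * w⁻¹ = (a : G) * (w * a * w⁻¹) := by
            calc w * ((a : G) * (w * a * w⁻¹)) * w⁻¹ = (w * a * w⁻¹) * ((w * w) * a * (w * w)⁻¹) := by group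
              _ = (w * a * w⁻¹) * a := by rw [Invol.mul_self hwo]; group
              _ = _ := h2.symm
          exact (mul_inv_eq_iff_eq_mul.1 e).symm
        let f : A → Aw := fun a => ⟨_, hmem a⟩
        have hex : ∀ b : Set.range f, ∃ a : A, f a = b := fun b => b.2
        choose a₀ ha₀ using hex
        have hfib : ∀ a : A, (a₀ ⟨f a, a, rfl⟩ : G)⁻¹ * (a : G) ∈ Aw := fun a => by
          set b := a₀ ⟨f a, a, rfl⟩
          have e : (b : G) * (w * b * w⁻¹) = (a : G) * (w * a * w⁻¹) :=
            congrArg Subtype.val (ha₀ ⟨f a, a, rfl⟩)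
          set p := (b : G)⁻¹ * (a : G)
          have hpA : p ∈ A := mul_mem (inv_mem b.2) a.2
          refine Subgroup.mem_inf.2 ⟨hpA, Subgroup.mem_centralizer_singleton_iff.2 ?_⟩
          have h2 := (a.2.2.2 (w * b * w⁻¹) (hQn w hwH b b.2.1))
          have e2 : p * (w * p * w⁻¹) = 1 := by
            calc p * (w * p * w⁻¹)
                = (b : G)⁻¹ * ((a : G) * (w * b * w⁻¹)⁻¹) * (w * a * w⁻¹) := by simp only [p]; group
              _ = (b : G)⁻¹ * ((w * b * w⁻¹)⁻¹ * (a : G)) * (w * a * w⁻¹) := by rw [h2.inv_right.eq]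
              _ = ((b : G) * (w * b * w⁻¹))⁻¹ * ((a : G) * (w * a * w⁻¹)) := by
                  rw [show (b : G)⁻¹ * ((w * b * w⁻¹)⁻¹ * (a : G)) =
                    (b : G)⁻¹ * (w * b * w⁻¹)⁻¹ * (a : G) by group,
                    ((b.2.2.2 (w * b * w⁻¹) (hQn w hwH b b.2.1)).inv_left.inv_right).eq]
                  group
              _ = 1 := by rw [e, inv_mul_cancel]
          have e3 : w * p * w⁻¹ = p := by
            rw [← inv_eq_of_mul_eq_one_right e2, inv_eq_of_mul_eq_one_right hpA.2.1]
          exact (mul_inv_eq_iff_eq_mul.1 e3).symm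
        let g : A → Aw × Aw := fun a => (f a, ⟨_, hfib a⟩)
        have hg : Function.Injective g := fun a b e => by
          have e1 : f a = f b := congrArg Prod.fst e
          have e2 : (a₀ ⟨f a, a, rfl⟩ : G)⁻¹ * (a : G) = (a₀ ⟨f b, b, rfl⟩ : G)⁻¹ * (b : G) :=
            congrArg (fun p => (p.2 : G)) e
          have : (⟨f a, a, rfl⟩ : Set.range f) = ⟨f b, b, rfl⟩ := Subtype.ext e1
          rw [this] at e2
          exact Subtype.ext (mul_left_cancel e2)
        rw [sq, ← Nat.card_prod]
        exact Nat.card_le_card_of_injective g hg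
      -- `S₀` is a Sylow 2-subgroup
      obtain ⟨P, hP⟩ := hS₀2.exists_le_sylow
      have hPS : S₀ = P := eq_of_normalizer_le P.isPGroup' hP fun g hg hgn => by
        by_cases hgH : g ∈ H
        · have hle := hS₀max (P ⊓ H) (P.isPGroup'.to_le inf_le_left) inf_le_right
          rw [Subgroup.eq_of_le_of_card_ge (le_inf hP hS₀H) hle]
          exact Subgroup.mem_inf.2 ⟨hg, hgH⟩
        · exfalso
          obtain ⟨q₀, hq₀, hq₀'⟩ : ∃ q ∈ Q, g * q * g⁻¹ ∉ Q := by
            by_contra h
            push Not at h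
            exact hgH (hHmem g h)
          have hgS : ∀ q ∈ Q, g * q * g⁻¹ ∈ S₀ := fun q hq => (hgn q).1 (hQS hq)
          -- `R` is the part of `Q` carried into `Q`
          set Q' := Q.map (MulAut.conj g).toMonoidHom with hQ'
          set R := Q ⊓ Q' with hRdef
          have hRhalf : Nat.card Q ≤ 2 * Nat.card R := by
            let f : Q' → R × Bool := fun p =>
              if h : (p : G) ∈ Q then (⟨p, h, p.2⟩, false)
              else (⟨(g * q₀ * g⁻¹)⁻¹ * p, Subgroup.mem_inf.2 ⟨by
                obtain ⟨q, hq, hpq⟩ := p.2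
                have hp : (p : G) = g * q * g⁻¹ := hpq.symm
                rcases hcoset _ (hgS q hq) with h1 | h1
                · exact absurd (hp ▸ h1) h
                · rcases hcoset _ (hgS q₀ hq₀) with h2 | h2
                  · exact absurd h2 hq₀'
                  · have := mul_mem (inv_mem h2) h1
                    rw [hp]
                    rwa [show (w * (g * q₀ * g⁻¹))⁻¹ * (w * (g * q * g⁻¹)) =
                      (g * q₀ * g⁻¹)⁻¹ * (g * q * g⁻¹) by group] at this,
                mul_mem (inv_mem ⟨q₀, hq₀, rfl⟩) p.2⟩⟩, true)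
            have hf : Function.Injective f := fun a b e => by
              simp only [f] at e
              split_ifs at e with ha hb hb
              · exact Subtype.ext (congrArg (fun p => (p.1 : G)) e)
              · exact absurd (congrArg Prod.snd e) (by simp)
              · exact absurd (congrArg Prod.snd e) (by simp)
              · exact Subtype.ext (mul_left_cancel (congrArg (fun p => (p.1 : G)) e))
            have := Nat.card_le_card_of_injective f hf
            rw [Nat.card_prod, Nat.card_eq_fintype_card (α := Bool), Fintype.card_bool, hQ',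
              Subgroup.card_map_of_injective (MulAut.conj g).injective] at this
            omega
          have hA' : ∀ a ∈ A, ∀ p ∈ Q', Commute (g * a * g⁻¹) p := by
            rintro a ha _ ⟨q, hq, rfl⟩
            exact (ha.2.2 q hq).map (MulAut.conj g).toMonoidHom
          have key : ∀ a ∈ A, g * a * g⁻¹ ∈ Aw := by
            intro a ha
            set a' := g * a * g⁻¹ with ha'
            have ha'2 : a' * a' = 1 := by
              rw [show a' * a' = g * (a * a) * g⁻¹ by simp only [ha']; group, ha.2.1]; group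
            have hle : R ≤ Q ⊓ Subgroup.centralizer ({a'} : Set G) := fun p hp =>
              Subgroup.mem_inf.2 ⟨hp.1, Subgroup.mem_centralizer_singleton_iff.2 (hA' a ha p hp.2).symm.eq⟩
            have hcard := Subgroup.card_le_of_le hle
            by_cases haQ : a' ∈ Q
            · have hcentral : ∀ q ∈ Q, Commute a' q := by
                by_contra h
                have := quarter hx hC hy hQ2 hQy haQ h
                omega
              refine Subgroup.mem_inf.2 ⟨⟨haQ, ha'2, hcentral⟩, Subgroup.mem_centralizer_singleton_iff.2 ?_⟩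
              have h1 := hA' a ha (g * q₀ * g⁻¹) ⟨q₀, hq₀, rfl⟩
              rcases hcoset _ (hgS q₀ hq₀) with h2 | h2
              · exact absurd h2 hq₀'
              · have h3 := hcentral _ h2
                have := h3.mul_right h1.inv_right
                rw [mul_inv_cancel_right] at this
                exact this.eq
            · exfalso
              have ha'o : orderOf a' = 2 := Invol.order_two_of_sq ha'2 fun e => haQ (e ▸ one_mem _)
              have haS : a' ∈ S₀ := hgS a ha.1
              have := hsqrt a' (hS₀H haS) (houtK a' haS haQ) ha'o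
              nlinarith
          have h1 : Nat.card A ≤ Nat.card Aw := by
            refine Nat.card_le_card_of_injective (fun a : A => (⟨g * a * g⁻¹, key a a.2⟩ : Aw))
              fun a b e => Subtype.ext ?_
            exact mul_left_cancel (mul_right_cancel (congrArg Subtype.val e))
          nlinarith
      have hSsyl : ∀ R : Subgroup G, IsPGroup 2 R → Nat.card R ≤ Nat.card S₀ := by
        intro R hR
        obtain ⟨P', hP'⟩ := hR.exists_le_sylow
        refine (Subgroup.card_le_of_le hP').trans (le_of_eq ?_)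
        rw [hPS, Sylow.card_eq_multiplicity P', ← Sylow.card_eq_multiplicity P]
      obtain ⟨⟨t₀, ht₀A, ht₀w⟩, ht₀1⟩ : ∃ t₀ : Aw, t₀ ≠ 1 := by
        haveI : Nontrivial Aw := Finite.one_lt_card_iff_nontrivial.1 (by nlinarith)
        exact exists_ne 1
      have ht₀Q : t₀ ∈ Q := ht₀A.1
      have ht₀c : ∀ q ∈ Q, Commute t₀ q := ht₀A.2.2
      have ht₀o : orderOf t₀ = 2 := Invol.order_two_of_sq ht₀A.2.1 fun e => ht₀1 (Subtype.ext e)
      have ht₀w' : Commute t₀ w := Subgroup.mem_centralizer_singleton_iff.1 ht₀w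
      have hdata₀ := hdata.transport ht₀o
      obtain ⟨c, D, n, hnum⟩ := exists_num hx hC ht₀o hdata₀
      set C := Subgroup.centralizer ({t₀} : Set G) with hCdef
      have hSC : S₀ ≤ C := fun g hg => by
        refine Subgroup.mem_centralizer_singleton_iff.2 ?_
        rcases hcoset g hg with h | h
        · exact (ht₀c g h).symm.eq
        · have := ht₀w'.mul_right (ht₀c _ h)
          rw [← mul_assoc, Invol.mul_self hwo, one_mul] at this
          exact this.symm.eq
      -- uniqueness of `t₀`
      have huniq : ∀ z ∈ Aw, z = 1 ∨ z = t₀ := by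
        intro z hz
        by_cases hz1 : z = 1
        · exact Or.inl hz1
        refine Or.inr ?_
        have hzo : orderOf z = 2 := Invol.order_two_of_sq hz.1.2.1 hz1
        have hzcS : ∀ p ∈ S₀, Commute p z := fun p hp => by
          rcases hcoset p hp with h | h
          · exact (hz.1.2.2 p h).symm
          · have h1 : Commute z w := Subgroup.mem_centralizer_singleton_iff.1 hz.2
            have := h1.mul_right (hz.1.2.2 _ h)
            rw [← mul_assoc, Invol.mul_self hwo, one_mul] at this
            exact this.symm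
        obtain ⟨g, hg⟩ := isConj_iff.1 (hdata₀.one_class z hzo)
        obtain ⟨m, hm, he⟩ := Sylow.conj_eq_normalizer_conj_of_mem_centralizer P t₀ g⁻¹
          (Subgroup.mem_centralizer_iff.2 fun q hq => by
            have hq : q ∈ S₀ := hPS.symm ▸ (hq : q ∈ (P : Subgroup G))
            exact Subgroup.mem_centralizer_singleton_iff.1 (hSC hq))
          (Subgroup.mem_centralizer_iff.2 fun q hq => by
            have hq : q ∈ S₀ := hPS.symm ▸ (hq : q ∈ (P : Subgroup G))
            rw [show g⁻¹⁻¹ * t₀ * g⁻¹ = g * t₀ * g⁻¹ by group, hg]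
            exact (hzcS q hq).eq)
        rw [show g⁻¹⁻¹ * t₀ * g⁻¹ = g * t₀ * g⁻¹ by group, hg] at he
        -- `m` normalizes `Q`
        have hmQ : m⁻¹ ∈ H := by
          refine hHmem _ fun q hq => ?_
          have hm' := inv_mem hm
          by_contra hne
          have hqS : m⁻¹ * q * m⁻¹⁻¹ ∈ S₀ := by
            rw [hPS]; exact (Subgroup.mem_normalizer_iff.1 hm' q).1 (hPS ▸ hQS hq)
          obtain ⟨v, hv, hvo⟩ : ∃ v, v ∈ A ∧ orderOf v = 2 := ⟨t₁, ht₁A, ht₁⟩
          have hAm : ∀ a ∈ A, m⁻¹ * a * m⁻¹⁻¹ ∈ Aw := by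
            intro a ha
            set a' := m⁻¹ * a * m⁻¹⁻¹ with ha'
            have ha'S : a' ∈ S₀ := by
              rw [hPS]; exact (Subgroup.mem_normalizer_iff.1 hm' a).1 (hPS ▸ hQS ha.1)
            have ha'2 : a' * a' = 1 := by
              rw [show a' * a' = m⁻¹ * (a * a) * m by simp only [ha']; group, ha.2.1]; group
            -- it commutes with a conjugate of `Q`, which has a subgroup of index 2 inside `Q`
            let Q' := Q.map (MulAut.conj m⁻¹).toMonoidHom
            have hQ'S : ∀ p ∈ Q', p ∈ S₀ := by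
              rintro _ ⟨p, hp, rfl⟩
              rw [hPS]; exact (Subgroup.mem_normalizer_iff.1 hm' p).1 (hPS ▸ hQS hp)
            have hcomm : ∀ p ∈ Q', Commute a' p := by
              rintro _ ⟨p, hp, rfl⟩
              exact (ha.2.2 p hp).map (MulAut.conj m⁻¹).toMonoidHom
            have hq₁ : m⁻¹ * q * m⁻¹⁻¹ ∈ Q' := ⟨q, hq, rfl⟩
            set q₁ := m⁻¹ * q * m⁻¹⁻¹
            have hcount : Nat.card Q ≤ 2 * Nat.card ↥(Q ⊓ Subgroup.centralizer ({a'} : Set G)) := by
              let f : Q' → ↥(Q ⊓ Subgroup.centralizer ({a'} : Set G)) × Bool := fun p =>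
                if h : (p : G) ∈ Q then
                  (⟨p, h, Subgroup.mem_centralizer_singleton_iff.2 (hcomm p p.2).symm.eq⟩, false)
                else (⟨q₁⁻¹ * p, Subgroup.mem_inf.2 ⟨by
                    rcases hcoset _ (hQ'S p p.2) with h1 | h1
                    · exact absurd h1 h
                    · rcases hcoset _ hqS with h2 | h2
                      · exact absurd h2 hne
                      · have := mul_mem (inv_mem h2) h1
                        rwa [show (w * q₁)⁻¹ * (w * (p : G)) = q₁⁻¹ * (p : G) by group] at this,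
                    Subgroup.mem_centralizer_singleton_iff.2
                      (hcomm _ (mul_mem (inv_mem hq₁) p.2)).symm.eq⟩⟩, true)
              have hf : Function.Injective f := fun a b e => by
                simp only [f] at e
                split_ifs at e with h1 h2 h2
                · exact Subtype.ext (congrArg (fun p => (p.1 : G)) e)
                · exact absurd (congrArg Prod.snd e) (by simp)
                · exact absurd (congrArg Prod.snd e) (by simp)
                · exact Subtype.ext (mul_left_cancel (congrArg (fun p => (p.1 : G)) e))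
              have h := Nat.card_le_card_of_injective f hf
              rw [Nat.card_prod, Nat.card_eq_fintype_card (α := Bool), Fintype.card_bool,
                show Q' = Q.map (MulAut.conj m⁻¹).toMonoidHom from rfl,
                Subgroup.card_map_of_injective (MulAut.conj m⁻¹).injective] at h
              omega
            by_cases haQ : a' ∈ Q
            · have hcentral : ∀ p ∈ Q, Commute a' p := by
                by_contra h
                have := quarter hx hC hy hQ2 hQy haQ h
                omega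
              refine Subgroup.mem_inf.2 ⟨⟨haQ, ha'2, hcentral⟩, Subgroup.mem_centralizer_singleton_iff.2 ?_⟩
              rcases hcoset _ hqS with h2 | h2
              · exact absurd h2 hne
              · have := (hcentral _ h2).mul_right (hcomm _ hq₁).inv_right
                rw [mul_inv_cancel_right] at this
                exact this.eq
            · exfalso
              have ha'o : orderOf a' = 2 := Invol.order_two_of_sq ha'2 fun e => haQ (e ▸ one_mem _)
              have := hsqrt a' (hS₀H ha'S) (houtK a' ha'S haQ) ha'o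
              nlinarith
          have h1 : Nat.card A ≤ Nat.card Aw := by
            refine Nat.card_le_card_of_injective (fun a : A => (⟨m⁻¹ * a * m⁻¹⁻¹, hAm a a.2⟩ : Aw))
              fun a b e => Subtype.ext ?_
            exact mul_left_cancel (mul_right_cancel (congrArg Subtype.val e))
          nlinarith
        -- the stabilizer of the orbit of `t₀` under `y'`
        let O : Set G := {v | ∃ i : ℕ, v = y' ^ i * t₀ * (y' ^ i)⁻¹}
        let L : Subgroup G :=
          { carrier := {h | h ∈ H ∧ ∀ v ∈ O, h * v * h⁻¹ ∈ O}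
            one_mem' := ⟨one_mem _, fun v hv => by simpa using hv⟩
            mul_mem' := fun {a b} ha hb => ⟨mul_mem ha.1 hb.1, fun v hv => by
              rw [show a * b * v * (a * b)⁻¹ = a * (b * v * b⁻¹) * a⁻¹ by group]
              exact ha.2 _ (hb.2 v hv)⟩
            inv_mem' := fun {a} ha => ⟨inv_mem ha.1, fun v hv => by
              have hpow : ∀ n : ℕ, a ^ n * v * (a ^ n)⁻¹ ∈ O := fun n => by
                induction n with
                | zero => simpa using hv
                | succ n ih =>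
                  rw [pow_succ', show a * a ^ n * v * (a * a ^ n)⁻¹ = a * (a ^ n * v * (a ^ n)⁻¹) * a⁻¹ by group]
                  exact ha.2 _ ih
              have e : a⁻¹ = a ^ (orderOf a - 1) := by
                refine inv_eq_of_mul_eq_one_right ?_
                rw [← pow_succ', Nat.sub_add_cancel (orderOf_pos a), pow_orderOf_eq_one]
              rw [e]
              exact hpow _⟩ }
        have hy'3 : y' ^ 3 = 1 := by rw [← hy'o, pow_orderOf_eq_one]
        have hyL : y' ∈ L := ⟨hy'H, by
          rintro _ ⟨i, rfl⟩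
          exact ⟨i + 1, by rw [pow_succ']; group⟩⟩
        have hwL : w ∈ L := ⟨hwH, by
          rintro _ ⟨i, rfl⟩
          refine ⟨2 * i, ?_⟩
          have e : w * y' ^ i * w⁻¹ = y' ^ (2 * i) := by
            rw [← conj_pow, hwy, pow_mul, show y' ^ 2 = y'⁻¹ from
              eq_inv_of_mul_eq_one_left (by rw [← pow_succ]; exact hy'3)]
          calc w * (y' ^ i * t₀ * (y' ^ i)⁻¹) * w⁻¹
              = (w * y' ^ i * w⁻¹) * (w * t₀ * w⁻¹) * (w * y' ^ i * w⁻¹)⁻¹ := by group
            _ = _ := by rw [e, ← ht₀w'.eq, mul_inv_cancel_right]⟩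
        have hKL : K ≤ L := fun k hk => ⟨hK.hKH hk, by
          rintro _ ⟨i, rfl⟩
          refine ⟨i, ?_⟩
          have hiA : y' ^ i * t₀ * (y' ^ i)⁻¹ ∈ A := hAinv _ (pow_mem hy'H i) t₀ ht₀A
          exact mul_inv_eq_iff_eq_mul.2 (hcentQ _ hiA.1 hiA.2.2 k hk).eq.symm⟩
        have hLH : L ≤ H := fun h hh => hh.1
        have hLeq : L = H := by
          refine Subgroup.eq_of_le_of_card_ge hLH ?_
          have h1 := Subgroup.card_dvd_of_le hLH
          obtain ⟨a, ha⟩ := Subgroup.card_dvd_of_le hKL
          -- both `2` and `3` divide the index of `K` in `L`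
          have hidx : a = Subgroup.relIndex K L := by
            refine Nat.eq_of_mul_eq_mul_left (Nat.card_pos (α := K)) ?_
            rw [← ha, ← Subgroup.card_mul_index (K.subgroupOf L),
              Nat.card_congr (Subgroup.subgroupOfEquivOfLe hKL).toEquiv]
            rfl
          haveI hKn : (K.subgroupOf L).Normal := ⟨fun k hk g => hK.normal g (hLH g.2) k hk⟩
          have hq : a = Nat.card (L ⧸ K.subgroupOf L) := hidx
          have hd : ∀ (p : ℕ) (z : G), p.Prime → orderOf z = p → z ∈ L → z ∉ K → p ∣ a := by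
            intro p z hp hz hzL hzK
            haveI : Fact p.Prime := ⟨hp⟩
            rw [hq, ← orderOf_eq_prime (p := p) (x := QuotientGroup.mk' (K.subgroupOf L) ⟨z, hzL⟩) ?_ ?_]
            · exact orderOf_dvd_natCard _
            · rw [← map_pow, show (⟨z, hzL⟩ : L) ^ p = 1 from
                Subtype.ext (by rw [Subgroup.coe_pow, ← hz]; exact pow_orderOf_eq_one z), map_one]
            · exact fun e => hzK (Subgroup.mem_subgroupOf.1 ((QuotientGroup.eq_one_iff (N := K.subgroupOf L) ⟨z, hzL⟩).1 e))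
          have h2 := hd 2 w Nat.prime_two hwo hwL hwK
          have h3 := hd 3 y' Nat.prime_three hy'o hyL hy'K
          have h6 : 6 ∣ a := Nat.Coprime.mul_dvd_of_dvd_of_dvd (show Nat.Coprime 2 3 by norm_num) h2 h3
          rw [hI, ha, mul_comm 6]
          exact Nat.mul_le_mul_left _ (Nat.le_of_dvd (by
            rw [hq]; exact Nat.card_pos) h6)
        have hzO : z ∈ O := by
          have hml : m⁻¹ ∈ L := hLeq ▸ hmQ
          have := hml.2 t₀ ⟨0, by group⟩
          rwa [inv_inv, ← he] at this
        obtain ⟨i, rfl⟩ := hzO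
        have h1 : w * (y' ^ i * t₀ * (y' ^ i)⁻¹) * w⁻¹ = y' ^ i * t₀ * (y' ^ i)⁻¹ := by
          rw [← Subgroup.mem_centralizer_singleton_iff.1 hz.2, mul_inv_cancel_right]
        have e : w * y' ^ i * w⁻¹ = (y' ^ i)⁻¹ := by rw [← conj_pow, hwy, inv_pow]
        rw [show w * (y' ^ i * t₀ * (y' ^ i)⁻¹) * w⁻¹ =
          (w * y' ^ i * w⁻¹) * (w * t₀ * w⁻¹) * (w * y' ^ i * w⁻¹)⁻¹ by group, e, ← ht₀w'.eq,
          mul_inv_cancel_right, inv_inv] at h1
        have h2 : Commute (y' ^ (2 * i)) t₀ := by
          rw [pow_mul', sq]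
          show y' ^ i * y' ^ i * t₀ = t₀ * (y' ^ i * y' ^ i)
          calc y' ^ i * y' ^ i * t₀ = y' ^ i * (y' ^ i * t₀ * (y' ^ i)⁻¹) * y' ^ i := by group
            _ = y' ^ i * ((y' ^ i)⁻¹ * t₀ * y' ^ i) * y' ^ i := by rw [h1]
            _ = _ := by group
        by_cases h3 : 3 ∣ i
        · obtain ⟨k, rfl⟩ := h3
          rw [pow_mul, hy'3, one_pow]; group
        · exfalso
          refine Invol.ne_one ht₀o (hF'.fixed t₀ ht₀Q ?_)
          have hy2 : y' ∈ Subgroup.zpowers (y' ^ (2 * i)) := by
            haveI : Fact (Nat.Prime 3) := ⟨Nat.prime_three⟩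
            rw [SelfCent.zpowers_eq hy'o (Subgroup.npow_mem_zpowers y' _) ?_]
            · exact Subgroup.mem_zpowers _
            · intro e0
              have := orderOf_dvd_of_pow_eq_one e0
              rw [hy'o] at this
              omega
          obtain ⟨k, hk⟩ := Subgroup.mem_zpowers_iff.1 hy2
          rw [← hk]
          exact h2.zpow_left k
      have hAwc : Nat.card Aw ≤ 2 := by
        have h1 : Nat.card Aw ≤ Nat.card ({1, t₀} : Finset G) :=
          Nat.card_le_card_of_injective (fun z : Aw => (⟨z.1, by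
            rcases huniq z z.2 with h | h <;> simp [h]⟩ : ({1, t₀} : Finset G)))
            fun a b e => Subtype.ext (congrArg Subtype.val e :)
        rw [Nat.card_eq_finsetCard] at h1
        exact h1.trans Finset.card_le_two
      have hA4 : Nat.card A ≤ 4 := hAAw.trans (by nlinarith)
      let Ta := Finset.univ.filter fun s => s ∈ Good x t₀ ∧ s ∈ A
      let To := Finset.univ.filter fun s => s ∈ Good x t₀ ∧ s ∈ S₀ ∧ s ∉ Q
      let Tn := Finset.univ.filter fun s => s ∈ Good x t₀ ∧ s ∈ Q ∧ ¬ ∀ q ∈ Q, Commute s q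
      have hgc : ∀ g ∈ S₀, Commute g t₀ := fun g hg => Subgroup.mem_centralizer_singleton_iff.1 (hSC hg)
      have hinva : ∀ g ∈ S₀, ∀ s ∈ Ta, g * s * g⁻¹ ∈ Ta := fun g hg s hs => by
        obtain ⟨h1, h2⟩ := (Finset.mem_filter.1 hs).2
        exact Finset.mem_filter.2 ⟨Finset.mem_univ _, good_conj (hgc g hg) h1, hAinv g (hS₀H hg) s h2⟩
      have hinvo : ∀ g ∈ S₀, ∀ s ∈ To, g * s * g⁻¹ ∈ To := fun g hg s hs => by
        obtain ⟨h1, h2, h3⟩ := (Finset.mem_filter.1 hs).2
        refine Finset.mem_filter.2 ⟨Finset.mem_univ _, good_conj (hgc g hg) h1,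
          mul_mem (mul_mem hg h2) (inv_mem hg), fun h => h3 ?_⟩
        have := hQn g⁻¹ (inv_mem (hS₀H hg)) _ h
        rwa [show g⁻¹ * (g * s * g⁻¹) * g⁻¹⁻¹ = s by group] at this
      have hinvn : ∀ g ∈ Q, ∀ s ∈ Tn, g * s * g⁻¹ ∈ Tn := fun g hg s hs => by
        obtain ⟨h1, h2, h3⟩ := (Finset.mem_filter.1 hs).2
        refine Finset.mem_filter.2 ⟨Finset.mem_univ _, good_conj (hgc g (hQS hg)) h1,
          mul_mem (mul_mem hg h2) (inv_mem hg), fun h => h3 fun q hq => ?_⟩
        have := (h (g * q * g⁻¹) (mul_mem (mul_mem hg hq) (inv_mem hg))).map (MulAut.conj g⁻¹).toMonoidHom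
        simpa [MulAut.conj_apply, mul_assoc] using this
      have hTa : Ta.card ≤ 2 := by
        have h1 : insert 1 (insert t₀ Ta) ⊆ Finset.univ.filter fun s => s ∈ A := by
          intro s hs
          simp only [Finset.mem_insert] at hs
          refine Finset.mem_filter.2 ⟨Finset.mem_univ _, ?_⟩
          rcases hs with rfl | rfl | hs
          exacts [one_mem _, ht₀A, (Finset.mem_filter.1 hs).2.2]
        have htT : t₀ ∉ Ta := fun h => (good_facts hx hC ht₀o (Finset.mem_filter.1 h).2.1).2.1 rfl
        have h1T : (1 : G) ∉ insert t₀ Ta := by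
          simp only [Finset.mem_insert, not_or]
          exact ⟨(Invol.ne_one ht₀o).symm,
            fun h => Invol.ne_one (good_facts hx hC ht₀o (Finset.mem_filter.1 h).2.1).1 rfl⟩
        have := Finset.card_le_card h1
        rw [Finset.card_insert_of_notMem h1T, Finset.card_insert_of_notMem htT] at this
        have h2 : (Finset.univ.filter fun s => s ∈ A).card = Nat.card A := by
          rw [Nat.card_eq_fintype_card (α := A), Fintype.card_subtype]
        omega
      obtain ⟨Ra, hRa1, hRa2⟩ := exists_reps S₀ 2 Ta hinva fun s hs => by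
        obtain ⟨hsG, hsA⟩ := (Finset.mem_filter.1 hs).2
        have h1 := class_card_mul S₀ s Ta fun g hg => hinva g hg s hs
        have h2 : 2 * Nat.card ↥(S₀ ⊓ Subgroup.centralizer ({s} : Set G)) ≤ Nat.card S₀ := by
          have hne : S₀ ⊓ Subgroup.centralizer ({s} : Set G) ≠ S₀ := fun e => by
            have hw' : w ∈ S₀ ⊓ Subgroup.centralizer ({s} : Set G) := e.symm ▸ hw
            obtain ⟨hso, hst, -, -⟩ := good_facts hx hC ht₀o hsG
            rcases huniq s (Subgroup.mem_inf.2 ⟨hsA, Subgroup.mem_centralizer_singleton_iff.2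
              (Subgroup.mem_centralizer_singleton_iff.1 hw'.2).symm⟩) with h | h
            · exact Invol.ne_one hso h
            · exact hst h
          obtain ⟨k, hk⟩ := Subgroup.card_dvd_of_le (inf_le_left : S₀ ⊓ Subgroup.centralizer ({s} : Set G) ≤ S₀)
          have hk2 : 2 ≤ k := by
            rcases Nat.lt_or_ge k 2 with h | h
            · exfalso
              refine hne (Subgroup.eq_of_le_of_card_ge inf_le_left ?_)
              rw [hk]
              exact (Nat.mul_le_mul_left _ (show k ≤ 1 by omega)).trans (mul_one _).le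
            · exact h
          rw [hk, mul_comm 2]
          exact Nat.mul_le_mul_left _ hk2
        exact Nat.le_of_mul_le_mul_right (h2.trans h1) Nat.card_pos
      obtain ⟨Ro, hRo1, hRo2⟩ := exists_reps S₀ r To hinvo fun s hs => by
        obtain ⟨hsG, hsS, hsQ⟩ := (Finset.mem_filter.1 hs).2
        have h1 := class_card_mul S₀ s To fun g hg => hinvo g hg s hs
        have hso := (good_facts hx hC ht₀o hsG).1
        have h2 := hsqrt s (hS₀H hsS) (houtK s hsS hsQ) hso
        have h3 : Nat.card ↥(S₀ ⊓ Subgroup.centralizer ({s} : Set G)) ≤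
            2 * Nat.card ↥(Q ⊓ Subgroup.centralizer ({s} : Set G)) := by
          let f : ↥(S₀ ⊓ Subgroup.centralizer ({s} : Set G)) →
              ↥(Q ⊓ Subgroup.centralizer ({s} : Set G)) × Bool := fun p =>
            if h : (p : G) ∈ Q then (⟨p, h, p.2.2⟩, false)
            else (⟨s * p, Subgroup.mem_inf.2 ⟨by
              rcases hcoset _ p.2.1 with h1 | h1
              · exact absurd h1 h
              · rcases hcoset s hsS with h2 | h2
                · exact absurd h2 hsQ
                · have := mul_mem (inv_mem h2) h1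
                  rwa [show (w * s)⁻¹ * (w * (p : G)) = s⁻¹ * (p : G) by group, Invol.inv_self hso] at this,
              mul_mem (Subgroup.mem_centralizer_singleton_iff.2 rfl) p.2.2⟩⟩, true)
          have hf : Function.Injective f := fun a b e => by
            simp only [f] at e
            split_ifs at e with ha hb hb
            · exact Subtype.ext (congrArg (fun p => (p.1 : G)) e)
            · exact absurd (congrArg Prod.snd e) (by simp)
            · exact absurd (congrArg Prod.snd e) (by simp)
            · exact Subtype.ext (mul_left_cancel (congrArg (fun p => (p.1 : G)) e))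
          have := Nat.card_le_card_of_injective f hf
          rw [Nat.card_prod, Nat.card_eq_fintype_card (α := Bool), Fintype.card_bool] at this
          omega
        refine Nat.le_of_mul_le_mul_right ?_ (show 0 < 2 * r by omega)
        refine le_trans (le_of_eq ?_) (h1.trans (Nat.mul_le_mul le_rfl (h3.trans (Nat.mul_le_mul le_rfl h2))))
        rw [hcardS, hr2]; ring
      have hquart : ∀ s ∈ Tn, 4 * Nat.card ↥(Q ⊓ Subgroup.centralizer ({s} : Set G)) ≤ Nat.card Q :=
        fun s hs => quarter hx hC hy hQ2 hQy (Finset.mem_filter.1 hs).2.2.1 (Finset.mem_filter.1 hs).2.2.2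
      obtain ⟨Rn, hRn1, hRn2⟩ := exists_reps Q 4 Tn hinvn fun s hs => by
        have h1 := class_card_mul Q s Tn fun g hg => hinvn g hg s hs
        exact Nat.le_of_mul_le_mul_right ((hquart s hs).trans h1) Nat.card_pos
      have hTo : To.card ≤ Nat.card Q := by
        let f : To → Q := fun s => ⟨w * s, (hcoset _ (Finset.mem_filter.1 s.2).2.2.1).resolve_left
          (Finset.mem_filter.1 s.2).2.2.2⟩
        have := Nat.card_le_card_of_injective f
          fun a b e => Subtype.ext (mul_left_cancel (congrArg Subtype.val e))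
        rwa [Nat.card_eq_fintype_card, Fintype.card_coe] at this
      have hRo : Ro.card ≤ r := Nat.le_of_mul_le_mul_right
        (hRo1.trans (hTo.trans hr2.le)) (by omega)
      have hRa : Ra.card ≤ 1 := by omega
      have hn : n ≤ c * (1 + r + Rn.card) := by
        rw [hnum.hn, hnum.hc]
        refine le_trans (pairs_le hx ht₀o (Ra ∪ Ro ∪ Rn) fun s hs => ?_) (Nat.mul_le_mul_left _
          ((Finset.card_union_le _ _).trans (Nat.add_le_add_right
            ((Finset.card_union_le _ _).trans (Nat.add_le_add hRa hRo)) _)))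
        obtain ⟨hso, -, hsc, -⟩ := good_facts hx hC ht₀o hs
        obtain ⟨h, hh, hhS⟩ := into_sylow hSC hS₀2 (fun R' h1 _ => hSsyl R' h1) (s := s)
          (Subgroup.mem_centralizer_singleton_iff.2 hsc.symm.eq) (Invol.mul_self hso)
        have hg := good_conj (Subgroup.mem_centralizer_singleton_iff.1 hh) hs
        have hconj : ∀ g, g ∈ S₀ → g * h * s * (g * h)⁻¹ = g * (h * s * h⁻¹) * g⁻¹ := fun g _ => by group
        by_cases hQm : h * s * h⁻¹ ∈ Q
        · by_cases hcen : ∀ q ∈ Q, Commute (h * s * h⁻¹) q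
          · obtain ⟨g, hgS, hgR⟩ := hRa2 _ (Finset.mem_filter.2 ⟨Finset.mem_univ _, hg, hQm,
              Invol.mul_self (good_facts hx hC ht₀o hg).1, hcen⟩)
            exact ⟨g * h, mul_mem (hSC hgS) hh, by rw [hconj g hgS]; simp [hgR]⟩
          · obtain ⟨g, hgQ, hgR⟩ := hRn2 _ (Finset.mem_filter.2 ⟨Finset.mem_univ _, hg, hQm, hcen⟩)
            exact ⟨g * h, mul_mem (hSC (hQS hgQ)) hh, by rw [hconj g (hQS hgQ)]; simp [hgR]⟩
        · obtain ⟨g, hgS, hgR⟩ := hRo2 _ (Finset.mem_filter.2 ⟨Finset.mem_univ _, hg, hhS, hQm⟩)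
          exact ⟨g * h, mul_mem (hSC hgS) hh, by rw [hconj g hgS]; simp [hgR]⟩
      have hc0 : 0 < c := by rw [hnum.hc]; exact Nat.card_pos
      have hQc : 2 * (r * r) ∣ c := by
        rw [← hr2, ← hcardS, hnum.hc]; exact Subgroup.card_dvd_of_le hSC
      have hcQ := Nat.le_of_dvd hc0 hQc
      obtain ⟨hrat, hrat7⟩ := hnum.ratio hd3
      rcases Tn.eq_empty_or_nonempty with hTn | ⟨s, hs⟩
      · rw [hTn, Finset.card_empty, Nat.le_zero, mul_eq_zero] at hRn1
        have hR0 : Rn.card = 0 := by rcases hRn1 with h | h <;> omega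
        rw [hR0, add_zero] at hn
        have hlt : c < 16 * (1 + r) := by
          refine Nat.lt_of_mul_lt_mul_right (a := c) ?_
          linarith
        have hr9 : r < 10 := by nlinarith
        have hrpow : r = 4 ∨ r = 8 := by
          rw [hr] at hr4 hr9 ⊢
          rcases Nat.lt_or_ge (j / 2) 4 with h | h
          · interval_cases hq : j / 2 <;> simp_all
          · have := Nat.pow_le_pow_right (show 1 ≤ 2 by norm_num) h
            omega
        have hodd : ∀ k, c = 2 * (r * r) * k → ¬ 2 ∣ k := by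
          rintro k hk ⟨k', rfl⟩
          obtain ⟨i, hi⟩ : ∃ i, 2 * (r * r) = 2 ^ i := ⟨j / 2 + j / 2 + 1, by rw [hr, pow_succ, pow_add]; ring⟩
          haveI : Fact (Nat.Prime 2) := ⟨Nat.prime_two⟩
          obtain ⟨PC, hPC⟩ := Sylow.exists_subgroup_card_pow_prime (G := C) 2 (n := i + 1) (by
            rw [← hnum.hc, hk, hi, pow_succ]; exact ⟨k', by ring⟩)
          have h1 := hSsyl (PC.map C.subtype) ((IsPGroup.of_card hPC).map _)
          rw [Subgroup.card_map_of_injective C.subtype_injective, hPC, hcardS, hr2, hi, pow_succ] at h1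
          have : 0 < 2 ^ i := by positivity
          omega
        obtain ⟨k, hk⟩ := hQc
        have hk' := hodd k hk
        rcases hrpow with h | h <;> rw [h] at hlt hn hk
        · have hk1 : k = 1 := by omega
          refine hnum.finish (by omega) hd3 (Or.inr (Or.inl ⟨by omega, by linarith⟩))
        · refine hnum.finish (by omega) hd3 (Or.inr (Or.inr (Or.inl ⟨by omega, by linarith⟩)))
      · exfalso
        obtain ⟨h1, h2, h3⟩ := (Finset.mem_filter.1 hs).2
        obtain ⟨h64, h7⟩ := count t₀ ht₀o s h2 h3 (Invol.mul_self (good_facts hx hC ht₀o h1).1) ht₀Q ht₀c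
        have h8 := invol_bound Q Tn (fun s hs => ⟨(Finset.mem_filter.1 hs).2.2.1,
          Invol.mul_self (good_facts hx hC ht₀o (Finset.mem_filter.1 hs).2.1).1⟩) hquart
        have hRQ : 32 * Rn.card ≤ 5 * Nat.card Q := by omega
        have h9 : 32 * n ≤ c * (32 + 32 * r + 5 * (r * r)) := by
          rw [hr2] at hRQ
          have := Nat.mul_le_mul_left c (show 32 * (1 + r + Rn.card) ≤ 32 + 32 * r + 5 * (r * r) by omega)
          linarith
        have hr7 := hrat7 h7
        have h10 : 35 * c < 6 * (32 + 32 * r + 5 * (r * r)) := by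
          refine Nat.lt_of_mul_lt_mul_right (a := c) ?_
          linarith
        rw [hr2] at h64
        have hr8 : 8 ≤ r := by nlinarith
        nlinarith

end Cfsg.Agent.SelfThree
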