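import Cfsg.Agent.Lib.SelfThree.Quot
import Cfsg.Agent.Lib.Involutions.Basic
import Mathlib.LinearAlgebra.Projectivization.PSL.PSL2

/-!
The three shapes of a group with a self-centralizing subgroup of order 3, and what they say about
the normalizer of a maximal 2-subgroup normalized by an element of order 3.
-/

set_option autoImplicit false
set_option linter.style.haveILetI false

namespace Cfsg.Agent.SelfThree

open scoped commutatorElement

/-- The conclusion of the theorem. -/
def Tri (G : Type*) [Group G] : Prop :=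
  (∃ (N : Subgroup G) (hN : N.Normal), Group.IsNilpotent N ∧ (Nat.card N).Coprime 3 ∧
      (Nat.card (G ⧸ N) = 3 ∨ Nonempty (G ⧸ N ≃* Equiv.Perm (Fin 3)))) ∨
  (∃ (N : Subgroup G) (hN : N.Normal), IsMulCommutative N ∧ (∀ n ∈ N, n ^ 2 = 1) ∧
      Nonempty (G ⧸ N ≃* alternatingGroup (Fin 5))) ∨
  Nonempty (G ≃* Matrix.ProjectiveSpecialLinearGroup (Fin 2) (ZMod 7))

variable {G : Type*} [Group G] [Finite G] {x : G}
  (hx : orderOf x = 3) (hC : Subgroup.centralizer ({x} : Set G) = Subgroup.zpowers x)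

include hx hC in
/-- An element inverting an element of order 3 is an involution. -/
theorem inverter_invol {y w : G} (hy : orderOf y = 3) (hw : w * y * w⁻¹ = y⁻¹) : orderOf w = 2 := by
  have hCy := centralizer_eq hx hC hy
  have hc : w * w * y = y * (w * w) := by
    have h2 : w * (w * y * w⁻¹) * w⁻¹ = y := by
      rw [hw, show w * y⁻¹ * w⁻¹ = (w * y * w⁻¹)⁻¹ by group, hw, inv_inv]
    conv_rhs => rw [← h2]
    group
  obtain ⟨k, hk⟩ := Subgroup.mem_zpowers_iff.1 (SelfCent.mem_of_commute hCy hc)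
  have h3 : w * y ^ k * w⁻¹ = y ^ k := by rw [hk]; group
  rw [Invol.conj_zpow hw k] at h3
  have h4 : y ^ (2 * k) = 1 := by
    rw [two_mul, zpow_add]
    nth_rewrite 1 [← h3]
    rw [← zpow_add, neg_add_cancel, zpow_zero]
  rw [← orderOf_dvd_iff_zpow_eq_one, hy] at h4
  obtain ⟨m, rfl⟩ : ((3 : ℕ) : ℤ) ∣ k := by omega
  rw [zpow_mul, zpow_natCast, show y ^ 3 = 1 by rw [← hy, pow_orderOf_eq_one], one_zpow] at hk
  refine Invol.order_two_of_sq hk.symm fun e => ?_
  rw [e, one_mul, inv_one, mul_one, eq_inv_iff_mul_eq_one, ← sq, ← orderOf_dvd_iff_pow_eq_one, hy] at hw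
  omega

include hx hC in
/-- An element of order 3 normalizing a 2-group acts on it without fixed points. -/
theorem fpf_two {y : G} (hy : orderOf y = 3) {Q : Subgroup G} (hQ : IsPGroup 2 Q)
    (hn : ∀ q ∈ Q, y * q * y⁻¹ ∈ Q) : Fpf y Q := by
  refine ⟨by rw [← hy, pow_orderOf_eq_one], hn, fun q hq hc => ?_⟩
  have h1 : q ∈ Subgroup.zpowers y := SelfCent.mem_of_commute (centralizer_eq hx hC hy) hc.symm.eq
  obtain ⟨k, hk⟩ := hQ ⟨q, hq⟩
  have hk' : q ^ 2 ^ k = 1 := congrArg Subtype.val hk
  have h2 := Subgroup.orderOf_dvd_natCard _ h1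
  rw [Nat.card_zpowers, hy] at h2
  have h3 : orderOf q ∣ 2 ^ k := orderOf_dvd_of_pow_eq_one hk'
  rw [← orderOf_eq_one_iff]
  exact Nat.eq_one_of_dvd_coprimes (Nat.Coprime.pow_right k (by norm_num : Nat.Coprime 3 2)) h2 h3

theorem psl7_simple : IsSimpleGroup (Matrix.ProjectiveSpecialLinearGroup (Fin 2) (ZMod 7)) := by
  haveI : Fact (Nat.Prime 7) := ⟨by norm_num⟩
  exact Matrix.ProjectiveSpecialLinearGroup.rank_two_simple (by rw [Nat.card_zmod]; omega)

theorem perm3_facts : ∀ a b : Equiv.Perm (Fin 3), b ≠ 1 → b ^ 3 = 1 →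
    (a ≠ 1 → a * a = 1 → a * (b * a * b⁻¹) ≠ 1 ∧ (a * (b * a * b⁻¹)) ^ 3 = 1) ∧
    (a * b * a⁻¹ * b⁻¹ = 1 ∨ (a * b * a⁻¹ * b⁻¹) ^ 3 = 1) := by decide +kernel

theorem perm3_inverter : ∀ b : Equiv.Perm (Fin 3), b ≠ 1 → b ^ 3 = 1 → ∃ a, a ≠ 1 ∧ a * b * a⁻¹ = b⁻¹ := by
  decide +kernel

/-- The data of the normalizer of a maximal 2-subgroup normalized by an element of order 3. -/
structure Shape (H Q K : Subgroup G) : Prop where
  hKH : K ≤ H
  hQK : Q ≤ K
  normal : ∀ h ∈ H, ∀ k ∈ K, h * k * h⁻¹ ∈ K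
  two : ∀ k ∈ K, (∃ i : ℕ, k ^ 2 ^ i = 1) → k ∈ Q
  card_two : ∃ o, Odd o ∧ Nat.card K = Nat.card Q * o
  central : ∀ z ∈ Q, (∀ q ∈ Q, Commute z q) → ∀ k ∈ K, Commute z k
  index : (Nat.card H = 3 * Nat.card K) ∨ (Nat.card H = 6 * Nat.card K ∧
    (∃ w ∈ H, w ∉ K ∧ orderOf w = 2) ∧
    ∀ w ∈ H, w ∉ K → orderOf w = 2 → ∃ y ∈ H, y ∉ K ∧ orderOf y = 3 ∧ w * y * w⁻¹ = y⁻¹)

include hx hC in
theorem exists_shape {H Q : Subgroup G} {y : G} (hy : orderOf y = 3) (hyH : y ∈ H) (htri : Tri H)
    (hQH : Q ≤ H) (hQn : ∀ h ∈ H, ∀ q ∈ Q, h * q * h⁻¹ ∈ Q) (hQ2 : IsPGroup 2 Q) (hQ1 : Q ≠ ⊥)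
    (hmax : ∀ R : Subgroup G, IsPGroup 2 R → (∀ r ∈ R, y * r * y⁻¹ ∈ R) → Nat.card R ≤ Nat.card Q) :
    ∃ K, Shape H Q K := by
  haveI : Fact (Nat.Prime 2) := ⟨Nat.prime_two⟩
  haveI : Fact (Nat.Prime 3) := ⟨Nat.prime_three⟩
  set yH : H := ⟨y, hyH⟩ with hyHdef
  have hyo : orderOf yH = 3 := by rw [← Subgroup.orderOf_coe]; exact hy
  have hCH : Subgroup.centralizer ({yH} : Set H) = Subgroup.zpowers yH := by
    refine le_antisymm (fun h hh => ?_) (Subgroup.zpowers_le.2 (Subgroup.mem_centralizer_singleton_iff.2 rfl))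
    have h1 : (h : G) ∈ Subgroup.zpowers y := SelfCent.mem_of_commute (centralizer_eq hx hC hy)
      (congrArg Subtype.val (Subgroup.mem_centralizer_singleton_iff.1 hh))
    obtain ⟨k, hk⟩ := Subgroup.mem_zpowers_iff.1 h1
    exact Subgroup.mem_zpowers_iff.2 ⟨k, Subtype.ext (by rw [Subgroup.coe_zpow]; exact hk)⟩
  have hQF := fpf_two hx hC hy hQ2 (hQn y hyH)
  set Q' : Subgroup H := Q.subgroupOf H with hQ'
  haveI hQ'n : Q'.Normal := ⟨fun n hn g => hQn g g.2 n hn⟩
  have hQ'ne : Q' ≠ ⊥ := fun h => hQ1 ((Subgroup.subgroupOf_eq_bot.1 h).eq_bot_of_le hQH |>.trans rfl)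
  rcases htri with ⟨N, hN, hnil, hcop, hquot⟩ | ⟨N, hN, hcomm, hexp, ⟨e⟩⟩ | he
  · -- nilpotent by 3 or S₃
    have hN3 : ¬ 3 ∣ Nat.card N := fun h => by
      have := Nat.eq_one_of_dvd_coprimes hcop h dvd_rfl
      omega
    have hyN : yH ∉ N := fun h => hN3 (hyo ▸ Subgroup.orderOf_dvd_natCard N h)
    have hymap : QuotientGroup.mk' N yH ≠ 1 := fun h => hyN ((QuotientGroup.eq_one_iff _).1 h)
    have hycube : (QuotientGroup.mk' N yH) ^ 3 = 1 := by
      rw [← map_pow, ← hyo, pow_orderOf_eq_one, map_one]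
    have hQN : Q' ≤ N := by
      intro q hq
      obtain ⟨u, hu, hqu⟩ := hQF.exists_eq (q := (q : G)) hq
      set uH : H := ⟨u, hQH hu⟩
      have e : q = uH⁻¹ * (yH * uH * yH⁻¹) := Subtype.ext hqu
      obtain ⟨i, hi⟩ := hQ2 ⟨(q : G), hq⟩
      have hi' : q ^ 2 ^ i = 1 := by
        apply Subtype.ext
        rw [Subgroup.coe_pow]
        exact congrArg Subtype.val hi
      refine (QuotientGroup.eq_one_iff q).1 ?_
      have h3 : (QuotientGroup.mk' N q) ^ 3 = 1 := by
        rcases hquot with hq3 | ⟨⟨f⟩⟩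
        · have := pow_card_eq_one' (x := QuotientGroup.mk' N q)
          rwa [hq3] at this
        · apply f.injective
          rw [e, map_pow, map_mul, map_mul, map_mul, map_inv, map_inv, map_mul, map_mul, map_mul, map_inv,
            map_inv, map_one]
          have hb1 : f (QuotientGroup.mk' N yH) ≠ 1 := fun h => hymap (f.map_eq_one_iff.1 h)
          have hb3 : (f (QuotientGroup.mk' N yH)) ^ 3 = 1 := by rw [← map_pow, hycube, map_one]
          have := (perm3_facts (f (QuotientGroup.mk' N uH))⁻¹ _ hb1 hb3).2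
          rw [inv_inv] at this
          rw [← mul_assoc, ← mul_assoc]
          rcases this with h | h
          · rw [h, one_pow]
          · exact h
      have h2 : (QuotientGroup.mk' N q) ^ 2 ^ i = 1 := by rw [← map_pow, hi', map_one]
      have := pow_gcd_eq_one.2 ⟨h3, h2⟩
      rw [(Nat.Coprime.pow_right i (by norm_num : Nat.Coprime 3 2)), pow_one] at this
      exact this
    -- the Sylow 2-subgroup of `N`
    obtain ⟨P⟩ : Nonempty (Sylow 2 N) := inferInstance
    haveI : Group.IsNilpotent N := hnil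
    haveI hPn : (P : Subgroup N).Normal := inferInstance
    haveI hPc : (P : Subgroup N).Characteristic := P.characteristic_of_normal hPn
    set PH : Subgroup H := (P : Subgroup N).map N.subtype with hPH
    haveI hPHn : PH.Normal := inferInstance
    set PG : Subgroup G := PH.map H.subtype with hPG
    have hPG2 : IsPGroup 2 PG := (P.isPGroup'.map _).map _
    have hQPG : Q ≤ PG := by
      intro q hq
      have hq' : (⟨q, hQH hq⟩ : H) ∈ N := hQN hq
      obtain ⟨i, hi⟩ := hQ2 ⟨q, hq⟩
      have hzp : IsPGroup 2 (Subgroup.zpowers (⟨_, hq'⟩ : N)) := by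
        rintro ⟨w, hw⟩
        obtain ⟨k, rfl⟩ := Subgroup.mem_zpowers_iff.1 hw
        refine ⟨i, Subtype.ext ?_⟩
        show ((⟨_, hq'⟩ : N) ^ k) ^ 2 ^ i = 1
        rw [← zpow_natCast, ← zpow_mul, mul_comm, zpow_mul, zpow_natCast,
          show (⟨_, hq'⟩ : N) ^ 2 ^ i = 1 from Subtype.ext (Subtype.ext (by
            rw [Subgroup.coe_pow, Subgroup.coe_pow]; exact congrArg Subtype.val hi)), one_zpow]
      obtain ⟨P', hP'⟩ := hzp.exists_le_sylow
      haveI : Unique (Sylow 2 N) := Sylow.unique_of_normal P hPn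
      rw [Subsingleton.elim P' P] at hP'
      exact ⟨_, ⟨_, hP' (Subgroup.mem_zpowers _), rfl⟩, rfl⟩
    have hPGeq : PG = Q := (Subgroup.eq_of_le_of_card_ge hQPG (hmax PG hPG2 fun r hr => by
      obtain ⟨p, hp, rfl⟩ := hr
      exact ⟨yH * p * yH⁻¹, hPHn.conj_mem p hp yH, rfl⟩)).symm
    set K : Subgroup G := N.map H.subtype with hK
    have hcardK : Nat.card K = Nat.card N := Subgroup.card_map_of_injective H.subtype_injective
    have hcardQ : Nat.card Q = Nat.card (P : Subgroup N) := by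
      rw [← hPGeq, hPG, hPH, Subgroup.card_map_of_injective H.subtype_injective,
        Subgroup.card_map_of_injective N.subtype_injective]
    have hmemK : ∀ {k : H}, (k : G) ∈ K ↔ k ∈ N := fun {k} =>
      Subgroup.mem_map_iff_mem H.subtype_injective
    refine ⟨K, ?_, fun q hq => (hmemK (k := ⟨q, hQH hq⟩)).2 (hQN hq), ?_, ?_, ?_, ?_, ?_⟩
    · rintro _ ⟨k, -, rfl⟩; exact k.2
    · rintro h hh _ ⟨k, hk, rfl⟩
      exact ⟨⟨h, hh⟩ * k * ⟨h, hh⟩⁻¹, hN.conj_mem k hk _, rfl⟩
    · rintro _ ⟨k, hk, rfl⟩ ⟨i, hi⟩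
      rw [← hPGeq]
      have hzp : IsPGroup 2 (Subgroup.zpowers (⟨k, hk⟩ : N)) := by
        rintro ⟨w, hw⟩
        obtain ⟨j, rfl⟩ := Subgroup.mem_zpowers_iff.1 hw
        refine ⟨i, Subtype.ext ?_⟩
        show ((⟨k, hk⟩ : N) ^ j) ^ 2 ^ i = 1
        rw [← zpow_natCast, ← zpow_mul, mul_comm, zpow_mul, zpow_natCast,
          show (⟨k, hk⟩ : N) ^ 2 ^ i = 1 from Subtype.ext (Subtype.ext hi), one_zpow]
      obtain ⟨P', hP'⟩ := hzp.exists_le_sylow
      haveI : Unique (Sylow 2 N) := Sylow.unique_of_normal P hPn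
      rw [Subsingleton.elim P' P] at hP'
      exact ⟨_, ⟨_, hP' (Subgroup.mem_zpowers _), rfl⟩, rfl⟩
    · refine ⟨(P : Subgroup N).index, ?_, ?_⟩
      · exact Nat.odd_iff.2 (Nat.two_dvd_ne_zero.1 (Sylow.not_dvd_index P))
      · rw [hcardK, hcardQ, Subgroup.card_mul_index]
    · rintro z hz hzc _ ⟨k, hk, rfl⟩
      have hzN : (⟨z, hQH hz⟩ : H) ∈ N := hQN hz
      set C : Subgroup N := Subgroup.centralizer {(⟨_, hzN⟩ : N)}
      suffices h : C = ⊤ by
        have h1 : (⟨k, hk⟩ : N) ∈ C := h ▸ Subgroup.mem_top _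
        exact (congrArg (fun n : N => ((n : H) : G)) (Subgroup.mem_centralizer_singleton_iff.1 h1)).symm
      rw [← Subgroup.index_eq_one, Nat.eq_one_iff_not_exists_prime_dvd]
      intro p hp hdvd
      haveI : Fact p.Prime := ⟨hp⟩
      obtain ⟨S⟩ : Nonempty (Sylow p N) := inferInstance
      have hSC : (S : Subgroup N) ≤ C := by
        intro s hs
        refine Subgroup.mem_centralizer_singleton_iff.2 ?_
        by_cases hp2 : p = 2
        · subst hp2
          haveI : Unique (Sylow 2 N) := Sylow.unique_of_normal P hPn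
          rw [Subsingleton.elim S P] at hs
          have hsQ : ((s : H) : G) ∈ Q := hPGeq ▸ (⟨_, ⟨_, hs, rfl⟩, rfl⟩ : _ ∈ PG)
          exact Subtype.ext (Subtype.ext (hzc _ hsQ).symm.eq)
        · obtain ⟨i, hi⟩ := IsPGroup.iff_orderOf.1 hQ2 ⟨z, hz⟩
          obtain ⟨j, hj⟩ := IsPGroup.iff_orderOf.1 S.isPGroup' ⟨s, hs⟩
          refine (FixedPointFreeThompson.commute_of_nilpotent (p := 2) (k := i)
            (x := (⟨_, hzN⟩ : N)) (g := s) ?_ ?_)
          · rw [← Subgroup.orderOf_coe, ← Subgroup.orderOf_coe]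
            rw [← Subgroup.orderOf_coe] at hi
            exact hi
          · rw [← Subgroup.orderOf_coe] at hj
            rw [hj]
            exact Nat.Coprime.pow_left j ((Nat.coprime_primes hp Nat.prime_two).2 hp2)
      exact Sylow.not_dvd_index S (hdvd.trans (Subgroup.index_dvd_of_le hSC))
    · have hcardH : Nat.card H = Nat.card (H ⧸ N) * Nat.card K := by
        rw [hcardK]; exact Subgroup.card_eq_card_quotient_mul_card_subgroup N
      rcases hquot with hq3 | ⟨⟨f⟩⟩
      · exact Or.inl (by rw [hcardH, hq3])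
      · refine Or.inr ⟨by rw [hcardH, Nat.card_congr f.toEquiv, Nat.card_perm, Nat.card_fin]; rfl, ?_, ?_⟩
        · obtain ⟨a, ha1, ha⟩ := perm3_inverter (f (QuotientGroup.mk' N yH))
            (fun h => hymap (f.map_eq_one_iff.1 h)) (by rw [← map_pow, hycube, map_one])
          obtain ⟨g, hg⟩ := QuotientGroup.mk'_surjective N (f.symm a)
          have hgy : g * yH * g⁻¹ * yH ∈ N := by
            refine (QuotientGroup.eq_one_iff _).1 (f.injective ?_)
            rw [← QuotientGroup.mk'_apply, map_mul, map_mul, map_mul, map_inv, map_mul, map_mul, map_mul,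
              map_inv, hg, f.apply_symm_apply, ha, inv_mul_cancel, map_one]
          have hyo' : orderOf yH⁻¹ = 3 := by rw [orderOf_inv, hyo]
          obtain ⟨u, hu, hu'⟩ := SelfCent.exists_conj (p := 3) hyo'
            (by rw [centralizer_eq hyo hCH hyo']) N hN3 hgy
          set w : H := u⁻¹ * g
          have hw : w * yH * w⁻¹ = yH⁻¹ := by
            calc w * yH * w⁻¹ = u⁻¹ * (g * yH * g⁻¹ * yH * yH⁻¹) * u := by simp only [w]; group
              _ = u⁻¹ * (u * yH⁻¹ * u⁻¹) * u := by rw [hu']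
              _ = _ := by group
          refine ⟨w, w.2, fun h => ?_, ?_⟩
          · refine ha1 ?_
            have h' : w ∈ N := hmemK.1 h
            have hgN : g ∈ N := by
              have := mul_mem hu h'
              rwa [show u * w = g by simp only [w]; group] at this
            rw [show QuotientGroup.mk' N g = 1 from (QuotientGroup.eq_one_iff g).2 hgN] at hg
            rw [← f.apply_symm_apply a, ← hg, map_one]
          · exact inverter_invol hx hC hy (congrArg Subtype.val hw)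
        · intro w hw hwK hw2
          set wH : H := ⟨w, hw⟩
          have ha1 : f (QuotientGroup.mk' N wH) ≠ 1 := fun h => hwK ((hmemK (k := wH)).2
            ((QuotientGroup.eq_one_iff _).1 (f.map_eq_one_iff.1 h)))
          have ha2 : f (QuotientGroup.mk' N wH) * f (QuotientGroup.mk' N wH) = 1 := by
            rw [← map_mul, ← map_mul, show wH * wH = 1 from Subtype.ext (Invol.mul_self hw2), map_one, map_one]
          have hb := (perm3_facts (f (QuotientGroup.mk' N wH)) _
            (fun h => hymap (f.map_eq_one_iff.1 h)) (by rw [← map_pow, hycube, map_one])).1 ha1 ha2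
          have hcube : Cube N (wH * (yH * wH * yH⁻¹)) := by
            refine (cube_iff N f).2 ?_
            simpa only [map_mul, map_inv] using hb
          have hF := fpf_of_cube hyo hCH N hN3 hcube
          set y' : G := w * (y * w * y⁻¹)
          have hy'3 : y' ^ 3 = 1 := congrArg Subtype.val hF.cube
          have hy'K : y' ∉ K := fun h => hcube.1 ((hmemK (k := wH * (yH * wH * yH⁻¹))).1 h)
          refine ⟨y', mul_mem hw (mul_mem (mul_mem hyH hw) (inv_mem hyH)), hy'K,
            orderOf_eq_prime hy'3 fun h => hy'K (h ▸ one_mem _), ?_⟩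
          have e2 : (y * w * y⁻¹) * (y * w * y⁻¹) = 1 := by
            rw [show (y * w * y⁻¹) * (y * w * y⁻¹) = y * (w * w) * y⁻¹ by group, Invol.mul_self hw2]; group
          calc w * (w * (y * w * y⁻¹)) * w⁻¹ = (w * w) * (y * w * y⁻¹) * w⁻¹ := by group
            _ = (y * w * y⁻¹)⁻¹ * w⁻¹ := by
                rw [Invol.mul_self hw2, one_mul, inv_eq_of_mul_eq_one_left e2]
            _ = y'⁻¹ := by simp only [y']; group
  · -- `A₅` on top contradicts maximality
    exfalso
    haveI : IsSimpleGroup (alternatingGroup (Fin 5)) := alternatingGroup.isSimpleGroup_five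
    set π : H →* alternatingGroup (Fin 5) := e.toMonoidHom.comp (QuotientGroup.mk' N) with hπ
    have hπs : Function.Surjective π := e.surjective.comp (QuotientGroup.mk'_surjective N)
    have hker : ∀ h, π h = 1 ↔ h ∈ N := fun h => (mem_iff_map N e).symm
    have hN2 : IsPGroup 2 N := fun n => ⟨1, Subtype.ext (hexp n n.2)⟩
    have hQN : Q' ≤ N := by
      rcases (IsSimpleGroup.eq_bot_or_eq_top_of_normal (Q'.map π) (Subgroup.Normal.map hQ'n π hπs)) with h | h
      · exact fun q hq => (hker q).1 (Subgroup.mem_bot.1 (h ▸ Subgroup.mem_map_of_mem π hq))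
      · exfalso
        have h2 : IsPGroup 2 (Q'.map π) := ((hQ2.comap_subtype (K := H))).map π
        rw [h] at h2
        obtain ⟨k, hk⟩ := IsPGroup.iff_card.1 (h2.of_equiv Subgroup.topEquiv)
        rw [nat_card_alternatingGroup, Nat.card_fin] at hk
        have : 3 ∣ 2 ^ k := hk ▸ (by decide)
        exact absurd (Nat.prime_three.dvd_of_dvd_pow this) (by norm_num)
    have hπy : π yH ≠ 1 := fun h => by
      have h1 := Subtype.ext_iff.1 (show (⟨yH, (hker yH).1 h⟩ : N) ^ 2 = 1 from Subtype.ext (hexp _ ((hker yH).1 h)))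
      rw [Subgroup.coe_pow, Subgroup.coe_one] at h1
      have h2 := orderOf_dvd_of_pow_eq_one h1
      rw [hyo] at h2
      omega
    obtain ⟨z, hz1, hz2, hzc, hzy⟩ := alt5_four (π yH) hπy (by rw [← map_pow, ← hyo, pow_orderOf_eq_one, map_one])
    set W : Subgroup (alternatingGroup (Fin 5)) := Subgroup.closure {z, π yH * z * (π yH)⁻¹} with hW
    have hW2 : IsPGroup 2 W := by
      haveI : IsMulCommutative W := Subgroup.isMulCommutative_closure (by
        rintro a (rfl | rfl) b (rfl | rfl)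
        exacts [rfl, hzc, hzc.symm, rfl])
      intro w
      refine ⟨1, ?_⟩
      have : ∀ w (hw : w ∈ W), w * w = 1 := by
        intro w hw
        induction hw using Subgroup.closure_induction with
        | mem a ha =>
          rcases ha with rfl | rfl
          · exact hz2
          · rw [show π yH * z * (π yH)⁻¹ * (π yH * z * (π yH)⁻¹) = π yH * (z * z) * (π yH)⁻¹ by group, hz2]
            group
        | one => simp
        | mul a b ha hb iha ihb =>
          have hc : a * b = b * a := congrArg Subtype.val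
            (IsMulCommutative.is_comm.comm (⟨a, ha⟩ : W) ⟨b, hb⟩)
          calc a * b * (a * b) = a * (b * a) * b := by group
            _ = a * (a * b) * b := by rw [hc]
            _ = (a * a) * (b * b) := by group
            _ = 1 := by rw [iha, ihb, one_mul]
        | inv a _ iha => rw [← mul_inv_rev, iha, inv_one]
      rw [pow_one, sq]
      exact Subtype.ext (this w w.2)
    have hWy : ∀ w ∈ W, π yH * w * (π yH)⁻¹ ∈ W := by
      intro w hw
      induction hw using Subgroup.closure_induction with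
      | mem a ha =>
        rcases ha with rfl | rfl
        · exact Subgroup.subset_closure (Or.inr rfl)
        · have e3 : π yH * π yH = (π yH)⁻¹ := by
            rw [← map_mul, ← map_inv]; congr 1
            exact eq_inv_of_mul_eq_one_right (by
              rw [← pow_three, ← hyo, pow_orderOf_eq_one])
          rw [show π yH * (π yH * z * (π yH)⁻¹) * (π yH)⁻¹ = π yH * π yH * z * (π yH * π yH)⁻¹ by group,
            e3, inv_inv, ← hzy]
          exact mul_mem (Subgroup.subset_closure (Or.inl rfl)) (Subgroup.subset_closure (Or.inr rfl))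
      | one => simp
      | mul a b _ _ iha ihb =>
        rw [show π yH * (a * b) * (π yH)⁻¹ = (π yH * a * (π yH)⁻¹) * (π yH * b * (π yH)⁻¹) by group]
        exact mul_mem iha ihb
      | inv a _ iha =>
        rw [show π yH * a⁻¹ * (π yH)⁻¹ = (π yH * a * (π yH)⁻¹)⁻¹ by group]
        exact inv_mem iha
    set R : Subgroup H := W.comap π with hR
    have hR2 : IsPGroup 2 R := by
      intro r
      obtain ⟨i, hi⟩ := hW2 ⟨π r, r.2⟩
      have h1 : ((r : H) ^ 2 ^ i) ∈ N := (hker _).1 (by rw [map_pow]; exact congrArg Subtype.val hi)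
      refine ⟨i + 1, Subtype.ext ?_⟩
      rw [Subgroup.coe_pow, pow_succ, pow_mul]
      exact congrArg (fun n : N => (n : H)) (Subtype.ext (hexp _ h1) : (⟨_, h1⟩ : N) ^ 2 = 1)
    have hmaxR := hmax (R.map H.subtype) (hR2.map _) (fun r hr => by
      obtain ⟨p, hp, rfl⟩ := hr
      refine ⟨yH * p * yH⁻¹, ?_, rfl⟩
      show π (yH * p * yH⁻¹) ∈ W
      rw [map_mul, map_mul, map_inv]
      exact hWy _ hp)
    obtain ⟨zH, hzH⟩ := hπs z
    have hlt : Nat.card N < Nat.card R := by
      refine lt_of_le_of_ne (Subgroup.card_le_of_le fun n hn => ?_) fun he => ?_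
      · show π n ∈ W
        rw [(hker n).2 hn]; exact one_mem _
      · have hNR : N = R := Subgroup.eq_of_le_of_card_ge (fun n hn => by
          show π n ∈ W
          rw [(hker n).2 hn]; exact one_mem _) he.ge
        have : zH ∈ R := by
          show π zH ∈ W
          rw [hzH]; exact Subgroup.subset_closure (Or.inl rfl)
        rw [← hNR] at this
        exact hz1 (hzH ▸ (hker zH).2 this)
    rw [Subgroup.card_map_of_injective H.subtype_injective] at hmaxR
    have hQle : Nat.card Q ≤ Nat.card N := by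
      rw [← Nat.card_congr (Subgroup.subgroupOfEquivOfLe hQH).toEquiv]
      exact Subgroup.card_le_of_le hQN
    omega
  · -- `L₂(7)` has no normal 2-subgroup
    exfalso
    obtain ⟨e⟩ := he
    haveI : IsSimpleGroup (Matrix.ProjectiveSpecialLinearGroup (Fin 2) (ZMod 7)) := psl7_simple
    haveI : Nontrivial H := e.toEquiv.nontrivial
    haveI : IsSimpleGroup H := IsSimpleGroup.isSimpleGroup_of_surjective e.symm.toMonoidHom e.symm.surjective
    rcases hQ'n.eq_bot_or_eq_top with h | h
    · exact hQ'ne h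
    · have h2 : IsPGroup 2 H := by
        have := (hQ2.comap_subtype (K := H))
        rw [show Q.comap H.subtype = ⊤ from h] at this
        exact this.of_equiv Subgroup.topEquiv
      obtain ⟨k, hk⟩ := IsPGroup.iff_card.1 h2
      have h3 : 3 ∣ 2 ^ k := hk ▸ hyo ▸ orderOf_dvd_natCard yH
      exact absurd (Nat.prime_three.dvd_of_dvd_pow h3) (by norm_num)

end Cfsg.Agent.SelfThree
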